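import Groth.Agent.Localalg.InjDim
import Mathlib.Algebra.Homology.ShortComplex.ModuleCat
import Mathlib.Algebra.Homology.DerivedCategory.Ext.Linear
import Mathlib.Algebra.Category.ModuleCat.Projective
import Mathlib.RingTheory.Length

/-!
# `Ext` of modules in terms of linear maps
-/

set_option autoImplicit false
universe u

open CategoryTheory Abelian

namespace K839.ExtTools

variable {A : Type u} [CommRing A]

section defs

variable {M₁ M₂ M₃ : Type u} [AddCommGroup M₁] [Module A M₁] [AddCommGroup M₂] [Module A M₂]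
  [AddCommGroup M₃] [Module A M₃]

/-- The short complex of two linear maps. -/
abbrev sc (f : M₁ →ₗ[A] M₂) (g : M₂ →ₗ[A] M₃) (h : Function.Exact f g) :
    ShortComplex (ModuleCat.{u} A) :=
  ModuleCat.shortComplexOfCompEqZero f g h.linearMap_comp_eq_zero

lemma sc_shortExact {f : M₁ →ₗ[A] M₂} {g : M₂ →ₗ[A] M₃} (h : Function.Exact f g)
    (hf : Function.Injective f) (hg : Function.Surjective g) : (sc f g h).ShortExact :=
  ModuleCat.shortComplex_shortExact _ h hf hg

/-- Degree zero. -/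
noncomputable def ext0 (M N : Type u) [AddCommGroup M] [Module A M] [AddCommGroup N] [Module A N] :
    (M →ₗ[A] N) ≃ₗ[A] Ext (ModuleCat.of A M) (ModuleCat.of A N) 0 :=
  (ModuleCat.homLinearEquiv (S := A) (M := ModuleCat.of A M) (N := ModuleCat.of A N)).symm.trans
    (Ext.linearEquiv₀ (R := A)).symm

lemma ext0_apply (M N : Type u) [AddCommGroup M] [Module A M] [AddCommGroup N] [Module A N]
    (f : M →ₗ[A] N) : ext0 M N f = Ext.mk₀ (ModuleCat.ofHom f) := rfl

/-- The connecting map `Hom(M₁, N) → Ext¹(M₃, N)`. -/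
noncomputable def deltaContra {f : M₁ →ₗ[A] M₂} {g : M₂ →ₗ[A] M₃} (h : Function.Exact f g)
    (hf : Function.Injective f) (hg : Function.Surjective g)
    (N : Type u) [AddCommGroup N] [Module A N] :
    (M₁ →ₗ[A] N) →ₗ[A] Ext (ModuleCat.of A M₃) (ModuleCat.of A N) 1 :=
  (Ext.precompOfLinear (X := ModuleCat.of A M₃) (Y := ModuleCat.of A M₁)
    (sc_shortExact h hf hg).extClass A (ModuleCat.of A N) (add_zero 1)) ∘ₗ (ext0 M₁ N).toLinearMap

lemma ker_deltaContra {f : M₁ →ₗ[A] M₂} {g : M₂ →ₗ[A] M₃} (h : Function.Exact f g)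
    (hf : Function.Injective f) (hg : Function.Surjective g)
    (N : Type u) [AddCommGroup N] [Module A N] :
    LinearMap.ker (deltaContra h hf hg N) = LinearMap.range (LinearMap.lcomp A N f) := by
  ext φ
  rw [LinearMap.mem_ker]
  constructor
  · intro hφ
    obtain ⟨y, hy⟩ := Ext.contravariant_sequence_exact₁ (sc_shortExact h hf hg) (ModuleCat.of A N)
      (ext0 M₁ N φ) (add_zero 1) hφ
    obtain ⟨ψ, rfl⟩ := (ext0 M₂ N).surjective y
    refine ⟨ψ, ?_⟩
    apply (ext0 M₁ N).injective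
    rw [← hy, ext0_apply, ext0_apply]
    change _ = (Ext.mk₀ (ModuleCat.ofHom f)).comp (Ext.mk₀ (ModuleCat.ofHom ψ)) (zero_add 0)
    rw [Ext.mk₀_comp_mk₀]
    rfl
  · rintro ⟨ψ, rfl⟩
    have h1 : ext0 M₁ N (LinearMap.lcomp A N f ψ) =
        (Ext.mk₀ (ModuleCat.ofHom f)).comp (Ext.mk₀ (ModuleCat.ofHom ψ)) (zero_add 0) := by
      rw [Ext.mk₀_comp_mk₀]
      rfl
    change ((sc_shortExact h hf hg).extClass).comp (ext0 M₁ N (LinearMap.lcomp A N f ψ)) (add_zero 1) = 0
    rw [h1]
    exact (sc_shortExact h hf hg).extClass_comp_assoc (γ := Ext.mk₀ (ModuleCat.ofHom ψ)) (h := add_zero 1)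

lemma surjective_deltaContra {f : M₁ →ₗ[A] M₂} {g : M₂ →ₗ[A] M₃} (h : Function.Exact f g)
    (hf : Function.Injective f) (hg : Function.Surjective g)
    (N : Type u) [AddCommGroup N] [Module A N]
    (hE : Subsingleton (Ext (ModuleCat.of A M₂) (ModuleCat.of A N) 1)) :
    Function.Surjective (deltaContra h hf hg N) := by
  intro x
  obtain ⟨y, hy⟩ := Ext.contravariant_sequence_exact₃ (sc_shortExact h hf hg) (ModuleCat.of A N)
    x (hE.elim _ _) (add_zero 1)
  obtain ⟨ψ, rfl⟩ := (ext0 M₁ N).surjective y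
  exact ⟨ψ, hy⟩

/-- `Ext¹(M₃, N)` as the cokernel of `Hom(M₂, N) → Hom(M₁, N)`. -/
noncomputable def ext1Contra {f : M₁ →ₗ[A] M₂} {g : M₂ →ₗ[A] M₃} (h : Function.Exact f g)
    (hf : Function.Injective f) (hg : Function.Surjective g)
    (N : Type u) [AddCommGroup N] [Module A N]
    (hE : Subsingleton (Ext (ModuleCat.of A M₂) (ModuleCat.of A N) 1)) :
    ((M₁ →ₗ[A] N) ⧸ LinearMap.range (LinearMap.lcomp A N f)) ≃ₗ[A]
      Ext (ModuleCat.of A M₃) (ModuleCat.of A N) 1 :=
  (Submodule.quotEquivOfEq _ _ (ker_deltaContra h hf hg N).symm).trans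
    ((deltaContra h hf hg N).quotKerEquivOfSurjective (surjective_deltaContra h hf hg N hE))

/-- The connecting map `Hom(N, M₃) → Ext¹(N, M₁)`. -/
noncomputable def deltaCov {f : M₁ →ₗ[A] M₂} {g : M₂ →ₗ[A] M₃} (h : Function.Exact f g)
    (hf : Function.Injective f) (hg : Function.Surjective g)
    (N : Type u) [AddCommGroup N] [Module A N] :
    (N →ₗ[A] M₃) →ₗ[A] Ext (ModuleCat.of A N) (ModuleCat.of A M₁) 1 :=
  (Ext.postcompOfLinear (Y := ModuleCat.of A M₃) (Z := ModuleCat.of A M₁)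
    (sc_shortExact h hf hg).extClass A (ModuleCat.of A N) (zero_add 1)) ∘ₗ (ext0 N M₃).toLinearMap

lemma ker_deltaCov {f : M₁ →ₗ[A] M₂} {g : M₂ →ₗ[A] M₃} (h : Function.Exact f g)
    (hf : Function.Injective f) (hg : Function.Surjective g)
    (N : Type u) [AddCommGroup N] [Module A N] :
    LinearMap.ker (deltaCov h hf hg N) = LinearMap.range (LinearMap.compRight A (M := N) g) := by
  ext φ
  rw [LinearMap.mem_ker]
  constructor
  · intro hφ
    obtain ⟨y, hy⟩ := Ext.covariant_sequence_exact₃ (ModuleCat.of A N) (sc_shortExact h hf hg)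
      (ext0 N M₃ φ) (zero_add 1) hφ
    obtain ⟨ψ, rfl⟩ := (ext0 N M₂).surjective y
    refine ⟨ψ, ?_⟩
    apply (ext0 N M₃).injective
    rw [← hy, ext0_apply, ext0_apply]
    change _ = (Ext.mk₀ (ModuleCat.ofHom ψ)).comp (Ext.mk₀ (ModuleCat.ofHom g)) (zero_add 0)
    rw [Ext.mk₀_comp_mk₀]
    rfl
  · rintro ⟨ψ, rfl⟩
    have h1 : ext0 N M₃ (LinearMap.compRight A (M := N) g ψ) =
        (Ext.mk₀ (ModuleCat.ofHom ψ)).comp (Ext.mk₀ (ModuleCat.ofHom g)) (zero_add 0) := by
      rw [Ext.mk₀_comp_mk₀]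
      rfl
    change (ext0 N M₃ (LinearMap.compRight A (M := N) g ψ)).comp
      ((sc_shortExact h hf hg).extClass) (zero_add 1) = 0
    rw [h1, Ext.comp_assoc_of_second_deg_zero]
    have h2 : (Ext.mk₀ (ModuleCat.ofHom g)).comp ((sc_shortExact h hf hg).extClass) (zero_add 1) = 0 :=
      (sc_shortExact h hf hg).comp_extClass
    rw [h2, Ext.comp_zero]

lemma surjective_deltaCov {f : M₁ →ₗ[A] M₂} {g : M₂ →ₗ[A] M₃} (h : Function.Exact f g)
    (hf : Function.Injective f) (hg : Function.Surjective g)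
    (N : Type u) [AddCommGroup N] [Module A N]
    (hE : Subsingleton (Ext (ModuleCat.of A N) (ModuleCat.of A M₂) 1)) :
    Function.Surjective (deltaCov h hf hg N) := by
  intro x
  obtain ⟨y, hy⟩ := Ext.covariant_sequence_exact₁ (ModuleCat.of A N) (sc_shortExact h hf hg)
    x (hE.elim _ _) (zero_add 1)
  obtain ⟨ψ, rfl⟩ := (ext0 N M₃).surjective y
  exact ⟨ψ, hy⟩

/-- `Ext¹(N, M₁)` as the cokernel of `Hom(N, M₂) → Hom(N, M₃)`. -/
noncomputable def ext1Cov {f : M₁ →ₗ[A] M₂} {g : M₂ →ₗ[A] M₃} (h : Function.Exact f g)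
    (hf : Function.Injective f) (hg : Function.Surjective g)
    (N : Type u) [AddCommGroup N] [Module A N]
    (hE : Subsingleton (Ext (ModuleCat.of A N) (ModuleCat.of A M₂) 1)) :
    ((N →ₗ[A] M₃) ⧸ LinearMap.range (LinearMap.compRight A (M := N) g)) ≃ₗ[A]
      Ext (ModuleCat.of A N) (ModuleCat.of A M₁) 1 :=
  (Submodule.quotEquivOfEq _ _ (ker_deltaCov h hf hg N).symm).trans
    ((deltaCov h hf hg N).quotKerEquivOfSurjective (surjective_deltaCov h hf hg N hE))

/-- contravariant dimension shift -/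
noncomputable def shiftContra {f : M₁ →ₗ[A] M₂} {g : M₂ →ₗ[A] M₃} (h : Function.Exact f g)
    (hf : Function.Injective f) (hg : Function.Surjective g)
    (N : Type u) [AddCommGroup N] [Module A N] (n : ℕ)
    (h₀ : Subsingleton (Ext (ModuleCat.of A M₂) (ModuleCat.of A N) n))
    (h' : Subsingleton (Ext (ModuleCat.of A M₂) (ModuleCat.of A N) (n + 1))) :
    Ext (ModuleCat.of A M₁) (ModuleCat.of A N) n ≃ₗ[A]
      Ext (ModuleCat.of A M₃) (ModuleCat.of A N) (n + 1) :=
  LinearEquiv.ofBijective (Ext.precompOfLinear (X := ModuleCat.of A M₃) (Y := ModuleCat.of A M₁)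
    (sc_shortExact h hf hg).extClass A (ModuleCat.of A N) (add_comm 1 n)) (by
    constructor
    · rw [← LinearMap.ker_eq_bot, eq_bot_iff]
      intro y hy
      obtain ⟨z, hz⟩ := Ext.contravariant_sequence_exact₁ (sc_shortExact h hf hg)
        (ModuleCat.of A N) y (add_comm 1 n) hy
      rw [Submodule.mem_bot, ← hz]
      have hz0 : z = 0 := h₀.elim z 0
      rw [hz0, Ext.comp_zero]
    · intro y
      exact Ext.contravariant_sequence_exact₃ (sc_shortExact h hf hg)
        (ModuleCat.of A N) y (h'.elim _ _) (add_comm 1 n))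

/-- covariant dimension shift -/
noncomputable def shiftCov {f : M₁ →ₗ[A] M₂} {g : M₂ →ₗ[A] M₃} (h : Function.Exact f g)
    (hf : Function.Injective f) (hg : Function.Surjective g)
    (N : Type u) [AddCommGroup N] [Module A N] (n : ℕ)
    (h₀ : Subsingleton (Ext (ModuleCat.of A N) (ModuleCat.of A M₂) n))
    (h' : Subsingleton (Ext (ModuleCat.of A N) (ModuleCat.of A M₂) (n + 1))) :
    Ext (ModuleCat.of A N) (ModuleCat.of A M₃) n ≃ₗ[A]
      Ext (ModuleCat.of A N) (ModuleCat.of A M₁) (n + 1) :=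
  LinearEquiv.ofBijective (Ext.postcompOfLinear (Y := ModuleCat.of A M₃) (Z := ModuleCat.of A M₁)
    (sc_shortExact h hf hg).extClass A (ModuleCat.of A N) rfl) (by
    constructor
    · rw [← LinearMap.ker_eq_bot, eq_bot_iff]
      intro y hy
      obtain ⟨z, hz⟩ := Ext.covariant_sequence_exact₃ (ModuleCat.of A N) (sc_shortExact h hf hg)
        y rfl hy
      rw [Submodule.mem_bot, ← hz]
      have hz0 : z = 0 := h₀.elim z 0
      rw [hz0, Ext.zero_comp]
    · intro y
      exact Ext.covariant_sequence_exact₁ (ModuleCat.of A N) (sc_shortExact h hf hg) y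
        (h'.elim _ _) rfl)

end defs

/-- Ext into a module of injective dimension at most `d` vanishes above `d`. -/
lemma subsingleton_of_injDim {N : Type u} [AddCommGroup N] [Module A N] (d : ℕ)
    (hN : HasInjectiveDimensionLT (ModuleCat.of A N) d) (M : Type u) [AddCommGroup M] [Module A M]
    (i : ℕ) (hi : d ≤ i) : Subsingleton (Ext (ModuleCat.of A M) (ModuleCat.of A N) i) :=
  subsingleton_of_forall_eq 0 fun e => Ext.eq_zero_of_hasInjectiveDimensionLT e d hi

lemma subsingleton_of_projective (P : Type u) [AddCommGroup P] [Module A P] [Module.Projective A P]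
    (N : Type u) [AddCommGroup N] [Module A N] (i : ℕ) (hi : 1 ≤ i) :
    Subsingleton (Ext (ModuleCat.of A P) (ModuleCat.of A N) i) := by
  obtain ⟨i, rfl⟩ := Nat.exists_eq_add_of_le' hi
  have : Projective (ModuleCat.of A P) := (IsProjective.iff_projective _).1 inferInstance
  exact Ext.subsingleton_of_projective _ _ _

end K839.ExtTools
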