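import Groth.Agent.TFCurv.K839.DualLat

/-!
# The conductor
-/

set_option autoImplicit false
set_option linter.unusedSectionVars false
universe u

open K839.Rl K839.Canon K839.DualLat

namespace K839.Cond

variable {O K : Type u} [CommRing O] [IsDomain O] [Field K] [Algebra O K] [IsFractionRing O K]

/-- The conductor of `S` in `O`, as a submodule of `K`. -/
def condK (O : Type u) [CommRing O] {K : Type u} [Field K] [Algebra O K] (S : Subalgebra O K) : Submodule O K :=
  dl (1 : Submodule O K) (LinearMap.mul K K) (Subalgebra.toSubmodule S)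

theorem mem_condK {S : Subalgebra O K} {x : K} :
    x ∈ condK O S ↔ ∀ y ∈ S, x * y ∈ (1 : Submodule O K) := Iff.rfl

theorem condK_le_one (S : Subalgebra O K) : condK O S ≤ 1 := by
  intro x hx
  have := hx 1 S.one_mem
  simpa using this

theorem one_le (S : Subalgebra O K) : (1 : Submodule O K) ≤ Subalgebra.toSubmodule S := by
  intro y hy
  obtain ⟨r, rfl⟩ := Submodule.mem_one.1 hy
  exact S.algebraMap_mem r

theorem mul_mem_condK {S : Subalgebra O K} {x s : K} (hx : x ∈ condK O S) (hs : s ∈ S) : x * s ∈ condK O S := by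
  intro y hy
  rw [LinearMap.mul_apply', mul_assoc]
  exact hx _ (S.mul_mem hs hy)

theorem mem_colon {S : Subalgebra O K} {r : O} :
    r ∈ (1 : Submodule O K).colon (Subalgebra.toSubmodule S) ↔ algebraMap O K r ∈ condK O S := by
  rw [Submodule.mem_colon]
  constructor
  · intro h y hy
    have := h y hy
    rwa [Algebra.smul_def] at this
  · intro h y hy
    have := h y hy
    rwa [Algebra.smul_def]

/-- The image of the conductor ideal in `K`. -/
theorem colon_smul_one (S : Subalgebra O K) :
    ((1 : Submodule O K).colon (Subalgebra.toSubmodule S)) • (1 : Submodule O K) = condK O S := by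
  apply le_antisymm
  · rw [Submodule.smul_le]
    intro r hr y hy
    rw [mem_colon] at hr
    rw [Algebra.smul_def]
    exact mul_mem_condK hr (one_le S hy)
  · intro x hx
    obtain ⟨r, rfl⟩ := Submodule.mem_one.1 (condK_le_one S hx)
    have h1 : algebraMap O K r = r • (1 : K) := by rw [Algebra.smul_def, mul_one]
    rw [h1]
    exact Submodule.smul_mem_smul (mem_colon.2 hx) (Submodule.mem_one.2 ⟨1, map_one _⟩)

/-- `C · S = C`. -/
theorem map_colon_smul_top (S : Subalgebra O K) :
    (((1 : Submodule O K).colon (Subalgebra.toSubmodule S)) • (⊤ : Submodule O S)).map S.val.toLinearMap =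
      condK O S := by
  rw [Submodule.map_smul'']
  have hr : (⊤ : Submodule O S).map S.val.toLinearMap = Subalgebra.toSubmodule S := by
    ext z
    exact ⟨fun ⟨y, _, hy⟩ => hy ▸ y.2, fun hz => ⟨⟨z, hz⟩, trivial, rfl⟩⟩
  rw [hr]
  apply le_antisymm
  · rw [Submodule.smul_le]
    intro r hr y hy
    rw [mem_colon] at hr
    rw [Algebra.smul_def]
    exact mul_mem_condK hr hy
  · intro x hx
    obtain ⟨r, rfl⟩ := Submodule.mem_one.1 (condK_le_one S hx)
    have h1 : algebraMap O K r = r • (1 : K) := by rw [Algebra.smul_def, mul_one]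
    rw [h1]
    exact Submodule.smul_mem_smul (mem_colon.2 hx) S.one_mem

theorem length_quot_colon (S : Subalgebra O K) :
    Module.length O (S ⧸ ((1 : Submodule O K).colon (Subalgebra.toSubmodule S)) • (⊤ : Submodule O S)) =
      rl (condK O S) (Subalgebra.toSubmodule S) := by
  have hinj : Function.Injective S.val.toLinearMap := Subtype.val_injective
  have := rl_range S.val.toLinearMap hinj
    (((1 : Submodule O K).colon (Subalgebra.toSubmodule S)) • (⊤ : Submodule O S))
  have hr : LinearMap.range S.val.toLinearMap = Subalgebra.toSubmodule S := by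
    ext z
    exact ⟨fun ⟨y, hy⟩ => hy ▸ y.2, fun hz => ⟨⟨z, hz⟩, rfl⟩⟩
  rw [map_colon_smul_top, hr] at this
  exact this.symm

theorem length_quot_colon' (S : Subalgebra O K) :
    Module.length O (O ⧸ ((1 : Submodule O K).colon (Subalgebra.toSubmodule S))) = rl (condK O S) 1 := by
  have hinj : Function.Injective (Algebra.linearMap O K) := FaithfulSMul.algebraMap_injective O K
  have := rl_range (Algebra.linearMap O K) hinj ((1 : Submodule O K).colon (Subalgebra.toSubmodule S))
  have hm : Submodule.map (Algebra.linearMap O K) ((1 : Submodule O K).colon (Subalgebra.toSubmodule S)) =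
      condK O S := by
    ext x
    constructor
    · rintro ⟨r, hr, rfl⟩
      exact mem_colon.1 hr
    · intro hx
      obtain ⟨r, rfl⟩ := Submodule.mem_one.1 (condK_le_one S hx)
      exact ⟨r, mem_colon.2 hx, rfl⟩
  rw [hm, ← Submodule.one_eq_range] at this
  exact this.symm

variable [IsNoetherianRing O] [IsLocalRing O]

/-- For a canonical ideal `ω` between `O` and `S`, `ω : S` is the conductor. -/
theorem dl_eq_condK (hdim : ringKrullDim O = 1) {ω : Submodule O K} (hW : IsCanon O ↥ω) (S : Subalgebra O K)
    (h1 : 1 ≤ ω) (h2 : ω ≤ Subalgebra.toSubmodule S) :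
    dl ω (LinearMap.mul K K) (Subalgebra.toSubmodule S) = condK O S := by
  apply le_antisymm
  · intro x hx y hy
    rw [← dl_self hdim hW]
    intro w hw
    rw [LinearMap.mul_apply', LinearMap.mul_apply', mul_assoc]
    exact hx _ (S.mul_mem hy (h2 hw))
  · intro x hx y hy
    exact h1 (hx y hy)

/-- `length (ω / C) = length (S / O)`. -/
theorem rl_cond (hdim : ringKrullDim O = 1) {ω : Submodule O K} (hW : IsCanon O ↥ω) (S : Subalgebra O K)
    (hS : (Subalgebra.toSubmodule S).FG) (h1 : 1 ≤ ω) (h2 : ω ≤ Subalgebra.toSubmodule S) :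
    rl (condK O S) ω = rl 1 (Subalgebra.toSubmodule S) := by
  have h3 : dl ω (LinearMap.mul K K) 1 = ω := by
    ext x
    rw [mem_dl]
    constructor
    · intro h
      have := h 1 (Submodule.mem_one.2 ⟨1, map_one _⟩)
      simpa using this
    · intro hx y hy
      obtain ⟨r, rfl⟩ := Submodule.mem_one.1 hy
      rw [LinearMap.mul_apply', mul_comm, ← Algebra.smul_def]
      exact ω.smul_mem _ hx
  rw [← rl_dl hdim hW mul_bijective (one_le S) (fun x => exists_smul_mem_one' x) hS,
    dl_eq_condK hdim hW S h1 h2, h3]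

theorem canonical_formula (hdim : ringKrullDim O = 1) {ω : Submodule O K} (hW : IsCanon O ↥ω)
    (S : Subalgebra O K) (hS : (Subalgebra.toSubmodule S).FG) (h1 : 1 ≤ ω)
    (h2 : ω ≤ Subalgebra.toSubmodule S) :
    rl 1 ω + rl (condK O S) (Subalgebra.toSubmodule S) = 2 * rl 1 (Subalgebra.toSubmodule S) := by
  have e1 := rl_cond hdim hW S hS h1 h2
  rw [rl_add (condK_le_one S) h1] at e1
  rw [rl_add (condK_le_one S) (one_le S), two_mul]
  nth_rewrite 2 [← e1]
  rw [← add_assoc, add_comm (rl 1 ω)]

end K839.Cond
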