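import Groth.Agent.TFCurv.K839.Norm
import Mathlib.RingTheory.Localization.Module
import Mathlib.Algebra.Module.LocalizedModule.Submodule
import Mathlib.RingTheory.Localization.BaseChange
import Mathlib.LinearAlgebra.Pi

/-!
# Torsion-free modules as lattices `O^n ⊆ M ⊆ S^n`
-/

set_option autoImplicit false

namespace K839.Lattice

open IsLocalRing nonZeroDivisors

section embed

variable {O K : Type*} [CommRing O] [IsDomain O] [Field K] [Algebra O K] [IsFractionRing O K]
  {M : Type*} [AddCommGroup M] [Module O M]

instance isLocalizedModule_mk : IsLocalizedModule O⁰ (TensorProduct.mk O K M 1) :=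
  (isLocalizedModule_iff_isBaseChange O⁰ K _).2 (TensorProduct.isBaseChange O M K)

theorem mk_injective [NoZeroSMulDivisors O M] : Function.Injective (TensorProduct.mk O K M 1) := by
  rw [injective_iff_map_eq_zero]
  intro m hm
  rw [IsLocalizedModule.eq_zero_iff (S := O⁰) (f := TensorProduct.mk O K M 1)] at hm
  obtain ⟨c, hc⟩ := hm
  have hc' : (c : O) • m = 0 := hc
  exact (smul_eq_zero.1 hc').resolve_left (nonZeroDivisors.ne_zero c.2)

omit [IsDomain O] [IsFractionRing O K] in
theorem span_range_mk : Submodule.span K (LinearMap.range (TensorProduct.mk O K M 1) : Set (TensorProduct O K M)) = ⊤ := by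
  rw [eq_top_iff]
  intro x _
  induction x using TensorProduct.induction_on with
  | zero => exact Submodule.zero_mem _
  | tmul a m =>
    have h1 : a ⊗ₜ[O] m = a • ((1 : K) ⊗ₜ[O] m) := by rw [TensorProduct.smul_tmul', smul_eq_mul, mul_one]
    rw [h1]
    exact Submodule.smul_mem _ _ (Submodule.subset_span ⟨m, rfl⟩)
  | add x y hx hy => exact Submodule.add_mem _ (hx trivial) (hy trivial)

end embed

section

variable {O K : Type*} [CommRing O] [IsDomain O] [IsNoetherianRing O] [Field K] [Algebra O K]
  [IsFractionRing O K] [IsLocalRing O] [Infinite (ResidueField O)]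

theorem exists_embedding (h1 : ringKrullDim O ≤ 1) (hfin : Module.Finite O (integralClosure O K))
    (M : Type*) [AddCommGroup M] [Module O M] [Module.Finite O M] [NoZeroSMulDivisors O M] (n : ℕ)
    (hn : Module.finrank K (TensorProduct O K M) = n) :
    ∃ φ : M →ₗ[O] (Fin n → K), Function.Injective φ ∧
      Submodule.pi Set.univ (fun _ : Fin n => (1 : Submodule O K)) ≤ LinearMap.range φ ∧
      LinearMap.range φ ≤ Submodule.pi Set.univ
        (fun _ : Fin n => (Subalgebra.toSubmodule (integralClosure O K))) := by
  let ι := TensorProduct.mk O K M 1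
  have hfg : (LinearMap.range ι).FG := by
    rw [LinearMap.range_eq_map]
    exact Submodule.FG.map _ Module.Finite.fg_top
  obtain ⟨b, hb1, hb2⟩ := Norm.exists_basis h1 hfin (LinearMap.range ι) hfg span_range_mk n hn
  refine ⟨(b.equivFun.toLinearMap.restrictScalars O) ∘ₗ ι, ?_, ?_, ?_⟩
  · exact b.equivFun.injective.comp mk_injective
  · intro x hx
    have hx' : ∀ i, ∃ r : O, algebraMap O K r = x i := fun i => by
      have : x i ∈ (1 : Submodule O K) := hx i trivial
      rwa [Submodule.mem_one] at this
    choose r hr using hx'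
    have h2 : ∀ i, ∃ m : M, ι m = b i := hb1
    choose m hm using h2
    refine ⟨∑ i, r i • m i, ?_⟩
    rw [LinearMap.comp_apply, map_sum]
    have h3 : ∑ i, ι (r i • m i) = ∑ i, x i • b i := by
      refine Finset.sum_congr rfl fun i _ => ?_
      rw [map_smul, hm, ← hr, algebraMap_smul]
    rw [h3]
    change b.equivFun (∑ i, x i • b i) = x
    rw [← b.equivFun_symm_apply, LinearEquiv.apply_symm_apply]
  · rintro _ ⟨m, rfl⟩ i _
    exact hb2 (ι m) ⟨m, rfl⟩ i

end

end K839.Lattice
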