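import Groth.Agent.CycB.OrdLattice
import Mathlib.LinearAlgebra.Quotient.Pi

/-!
# Relative lengths of submodules
`rl N M` is the length of `M / (N ∩ M)`.
-/

set_option autoImplicit false

namespace K839.Rl

section basic

variable {R V W : Type*} [CommRing R] [AddCommGroup V] [Module R V] [AddCommGroup W] [Module R W]

/-- The length of `M / (N ∩ M)`. -/
noncomputable def rl (N M : Submodule R V) : ℕ∞ :=
  Module.length R (↥M ⧸ Submodule.comap M.subtype N)

theorem rl_add {A B C : Submodule R V} (h1 : A ≤ B) (h2 : B ≤ C) : rl A C = rl A B + rl B C := by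
  let α : (↥B ⧸ Submodule.comap B.subtype A) →ₗ[R] (↥C ⧸ Submodule.comap C.subtype A) :=
    Submodule.mapQ _ _ (Submodule.inclusion h2) (fun x hx => hx)
  have h3 : Submodule.comap C.subtype A ≤ Submodule.comap C.subtype B := Submodule.comap_mono h1
  let β : (↥C ⧸ Submodule.comap C.subtype A) →ₗ[R] (↥C ⧸ Submodule.comap C.subtype B) :=
    Submodule.factor h3
  refine Module.length_eq_add_of_exact α β ?_ (Submodule.factor_surjective h3) ?_
  · rw [← LinearMap.ker_eq_bot, LinearMap.ker_eq_bot']
    intro x hx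
    obtain ⟨x, rfl⟩ := Submodule.Quotient.mk_surjective _ x
    have hx' : (Submodule.Quotient.mk (Submodule.inclusion h2 x) :
      ↥C ⧸ Submodule.comap C.subtype A) = 0 := hx
    rw [Submodule.Quotient.mk_eq_zero] at hx' ⊢
    exact hx'
  · intro x
    obtain ⟨x, rfl⟩ := Submodule.Quotient.mk_surjective _ x
    constructor
    · intro hx
      have hx0 : (Submodule.Quotient.mk x : ↥C ⧸ Submodule.comap C.subtype B) = 0 := hx
      rw [Submodule.Quotient.mk_eq_zero] at hx0
      have hx' : (x : V) ∈ B := hx0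
      exact ⟨Submodule.Quotient.mk ⟨x, hx'⟩, rfl⟩
    · rintro ⟨y, hy⟩
      obtain ⟨y, rfl⟩ := Submodule.Quotient.mk_surjective _ y
      rw [← hy]
      exact (Submodule.Quotient.mk_eq_zero _).mpr y.2

theorem rl_eq_zero_iff {N M : Submodule R V} : rl N M = 0 ↔ M ≤ N := by
  rw [rl, Module.length_eq_zero_iff, Submodule.Quotient.subsingleton_iff]
  exact Submodule.comap_subtype_eq_top

theorem rl_self (M : Submodule R V) : rl M M = 0 := rl_eq_zero_iff.2 le_rfl

theorem rl_map (e : V →ₗ[R] W) (he : Function.Injective e) (N M : Submodule R V) :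
    rl (N.map e) (M.map e) = rl N M := by
  symm
  refine (Submodule.Quotient.equiv _ _ (Submodule.equivMapOfInjective e he M) ?_).length_eq
  ext x
  constructor
  · rintro ⟨y, hy, rfl⟩
    exact ⟨(y : V), hy, rfl⟩
  · rintro ⟨y, hy, hyx⟩
    obtain ⟨z, hz, hzx⟩ := x.2
    have hyz : y = z := he (hyx.trans hzx.symm)
    refine ⟨⟨y, hyz ▸ hz⟩, hy, Subtype.ext ?_⟩
    exact hyx

/-- For an injective map `f : M → V`, the relative length of the image of `N` in the range of `f` is the length
of `M / N`. -/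
theorem rl_range (f : W →ₗ[R] V) (hf : Function.Injective f) (N : Submodule R W) :
    rl (N.map f) (LinearMap.range f) = Module.length R (W ⧸ N) := by
  symm
  refine (Submodule.Quotient.equiv _ _ (LinearEquiv.ofInjective f hf) ?_).length_eq
  ext x
  constructor
  · rintro ⟨y, hy, rfl⟩
    exact ⟨y, hy, rfl⟩
  · rintro ⟨y, hy, hyx⟩
    exact ⟨y, hy, Subtype.ext hyx⟩

theorem rl_top (N : Submodule R V) : rl N ⊤ = Module.length R (V ⧸ N) := by
  have := rl_range (LinearMap.id : V →ₗ[R] V) Function.injective_id N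
  rwa [Submodule.map_id, LinearMap.range_id] at this

theorem rl_mono_right {N M M' : Submodule R V} (h : M ≤ M') : rl N M ≤ rl N M' := by
  let α : (↥M ⧸ Submodule.comap M.subtype N) →ₗ[R] (↥M' ⧸ Submodule.comap M'.subtype N) :=
    Submodule.mapQ _ _ (Submodule.inclusion h) (fun x hx => hx)
  refine Module.length_le_of_injective α ?_
  rw [← LinearMap.ker_eq_bot, LinearMap.ker_eq_bot']
  intro x hx
  obtain ⟨x, rfl⟩ := Submodule.Quotient.mk_surjective _ x
  have hx' : (Submodule.Quotient.mk (Submodule.inclusion h x) :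
    ↥M' ⧸ Submodule.comap M'.subtype N) = 0 := hx
  rw [Submodule.Quotient.mk_eq_zero] at hx' ⊢
  exact hx'

theorem rl_anti_left {N N' M : Submodule R V} (h : N ≤ N') : rl N' M ≤ rl N M := by
  have h3 : Submodule.comap M.subtype N ≤ Submodule.comap M.subtype N' := Submodule.comap_mono h
  exact Module.length_le_of_surjective (Submodule.factor h3) (Submodule.factor_surjective h3)

/-- Independence of the lattice. -/
theorem rl_map_self_eq {A B : Submodule R V} (ψ : V →ₗ[R] V) (hψ : Function.Injective ψ) (hAB : A ≤ B)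
    (hA : A.map ψ ≤ A) (hB : B.map ψ ≤ B) (hfin : rl A B ≠ ⊤) : rl (A.map ψ) A = rl (B.map ψ) B := by
  have h1 := rl_add hA hAB
  rw [rl_add (Submodule.map_mono hAB) hB, rl_map ψ hψ, add_comm] at h1
  exact ((ENat.add_left_injective_of_ne_top hfin) h1).symm

theorem rl_pi {n : ℕ} {A B : Submodule R V} :
    rl (Submodule.pi Set.univ (fun _ : Fin n => A)) (Submodule.pi Set.univ (fun _ : Fin n => B)) =
      (n : ℕ∞) * rl A B := by
  let p : Submodule R (Fin n → ↥B) := Submodule.pi Set.univ (fun _ : Fin n => A.comap B.subtype)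
  let f : (Fin n → ↥B) →ₗ[R] (Fin n → V) := LinearMap.pi (fun i => B.subtype ∘ₗ LinearMap.proj i)
  have hf : Function.Injective f := fun x y h => funext fun i => Subtype.ext (congrFun h i)
  have hr : LinearMap.range f = Submodule.pi Set.univ (fun _ : Fin n => B) := by
    ext x
    constructor
    · rintro ⟨y, rfl⟩ i _
      exact (y i).2
    · intro hx
      exact ⟨fun i => ⟨x i, hx i trivial⟩, rfl⟩
  have hp : p.map f ⊓ Submodule.pi Set.univ (fun _ : Fin n => B) =
      Submodule.pi Set.univ (fun _ : Fin n => A) ⊓ Submodule.pi Set.univ (fun _ : Fin n => B) := by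
    ext x
    constructor
    · rintro ⟨⟨y, hy, rfl⟩, hx⟩
      exact ⟨fun i _ => hy i trivial, hx⟩
    · rintro ⟨h1, h2⟩
      exact ⟨⟨fun i => ⟨x i, h2 i trivial⟩, fun i _ => h1 i trivial, rfl⟩, h2⟩
  have h0 : rl (p.map f) (Submodule.pi Set.univ (fun _ : Fin n => B)) =
      rl (Submodule.pi Set.univ (fun _ : Fin n => A)) (Submodule.pi Set.univ (fun _ : Fin n => B)) := by
    unfold rl
    have e1 : Submodule.comap (Submodule.pi Set.univ (fun _ : Fin n => B)).subtype (p.map f) =
        Submodule.comap (Submodule.pi Set.univ (fun _ : Fin n => B)).subtype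
          (Submodule.pi Set.univ (fun _ : Fin n => A)) := by
      ext x
      have h3 := congrArg (fun P : Submodule R (Fin n → V) => (x : Fin n → V) ∈ P) hp
      simp only [Submodule.mem_inf, x.2, and_true, eq_iff_iff] at h3
      exact h3
    rw [e1]
  rw [← h0, ← hr, rl_range f hf p]
  have e2 := (Submodule.quotientPi (fun _ : Fin n => A.comap B.subtype)).length_eq
  rw [e2, Module.length_pi, ENat.card_eq_coe_fintype_card, Fintype.card_fin]
  rfl

end basic

section domain

variable {A : Type*} [CommRing A] [IsDomain A] [IsNoetherianRing A]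
  {V : Type*} [AddCommGroup V] [Module A V]

/-- Finiteness of the relative length of a finitely generated submodule over a submodule containing a multiple of it. -/
theorem rl_ne_top (hdim : ringKrullDim A ≤ 1) (N M : Submodule A V) (hM : M.FG) (a : A) (ha : a ≠ 0)
    (h : ∀ m ∈ M, a • m ∈ N) : rl N M ≠ ⊤ := by
  have : Ring.KrullDimLE 1 A := by
    rw [Ring.krullDimLE_iff]
    exact_mod_cast hdim
  have : Module.Finite A M := Module.Finite.iff_fg.mpr hM
  refine Groth.Agent.CycB.OrdLattice.length_ne_top_of_smul_eq_zero ha fun m => ?_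
  obtain ⟨m, rfl⟩ := Submodule.Quotient.mk_surjective _ m
  rw [← Submodule.Quotient.mk_smul, Submodule.Quotient.mk_eq_zero]
  exact h _ m.2

omit [IsNoetherianRing A] in
/-- A common multiplier. -/
theorem exists_smul_mem (N M : Submodule A V) (hM : M.FG) (h : ∀ m ∈ M, ∃ a : A, a ≠ 0 ∧ a • m ∈ N) :
    ∃ a : A, a ≠ 0 ∧ ∀ m ∈ M, a • m ∈ N := by
  classical
  obtain ⟨s, rfl⟩ := hM
  choose! a ha using h
  refine ⟨∏ v ∈ s, a v, Finset.prod_ne_zero_iff.mpr fun v hv => (ha v (Submodule.subset_span hv)).1,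
    fun m hm => ?_⟩
  induction hm using Submodule.span_induction with
  | mem x hx =>
    rw [← Finset.prod_erase_mul _ _ (Finset.mem_coe.mp hx), mul_smul]
    exact N.smul_mem _ (ha x (Submodule.subset_span hx)).2
  | zero => rw [smul_zero]; exact N.zero_mem
  | add x y _ _ hx hy => rw [smul_add]; exact N.add_mem hx hy
  | smul c x _ hx => rw [smul_comm]; exact N.smul_mem _ hx

theorem rl_ne_top' (hdim : ringKrullDim A ≤ 1) (N M : Submodule A V) (hM : M.FG)
    (h : ∀ m ∈ M, ∃ a : A, a ≠ 0 ∧ a • m ∈ N) : rl N M ≠ ⊤ := by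
  obtain ⟨a, ha, h'⟩ := exists_smul_mem N M hM h
  exact rl_ne_top hdim N M hM a ha h'

end domain

section frac

variable {A K : Type*} [CommRing A] [IsDomain A] [Field K] [Algebra A K] [IsFractionRing A K]

theorem exists_smul_mem_one {n : ℕ} (x : Fin n → K) :
    ∃ a : A, a ≠ 0 ∧ a • x ∈ Submodule.pi Set.univ (fun _ : Fin n => (1 : Submodule A K)) := by
  obtain ⟨d, hd⟩ := IsLocalization.exist_integer_multiples_of_finite (nonZeroDivisors A) (S := K) x
  refine ⟨d, nonZeroDivisors.ne_zero d.2, fun i _ => ?_⟩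
  obtain ⟨r, hr⟩ := hd i
  exact Submodule.mem_one.2 ⟨r, hr⟩

theorem exists_smul_mem_one' (x : K) :
    ∃ a : A, a ≠ 0 ∧ a • x ∈ (1 : Submodule A K) := by
  obtain ⟨a, ha, h⟩ := exists_smul_mem_one (A := A) (n := 1) (fun _ => x)
  exact ⟨a, ha, h 0 trivial⟩

end frac

end K839.Rl
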