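import Groth.Agent.TFCurv.K839.Lattice
import Groth.Agent.TFCurv.K839.Rl
import Groth.Agent.Ega2.KrullAkizuki
import Mathlib.RingTheory.KrullDimension.Field

/-!
# Principal reduction of the maximal ideal; the multiplicity
-/

set_option autoImplicit false

namespace K839.PrincRed

open IsLocalRing K839.Rl

variable {O K : Type*} [CommRing O] [IsDomain O] [IsNoetherianRing O] [Field K] [Algebra O K]
  [IsFractionRing O K] [IsLocalRing O] [Infinite (ResidueField O)]

/-- An ideal `I` of `O` has an element `x` with `x S = I S`. -/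
theorem exists_mem_span_eq (h1 : ringKrullDim O ≤ 1) (hfin : Module.Finite O (integralClosure O K))
    (I : Ideal O) : ∃ x ∈ I, Ideal.span {algebraMap O (integralClosure O K) x} =
      I.map (algebraMap O (integralClosure O K)) := by
  let S := integralClosure O K
  have : IsPrincipalIdealRing S := Norm.isPrincipalIdealRing h1 hfin
  have : Finite (MaximalSpectrum S) := Norm.finite_maximalSpectrum hfin
  let J : Ideal S := I.map (algebraMap O S)
  let M : Submodule O J :=
    { carrier := {j | ∃ y ∈ I, algebraMap O S y = j}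
      add_mem' := by
        rintro a b ⟨y, hy, hya⟩ ⟨z, hz, hzb⟩
        exact ⟨y + z, I.add_mem hy hz, by rw [map_add, hya, hzb]; rfl⟩
      zero_mem' := ⟨0, I.zero_mem, map_zero _⟩
      smul_mem' := by
        rintro c a ⟨y, hy, hya⟩
        refine ⟨c * y, I.mul_mem_left _ hy, ?_⟩
        change _ = c • (a : S)
        rw [map_mul, hya, Algebra.smul_def] }
  have hM : Submodule.span S (M : Set J) = ⊤ := by
    rw [eq_top_iff]
    apply Submodule.map_le_map_iff_of_injective J.injective_subtype _ _ |>.1
    rw [Submodule.map_top, Submodule.range_subtype, Submodule.map_span]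
    apply Ideal.span_le.2
    rintro _ ⟨y, hy, rfl⟩
    have h2 : algebraMap O S y ∈ J := Ideal.mem_map_of_mem _ hy
    exact Submodule.subset_span ⟨⟨_, h2⟩, ⟨y, hy, rfl⟩, rfl⟩
  obtain ⟨a, ha⟩ : ∃ a : S, J = Submodule.span S {a} := (IsPrincipalIdealRing.principal J).principal
  have haJ : a ∈ J := by rw [ha]; exact Submodule.mem_span_singleton_self a
  have hspan : Submodule.span S (Set.range (fun _ : Fin 1 => (⟨a, haJ⟩ : J))) = ⊤ := by
    rw [eq_top_iff]
    rintro ⟨j, hj⟩ _
    have h3 := hj
    rw [ha, Submodule.mem_span_singleton] at h3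
    obtain ⟨c, rfl⟩ := h3
    have h4 : (⟨a, haJ⟩ : J) ∈ Submodule.span S (Set.range (fun _ : Fin 1 => (⟨a, haJ⟩ : J))) :=
      Submodule.subset_span ⟨0, rfl⟩
    exact Submodule.smul_mem _ c h4
  obtain ⟨p, hpM, hp⟩ := Gen.exists_generators M hM 1
    (fun 𝔫 => Gen.length_quotient_le 1 (fun _ : Fin 1 => (⟨a, haJ⟩ : J)) hspan 𝔫)
  obtain ⟨x, hx, hxp⟩ := hpM 0
  refine ⟨x, hx, ?_⟩
  have h4 := congrArg (Submodule.map J.subtype) hp
  rw [Submodule.map_span, Submodule.map_top, Submodule.range_subtype, ← Set.range_comp] at h4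
  have h5 : Set.range (J.subtype ∘ p) = {algebraMap O S x} := by
    ext z
    constructor
    · rintro ⟨i, rfl⟩
      rw [Subsingleton.elim i 0]
      exact hxp.symm
    · rintro rfl
      exact ⟨0, hxp.symm⟩
  rw [h5] at h4
  exact h4

omit [IsLocalRing O] [Infinite (ResidueField O)] in
/-- `length (O / x) = length (S / x S)`. -/
theorem length_quot_eq (h1 : ringKrullDim O ≤ 1) (hfin : Module.Finite O (integralClosure O K))
    (x : O) (hx : x ≠ 0) : Module.length O (O ⧸ Ideal.span {x}) =
      Module.length O (↥(integralClosure O K) ⧸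
        (Ideal.span {algebraMap O (integralClosure O K) x}).restrictScalars O) := by
  let S := integralClosure O K
  let ψ : K →ₗ[O] K := LinearMap.lsmul O K x
  have hx' : algebraMap O K x ≠ 0 := by rwa [Ne, FaithfulSMul.algebraMap_eq_zero_iff]
  have hψ : Function.Injective ψ := by
    intro a b hab
    have hab' : x • a = x • b := hab
    rw [Algebra.smul_def, Algebra.smul_def] at hab'
    exact mul_left_cancel₀ hx' hab'
  have hA : (1 : Submodule O K).map ψ ≤ 1 := by
    rintro _ ⟨y, hy, rfl⟩
    exact Submodule.smul_mem _ _ hy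
  have hB : (Subalgebra.toSubmodule S).map ψ ≤ Subalgebra.toSubmodule S := by
    rintro _ ⟨y, hy, rfl⟩
    exact Submodule.smul_mem _ _ hy
  have hAB : (1 : Submodule O K) ≤ Subalgebra.toSubmodule S := by
    intro y hy
    obtain ⟨r, rfl⟩ := Submodule.mem_one.1 hy
    exact S.algebraMap_mem r
  have hfg : (Subalgebra.toSubmodule S).FG := Module.Finite.iff_fg.1 hfin
  have hne : rl (1 : Submodule O K) (Subalgebra.toSubmodule S) ≠ ⊤ :=
    rl_ne_top' h1 _ _ hfg (fun m _ => exists_smul_mem_one' m)
  have key := rl_map_self_eq ψ hψ hAB hA hB hne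
  have e1 : rl ((1 : Submodule O K).map ψ) 1 = Module.length O (O ⧸ Ideal.span {x}) := by
    have hinj : Function.Injective (Algebra.linearMap O K) := FaithfulSMul.algebraMap_injective O K
    rw [← rl_range (Algebra.linearMap O K) hinj]
    congr 1
    · ext z
      constructor
      · rintro ⟨y, hy, rfl⟩
        obtain ⟨r, rfl⟩ := Submodule.mem_one.1 hy
        exact ⟨x * r, Ideal.mul_mem_right _ _ (Ideal.mem_span_singleton_self x), by
          change algebraMap O K (x * r) = x • algebraMap O K r
          rw [map_mul, Algebra.smul_def]⟩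
      · rintro ⟨y, hy, rfl⟩
        obtain ⟨r, rfl⟩ := Ideal.mem_span_singleton'.1 hy
        refine ⟨algebraMap O K r, Submodule.mem_one.2 ⟨r, rfl⟩, ?_⟩
        change x • algebraMap O K r = algebraMap O K (r * x)
        rw [map_mul, Algebra.smul_def, mul_comm]
    · exact Submodule.one_eq_range
  have e2 : rl ((Subalgebra.toSubmodule S).map ψ) (Subalgebra.toSubmodule S) =
      Module.length O (S ⧸ (Ideal.span {algebraMap O S x}).restrictScalars O) := by
    have hinj : Function.Injective S.val.toLinearMap := Subtype.val_injective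
    have := rl_range S.val.toLinearMap hinj ((Ideal.span {algebraMap O S x}).restrictScalars O)
    have hr : LinearMap.range S.val.toLinearMap = Subalgebra.toSubmodule S := by
      ext z
      exact ⟨fun ⟨y, hy⟩ => hy ▸ y.2, fun hz => ⟨⟨z, hz⟩, rfl⟩⟩
    rw [hr] at this
    refine Eq.trans ?_ this
    congr 1
    ext z
    constructor
    · rintro ⟨y, hy, rfl⟩
      refine ⟨⟨x • y, Submodule.smul_mem _ _ hy⟩, ?_, rfl⟩
      refine Ideal.mem_span_singleton'.2 ⟨(⟨y, hy⟩ : S), Subtype.ext ?_⟩
      change y * algebraMap O K x = x • y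
      rw [Algebra.smul_def, mul_comm]
    · rintro ⟨y, hy, rfl⟩
      obtain ⟨r, rfl⟩ := Ideal.mem_span_singleton'.1 (show (y : S) ∈ Ideal.span {algebraMap O S x} from hy)
      refine ⟨r, r.2, ?_⟩
      change x • (r : K) = (r : K) * algebraMap O K x
      rw [Algebra.smul_def, mul_comm]
  rw [← e1, key, e2]

end K839.PrincRed
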