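import Groth.Agent.TFCurv.K839.Norm
import Groth.Agent.TFCurv.K839.Rl
import Mathlib.FieldTheory.IsAlgClosed.Basic
import Mathlib.RingTheory.SimpleModule.Basic
import Mathlib.RingTheory.Finiteness.Basic

/-!
# Submodules over the normalization of prescribed colength
-/

set_option autoImplicit false
set_option linter.unusedSectionVars false

namespace K839.Chain

open IsLocalRing K839.Rl

/-- Over an algebraically closed residue field, a maximal ideal of an integral extension has residue field `k`. -/
theorem surjective_quot {O S : Type*} [CommRing O] [IsLocalRing O] [IsAlgClosed (ResidueField O)]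
    [CommRing S] [Algebra O S] [Algebra.IsIntegral O S] (𝔫 : Ideal S) [h𝔫 : 𝔫.IsMaximal] :
    Function.Surjective ((Ideal.Quotient.mk 𝔫).comp (algebraMap O S)) := by
  let f : O →+* S ⧸ 𝔫 := (Ideal.Quotient.mk 𝔫).comp (algebraMap O S)
  have hcomap : (𝔫.comap (algebraMap O S)) = maximalIdeal O := by
    have h1 : (𝔫.comap (algebraMap O S)).IsMaximal := Ideal.isMaximal_comap_of_isIntegral_of_isMaximal 𝔫
    exact IsLocalRing.eq_maximalIdeal h1
  have hf : ∀ a ∈ maximalIdeal O, f a = 0 := by
    intro a ha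
    rw [← hcomap] at ha
    exact Ideal.Quotient.eq_zero_iff_mem.2 ha
  let g : ResidueField O →+* S ⧸ 𝔫 := Ideal.Quotient.lift (maximalIdeal O) f hf
  have hg : ∀ a, g (residue O a) = f a := fun a => rfl
  let _ : Algebra (ResidueField O) (S ⧸ 𝔫) := g.toAlgebra
  let _ : Field (S ⧸ 𝔫) := Ideal.Quotient.field 𝔫
  have hint : Algebra.IsIntegral (ResidueField O) (S ⧸ 𝔫) := by
    refine ⟨fun x => ?_⟩
    obtain ⟨s, rfl⟩ := Ideal.Quotient.mk_surjective x
    obtain ⟨p, hp, hps⟩ := Algebra.IsIntegral.isIntegral (R := O) s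
    refine ⟨p.map (residue O), hp.map _, ?_⟩
    rw [Polynomial.eval₂_map]
    have h2 : (algebraMap (ResidueField O) (S ⧸ 𝔫)).comp (residue O) = f := RingHom.ext fun a => hg a
    rw [h2]
    change Polynomial.eval₂ ((Ideal.Quotient.mk 𝔫).comp (algebraMap O S)) _ _ = 0
    rw [← Polynomial.hom_eval₂, hps, map_zero]
  intro x
  obtain ⟨a, ha⟩ := (IsAlgClosed.algebraMap_bijective_of_isIntegral
    (k := ResidueField O) (K := S ⧸ 𝔫)).2 x
  obtain ⟨b, rfl⟩ := residue_surjective a
  exact ⟨b, ha⟩

/-- A simple module over an integral extension has length one over `O`. -/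
theorem length_simple {O S : Type*} [CommRing O] [IsLocalRing O] [IsAlgClosed (ResidueField O)]
    [CommRing S] [Algebra O S] [Algebra.IsIntegral O S] (X : Type*) [AddCommGroup X] [Module S X]
    [Module O X] [IsScalarTower O S X] [IsSimpleModule S X] : Module.length O X = 1 := by
  obtain ⟨𝔫, h𝔫, ⟨e⟩⟩ := isSimpleModule_iff_quot_maximal.1 (inferInstance : IsSimpleModule S X)
  rw [(e.restrictScalars O).length_eq]
  have h1 : Module.length S (S ⧸ 𝔫) = 1 := by
    rw [Module.length_eq_one_iff, isSimpleModule_iff_isCoatom, ← Ideal.isMaximal_def]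
    exact h𝔫
  have h2 : Module.length S (S ⧸ 𝔫) = Module.length (S ⧸ 𝔫) (S ⧸ 𝔫) :=
    Module.length_eq_of_surjective Ideal.Quotient.mk_surjective
  have h3 : Module.length O (S ⧸ 𝔫) = Module.length (S ⧸ 𝔫) (S ⧸ 𝔫) :=
    Module.length_eq_of_surjective (S := O) (R := S ⧸ 𝔫) (M := S ⧸ 𝔫) (surjective_quot 𝔫)
  rw [h3, ← h2, h1]

variable {O S : Type*} [CommRing O] [IsLocalRing O] [IsAlgClosed (ResidueField O)]
    [CommRing S] [Algebra O S] [Algebra.IsIntegral O S] [IsNoetherianRing S]
    {V : Type*} [AddCommGroup V] [Module S V] [Module O V] [IsScalarTower O S V]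

/-- Intermediate `S`-submodules of prescribed `O`-length. -/
theorem exists_intermediate (R₁ : Submodule S V) (k : ℕ) : ∀ (R₂ : Submodule S V) (_ : R₁ ≤ R₂)
    (_ : R₂.FG) (_ : rl (R₁.restrictScalars O) (R₂.restrictScalars O) = k)
    (m : ℕ) (_ : m ≤ k), ∃ R : Submodule S V, R₁ ≤ R ∧ R ≤ R₂ ∧
      rl (R₁.restrictScalars O) (R.restrictScalars O) = m := by
  induction k with
  | zero =>
    intro R₂ h12 _ hk m hm
    obtain rfl : m = 0 := by omega
    exact ⟨R₁, le_rfl, h12, by rw [rl_self]; rfl⟩
  | succ k ih =>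
    intro R₂ h12 hfg hk m hm
    rcases Nat.eq_or_lt_of_le hm with rfl | hlt
    · exact ⟨R₂, h12, le_rfl, hk⟩
    -- a maximal proper submodule of `R₂` containing `R₁`
    have : Module.Finite S R₂ := Module.Finite.iff_fg.2 hfg
    have : IsNoetherian S R₂ := isNoetherian_of_isNoetherianRing_of_finite S _
    have hne : Submodule.comap R₂.subtype R₁ ≠ ⊤ := by
      intro htop
      rw [Submodule.comap_subtype_eq_top] at htop
      have h3 : rl (R₁.restrictScalars O) (R₂.restrictScalars O) = 0 := rl_eq_zero_iff.2 htop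
      rw [h3] at hk
      exact absurd hk (by norm_cast)
    obtain ⟨P, hP, hle⟩ := (eq_top_or_exists_le_coatom (Submodule.comap R₂.subtype R₁)).resolve_left hne
    let R' : Submodule S V := P.map R₂.subtype
    have hR' : R' ≤ R₂ := by
      rintro _ ⟨x, _, rfl⟩
      exact x.2
    have h1' : R₁ ≤ R' := fun x hx => ⟨⟨x, h12 hx⟩, hle hx, rfl⟩
    have hfg' : R'.FG := (IsNoetherian.noetherian P).map _
    have hsimple : IsSimpleModule S (R₂ ⧸ P) := isSimpleModule_iff_isCoatom.2 hP
    have hlen : rl (R'.restrictScalars O) (R₂.restrictScalars O) = 1 := by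
      have h4 := length_simple (O := O) (S := S) (R₂ ⧸ P)
      have h5 : Submodule.comap (R₂.restrictScalars O).subtype (R'.restrictScalars O) =
          P.restrictScalars O := by
        ext x
        constructor
        · rintro ⟨y, hy, hyx⟩
          have : y = x := Subtype.ext hyx
          exact this ▸ hy
        · intro hx
          exact ⟨x, hx, rfl⟩
      rw [rl, h5]
      exact h4
    have hsum := rl_add (A := R₁.restrictScalars O) (B := R'.restrictScalars O)
      (C := R₂.restrictScalars O) h1' hR'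
    rw [hk, hlen] at hsum
    have hk' : rl (R₁.restrictScalars O) (R'.restrictScalars O) = k := by
      push_cast at hsum
      exact ((ENat.add_left_injective_of_ne_top ENat.one_ne_top) hsum).symm
    obtain ⟨R, h6, h7, h8⟩ := ih R' h1' hfg' hk' m (by omega)
    exact ⟨R, h6, h7.trans hR', h8⟩

end K839.Chain
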