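import Groth.Agent.TFCurv.K839.Cond
import Groth.Agent.TFCurv.K839.Chain
import Groth.Agent.TFCurv.K839.Lattice
import Groth.Agent.Localalg.GorExt
import Mathlib.LinearAlgebra.Matrix.Dual

/-!
# Lattices over a one-dimensional Gorenstein local domain
-/

set_option autoImplicit false
set_option linter.unusedSectionVars false
universe u

open IsLocalRing K839.Rl K839.Canon K839.DualLat K839.Cond CategoryTheory

namespace K839.Gor

theorem injDim_self (O : Type u) [CommRing O] [LocCoh.IsGorensteinLocalRing O] (hdim : ringKrullDim O = 1) :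
    HasInjectiveDimensionLT (ModuleCat.of O O) 2 := by
  apply Groth.Agent.Localalg.InjDim.hasInjectiveDimensionLT_of_ext_quotient_maximalIdeal
  intro i hi
  exact (Groth.Agent.Localalg.GorExt.ext_residueField 1 O hdim).1 i (by omega)

theorem isCanon_one (O K : Type u) [CommRing O] [IsDomain O] [LocCoh.IsGorensteinLocalRing O]
    (hdim : ringKrullDim O = 1) [Field K] [Algebra O K] [IsFractionRing O K] :
    IsCanon O ↥(1 : Submodule O K) := by
  have hinj : Function.Injective (Algebra.linearMap O K) := FaithfulSMul.algebraMap_injective O K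
  have e : O ≃ₗ[O] ↥(1 : Submodule O K) :=
    (LinearEquiv.ofInjective (Algebra.linearMap O K) hinj).trans
      (LinearEquiv.ofEq _ _ Submodule.one_eq_range.symm)
  refine isCanon_of_submodule (1 : Submodule O K) ?_ ?_ ?_
  · intro h
    have h1 : (1 : K) ∈ (1 : Submodule O K) := Submodule.mem_one.2 ⟨1, map_one _⟩
    rw [h] at h1
    exact one_ne_zero ((Submodule.mem_bot O).1 h1)
  · rw [Submodule.one_eq_span]
    exact Submodule.fg_span (Set.finite_singleton _)
  · have := injDim_self O hdim
    exact hasInjectiveDimensionLT_of_iso e.toModuleIso 2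

section

variable {O K : Type u} [CommRing O] [IsDomain O] [LocCoh.IsGorensteinLocalRing O] [Field K] [Algebra O K]
  [IsFractionRing O K] [IsAlgClosed (ResidueField O)]

local notation "S" => (integralClosure O K)

/-- The dot product. -/
noncomputable abbrev dot (K : Type u) [Field K] (n : ℕ) : (Fin n → K) →ₗ[K] (Fin n → K) →ₗ[K] K :=
  (dotProductEquiv K (Fin n)).toLinearMap

theorem dot_symm (n : ℕ) (x y : Fin n → K) : dot K n x y = dot K n y x := by
  change dotProduct x y = dotProduct y x
  exact dotProduct_comm x y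

theorem dot_smul (n : ℕ) (s : S) (x y : Fin n → K) : dot K n (s • x) y = dot K n x (s • y) := by
  change dotProduct ((s : K) • x) y = dotProduct x ((s : K) • y)
  rw [smul_dotProduct, dotProduct_smul]

/-- Standard lattices. -/
abbrev On (O K : Type u) [CommRing O] [Field K] [Algebra O K] (n : ℕ) : Submodule O (Fin n → K) :=
  Submodule.pi Set.univ (fun _ : Fin n => (1 : Submodule O K))

abbrev Sn (O K : Type u) [CommRing O] [Field K] [Algebra O K] (n : ℕ) : Submodule O (Fin n → K) :=
  Submodule.pi Set.univ (fun _ : Fin n => (Subalgebra.toSubmodule (integralClosure O K)))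

abbrev Cn (O K : Type u) [CommRing O] [Field K] [Algebra O K] (n : ℕ) : Submodule O (Fin n → K) :=
  Submodule.pi Set.univ (fun _ : Fin n => condK O (integralClosure O K))

omit [LocCoh.IsGorensteinLocalRing O] [IsAlgClosed (ResidueField O)] in
theorem full_On (n : ℕ) : Full (On O K n) := fun x => exists_smul_mem_one x

/-- The largest `S`-submodule of `M`. -/
def core (n : ℕ) (M : Submodule O (Fin n → K)) : Submodule S (Fin n → K) where
  carrier := {v | ∀ s : S, s • v ∈ M}
  add_mem' := fun {a b} ha hb s => by
    rw [smul_add]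
    exact M.add_mem (ha s) (hb s)
  zero_mem' := fun s => by rw [smul_zero]; exact M.zero_mem
  smul_mem' := fun c x hx s => by
    rw [smul_smul]
    exact hx _

theorem core_le (n : ℕ) (M : Submodule O (Fin n → K)) : (core n M).restrictScalars O ≤ M := by
  intro x hx
  have := hx 1
  rwa [one_smul] at this

theorem fg_span (hfin : Module.Finite O S) {n : ℕ} {N : Submodule O (Fin n → K)} (hN : N.FG) :
    ((Submodule.span S (N : Set (Fin n → K))).restrictScalars O).FG := by
  have h1 : (Submodule.span S (N : Set (Fin n → K))).FG := by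
    obtain ⟨s, hs⟩ := hN
    refine ⟨s, ?_⟩
    rw [← Submodule.span_span_of_tower O S, hs]
  have h2 : Module.Finite S (Submodule.span S (N : Set (Fin n → K))) := Module.Finite.iff_fg.2 h1
  have h3 : Module.Finite O (Submodule.span S (N : Set (Fin n → K))) := Module.Finite.trans S _
  exact Module.Finite.iff_fg.1 h3

theorem rl_core_le (hdim : ringKrullDim O = 1) (hfin : Module.Finite O S) (n : ℕ)
    (M : Submodule O (Fin n → K)) (hM : M.FG) (hM' : Full M) :
    rl ((core n M).restrictScalars O) M ≤ (n : ℕ∞) * rl 1 (Subalgebra.toSubmodule S) := by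
  have hW := isCanon_one O K hdim
  have hB : Function.Bijective (dot K n) := (dotProductEquiv K (Fin n)).bijective
  have hω0 : (1 : Submodule O K) ≠ ⊥ := Submodule.nontrivial_iff_ne_bot.1 hW.nontrivial
  let N := dl (1 : Submodule O K) (dot K n) M
  have hNfg : N.FG := fg_dl hW hB hM hM'
  have hNfull : Full N := full_dl hω0 hM
  have hNdl : dl (1 : Submodule O K) (dot K n) N = M := dl_dl hdim hW hB (dot_symm n) hM hM'
  let SN : Submodule S (Fin n → K) := Submodule.span S (N : Set (Fin n → K))
  have hSNfg : (SN.restrictScalars O).FG := fg_span hfin hNfg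
  have hNSN : N ≤ SN.restrictScalars O := fun x hx => Submodule.subset_span hx
  have hcore : dl (1 : Submodule O K) (dot K n) (SN.restrictScalars O) = (core n M).restrictScalars O := by
    apply le_antisymm
    · intro x hx s
      rw [← hNdl]
      intro y hy
      rw [dot_smul]
      exact hx _ (SN.smul_mem s (Submodule.subset_span hy))
    · intro x hx z hz
      have key : ∀ z ∈ SN, ∀ s : S, dot K n (s • x) z ∈ (1 : Submodule O K) := by
        intro z hz
        induction hz using Submodule.span_induction with
        | mem y hy =>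
          intro s
          rw [dot_symm]
          exact hy _ (hx s)
        | zero => intro s; rw [map_zero]; exact Submodule.zero_mem _
        | add y z _ _ hy hz => intro s; rw [map_add]; exact Submodule.add_mem _ (hy s) (hz s)
        | smul c y _ hy =>
          intro s
          rw [← dot_smul, smul_smul]
          exact hy _
      have := key z hz 1
      rwa [one_smul] at this
  have h1 : rl ((core n M).restrictScalars O) M = rl N (SN.restrictScalars O) := by
    have h0 := rl_dl (ω := (1 : Submodule O K)) (B := dot K n) hdim hW hB hNSN hNfull hSNfg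
    rwa [hcore, hNdl] at h0
  rw [h1]
  obtain ⟨b, hb1, hb2⟩ := Norm.exists_basis hdim.le hfin N hNfg hNfull.span_eq_top n (by simp)
  let e : (Fin n → K) →ₗ[O] (Fin n → K) := b.equivFun.toLinearMap.restrictScalars O
  have he : Function.Injective e := b.equivFun.injective
  rw [← rl_map e he, ← rl_pi (n := n)]
  have h2 : On O K n ≤ N.map e := by
    intro x hx
    have hx' : ∀ i, ∃ r : O, algebraMap O K r = x i := fun i => by
      have : x i ∈ (1 : Submodule O K) := hx i trivial
      rwa [Submodule.mem_one] at this
    choose r hr using hx'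
    refine ⟨∑ i, r i • b i, N.sum_mem fun i _ => N.smul_mem _ (hb1 i), ?_⟩
    have h3 : ∑ i, r i • b i = ∑ i, x i • b i := by
      refine Finset.sum_congr rfl fun i _ => ?_
      rw [← hr, algebraMap_smul]
    rw [h3]
    change b.equivFun (∑ i, x i • b i) = x
    rw [← b.equivFun_symm_apply, LinearEquiv.apply_symm_apply]
  have h3 : (SN.restrictScalars O).map e ≤ Sn O K n := by
    rintro _ ⟨z, hz, rfl⟩ i _
    change b.equivFun z i ∈ S
    rw [Module.Basis.equivFun_apply]
    have hz' : z ∈ SN := hz
    clear hz
    induction hz' using Submodule.span_induction with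
    | mem y hy => exact hb2 y hy i
    | zero => rw [map_zero]; exact (S).zero_mem
    | add y z _ _ hy hz => rw [map_add]; exact (S).add_mem hy hz
    | smul c y _ hy =>
      have h4 : b.repr (c • y) i = (c : K) * b.repr y i := by
        change b.repr ((c : K) • y) i = _
        rw [map_smul]
        rfl
      rw [h4]
      exact (S).mul_mem c.2 hy
  exact (rl_mono_right h3).trans (rl_anti_left h2)

/-- The conductor lattice as a module over the normalization. -/
def CnS (O K : Type u) [CommRing O] [Field K] [Algebra O K] [IsDomain O] [IsFractionRing O K] (n : ℕ) :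
    Submodule (integralClosure O K) (Fin n → K) where
  carrier := {v | ∀ i, v i ∈ condK O (integralClosure O K)}
  add_mem' := fun {a b} ha hb i => Submodule.add_mem _ (ha i) (hb i)
  zero_mem' := fun i => Submodule.zero_mem _
  smul_mem' := fun c x hx i => by
    change (c : K) * x i ∈ _
    rw [mul_comm]
    exact mul_mem_condK (hx i) c.2

theorem CnS_restrictScalars (n : ℕ) : (CnS O K n).restrictScalars O = Cn O K n := by
  ext x
  exact ⟨fun h i _ => h i, fun h i => h i trivial⟩

theorem Cn_le_On (n : ℕ) : Cn O K n ≤ On O K n := fun x hx i _ => condK_le_one _ (hx i trivial)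

theorem On_le_Sn (n : ℕ) : On O K n ≤ Sn O K n := fun x hx i _ => one_le _ (hx i trivial)

theorem full_condK (hfin : Module.Finite O S) : Full (condK O S) := by
  have hfg : (Subalgebra.toSubmodule S).FG := Module.Finite.iff_fg.1 hfin
  refine full_dl ?_ hfg
  intro h
  have h1 : (1 : K) ∈ (1 : Submodule O K) := Submodule.mem_one.2 ⟨1, map_one _⟩
  rw [h] at h1
  exact one_ne_zero ((Submodule.mem_bot O).1 h1)

theorem full_Cn (hfin : Module.Finite O S) (n : ℕ) : Full (Cn O K n) := by
  classical
  intro x
  choose a ha hax using fun i => full_condK hfin (x i)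
  refine ⟨∏ i, a i, Finset.prod_ne_zero_iff.2 fun i _ => ha i, fun i _ => ?_⟩
  change (∏ j, a j) • x i ∈ _
  rw [← Finset.prod_erase_mul _ _ (Finset.mem_univ i), mul_smul]
  exact Submodule.smul_mem _ _ (hax i)

theorem rl_condK_one (hdim : ringKrullDim O = 1) (hfin : Module.Finite O S) :
    rl (condK O S) 1 = rl 1 (Subalgebra.toSubmodule S) :=
  rl_cond hdim (isCanon_one O K hdim) S (Module.Finite.iff_fg.1 hfin) le_rfl (one_le S)

/-- The `S`-submodule `R` of `M` of colength `n δ`. -/
theorem exists_R (hdim : ringKrullDim O = 1) (hfin : Module.Finite O S) (n : ℕ)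
    (M : Submodule O (Fin n → K)) (hM : M.FG) (h1 : On O K n ≤ M) :
    ∃ R : Submodule S (Fin n → K), Cn O K n ≤ R.restrictScalars O ∧ R.restrictScalars O ≤ M ∧
      rl (R.restrictScalars O) M = (n : ℕ∞) * rl 1 (Subalgebra.toSubmodule S) := by
  have hM' : Full M := (full_On n).mono h1
  have hδ : rl 1 (Subalgebra.toSubmodule S) ≠ ⊤ :=
    rl_ne_top' hdim.le _ _ (Module.Finite.iff_fg.1 hfin) (fun m _ => exists_smul_mem_one' m)
  have hCM : Cn O K n ≤ M := (Cn_le_On n).trans h1
  have hCQ : CnS O K n ≤ core n M := by
    intro x hx s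
    apply hCM
    have := (CnS O K n).smul_mem s hx
    exact fun i _ => this i
  have hfull := full_Cn (K := K) hfin n
  have hCMfin : rl (Cn O K n) M ≠ ⊤ := rl_ne_top' hdim.le _ _ hM (fun m _ => hfull m)
  have e1 : rl (Cn O K n) M = (n : ℕ∞) * rl 1 (Subalgebra.toSubmodule S) + rl (On O K n) M := by
    rw [rl_add (Cn_le_On n) h1, rl_pi, rl_condK_one hdim hfin]
  have e2 : rl (Cn O K n) M = rl ((CnS O K n).restrictScalars O) ((core n M).restrictScalars O) +
      rl ((core n M).restrictScalars O) M := by
    rw [← CnS_restrictScalars]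
    exact rl_add hCQ (core_le n M)
  have e3 := rl_core_le hdim hfin n M hM hM'
  have hNoeth : IsNoetherian O M := by
    have : Module.Finite O M := Module.Finite.iff_fg.2 hM
    exact isNoetherian_of_isNoetherianRing_of_finite O _
  have hcorefg : ((core n M).restrictScalars O).FG := by
    have : IsNoetherian O ↥((core n M).restrictScalars O) := isNoetherian_of_le (core_le n M)
    exact Module.Finite.iff_fg.1 inferInstance
  have hcorefg' : (core n M).FG := by
    have : Module.Finite O (core n M) := Module.Finite.iff_fg.2 hcorefg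
    have : Module.Finite S (core n M) := Module.Finite.of_restrictScalars_finite O S _
    exact Module.Finite.iff_fg.1 this
  have hSnoeth : IsNoetherianRing S := IsNoetherianRing.of_finite O _
  -- pass to natural numbers
  generalize hA : rl (Cn O K n) M = A at e1 e2 hCMfin
  generalize hQ : rl ((CnS O K n).restrictScalars O) ((core n M).restrictScalars O) = Q at e2
  generalize hq : rl ((core n M).restrictScalars O) M = q at e2 e3
  generalize hd : rl 1 (Subalgebra.toSubmodule S) = δ at e1 e3 hδ
  generalize hr : rl (On O K n) M = r at e1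
  have hQ' : Q ≠ ⊤ := fun h => hCMfin (by rw [e2, h, top_add])
  have hq' : q ≠ ⊤ := fun h => hCMfin (by rw [e2, h, add_top])
  have hr' : r ≠ ⊤ := fun h => hCMfin (by rw [e1, h, add_top])
  lift Q to ℕ using hQ'
  lift q to ℕ using hq'
  lift r to ℕ using hr'
  lift δ to ℕ using hδ
  lift A to ℕ using hCMfin
  norm_cast at e1 e2 e3
  obtain ⟨R, hR1, hR2, hR3⟩ := Chain.exists_intermediate (O := O) (CnS O K n) Q (core n M) hCQ hcorefg' hQ
    r (by omega)
  refine ⟨R, ?_, ?_, ?_⟩
  · rw [← CnS_restrictScalars]; exact hR1
  · exact le_trans hR2 (core_le n M)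
  · have h4 : rl (Cn O K n) M = rl ((CnS O K n).restrictScalars O) (R.restrictScalars O) +
        rl (R.restrictScalars O) M := by
      rw [← CnS_restrictScalars]
      exact rl_add hR1 (le_trans hR2 (core_le n M))
    rw [hA, hR3, e1] at h4
    have h5 : (r : ℕ∞) ≠ ⊤ := ENat.natCast_ne_top r
    have h6 : ((n * δ + r : ℕ) : ℕ∞) = (r : ℕ∞) + (n : ℕ∞) * δ := by push_cast; ring
    rw [h6] at h4
    exact ((ENat.add_right_injective_of_ne_top h5) h4).symm

theorem main (hdim : ringKrullDim O = 1) (hfin : Module.Finite O S) (n : ℕ)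
    (M : Submodule O (Fin n → K)) (hM : M.FG) (h1 : On O K n ≤ M) (h2 : M ≤ Sn O K n) :
    ∃ ψ : (Fin n → K) ≃ₗ[K] (Fin n → K), Cn O K n ≤ M.map (ψ.toLinearMap.restrictScalars O) ∧
      M.map (ψ.toLinearMap.restrictScalars O) ≤ Sn O K n ∧
      rl (Cn O K n) (M.map (ψ.toLinearMap.restrictScalars O)) =
        (n : ℕ∞) * rl 1 (Subalgebra.toSubmodule S) := by
  obtain ⟨R, hR1, hR2, hR3⟩ := exists_R hdim hfin n M hM h1
  have hNoeth : IsNoetherian O M := by
    have : Module.Finite O M := Module.Finite.iff_fg.2 hM
    exact isNoetherian_of_isNoetherianRing_of_finite O _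
  have hRfg : (R.restrictScalars O).FG := by
    have : IsNoetherian O ↥(R.restrictScalars O) := isNoetherian_of_le hR2
    exact Module.Finite.iff_fg.1 inferInstance
  have hRfull : Full (R.restrictScalars O) := (full_Cn hfin n).mono hR1
  obtain ⟨b, hb1, hb2⟩ := Norm.exists_basis hdim.le hfin (R.restrictScalars O) hRfg
    hRfull.span_eq_top n (by simp)
  -- the conductor is principal
  have hCfg : (condK O S).FG :=
    fg_dl (isCanon_one O K hdim) mul_bijective (Module.Finite.iff_fg.1 hfin)
      (Full.mono (N := (1 : Submodule O K)) (fun x => exists_smul_mem_one' x) (one_le S))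
  obtain ⟨b', hb1', hb2'⟩ := Norm.exists_basis hdim.le hfin (condK O S) hCfg
    (full_condK hfin).span_eq_top 1 (by simp)
  have hc0 : b' 0 ≠ 0 := b'.ne_zero 0
  have hcS : ∀ x ∈ condK O S, ∃ s ∈ S, x = b' 0 * s := by
    intro x hx
    refine ⟨b'.repr x 0, hb2' x hx 0, ?_⟩
    have := b'.sum_repr x
    rw [Fin.sum_univ_one, smul_eq_mul, mul_comm] at this
    exact this.symm
  let ψ : (Fin n → K) ≃ₗ[K] (Fin n → K) := b.equivFun.trans (LinearEquiv.smulOfNeZero K (Fin n → K) (b' 0) hc0)
  have hψ : ∀ v, ψ v = b' 0 • b.equivFun v := fun v => rfl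
  have hinj : Function.Injective (ψ.toLinearMap.restrictScalars O) := ψ.injective
  have hRmap : (R.restrictScalars O).map (ψ.toLinearMap.restrictScalars O) = Cn O K n := by
    apply le_antisymm
    · rintro _ ⟨v, hv, rfl⟩ i _
      change ψ v i ∈ _
      rw [hψ]
      change b' 0 * b.repr v i ∈ _
      exact mul_mem_condK (hb1' 0) (hb2 v hv i)
    · intro x hx
      choose s hs hxs using fun i => hcS (x i) (hx i trivial)
      refine ⟨∑ i, s i • b i, ?_, ?_⟩
      · exact R.sum_mem fun i _ => R.smul_mem (⟨s i, hs i⟩ : S) (hb1 i)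
      · change ψ (∑ i, s i • b i) = x
        rw [hψ, ← b.equivFun_symm_apply, LinearEquiv.apply_symm_apply]
        funext i
        exact (hxs i).symm
  refine ⟨ψ, ?_, ?_, ?_⟩
  · rw [← hRmap]
    exact Submodule.map_mono hR2
  · rintro _ ⟨v, hv, rfl⟩ i _
    have h3 : b' 0 • v ∈ R := by
      apply hR1
      intro i _
      exact mul_mem_condK (hb1' 0) (h2 hv i trivial)
    have h4 := hb2 _ h3 i
    change ψ v i ∈ S
    rw [hψ]
    rw [map_smul] at h4
    exact h4
  · rw [← hRmap, rl_map _ hinj, hR3]

end

end K839.Gor
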