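import Mathlib.LinearAlgebra.Basis.VectorSpace
import Mathlib.LinearAlgebra.FreeModule.Finite.Basic
import Mathlib.LinearAlgebra.FreeModule.Basic
import Mathlib.LinearAlgebra.Dimension.Free
import Mathlib.RingTheory.Noetherian.Basic

/-!
# Torsion-free modules between free modules
-/

set_option autoImplicit false

namespace K839.Sandwich

/-- A finite torsion-free module `N` over a domain contains a free module `R^n` and is contained in `R^n` up to a
nonzero scalar. -/
theorem exists_sandwich (R : Type*) [CommRing R] [IsDomain R]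
    (N : Type*) [AddCommGroup N] [Module R N] [Module.Finite R N] [NoZeroSMulDivisors R N] :
    ∃ (n : ℕ) (f : (Fin n → R) →ₗ[R] N) (g : N →ₗ[R] (Fin n → R)) (d : R), d ≠ 0 ∧
      (∀ x, g (f x) = d • x) ∧ (∀ y, f (g y) = d • y) := by
  classical
  obtain ⟨n, s, hs⟩ := Module.Finite.exists_fin (R := R) (M := N)
  obtain ⟨I, indepI, hI⟩ := exists_maximal_linearIndepOn R s
  let N' := Submodule.span R (s '' I)
  have hex : ∀ i, ∃ a : R, a ≠ 0 ∧ a • s i ∈ N' := by
    intro i
    by_cases hi : i ∈ I
    · exact ⟨1, one_ne_zero, by rw [one_smul]; exact Submodule.subset_span ⟨i, hi, rfl⟩⟩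
    · exact hI i hi
  choose a ha ha' using hex
  let b : R := ∏ i, a i
  have hb : b ≠ 0 := Finset.prod_ne_zero_iff.mpr fun i _ => ha i
  have hbN : ∀ x : N, b • x ∈ N' := by
    intro x
    have hx : x ∈ Submodule.span R (Set.range s) := hs ▸ Submodule.mem_top
    induction hx using Submodule.span_induction with
    | mem x hx =>
      obtain ⟨i, rfl⟩ := hx
      have : b = (∏ j ∈ Finset.univ.erase i, a j) * a i := by
        rw [Finset.prod_erase_mul _ _ (Finset.mem_univ i)]
      rw [this, mul_smul]
      exact Submodule.smul_mem _ _ (ha' i)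
    | zero => rw [smul_zero]; exact Submodule.zero_mem _
    | add x y _ _ hx hy => rw [smul_add]; exact Submodule.add_mem _ hx hy
    | smul c x _ hx => rw [smul_comm]; exact Submodule.smul_mem _ _ hx
  have hspan : Submodule.span R (Set.range fun i : I => s i) = N' := by
    congr 1
    ext x
    simp
  let B : Module.Basis I R N' := (Module.Basis.span indepI).map (LinearEquiv.ofEq _ _ hspan)
  let e : N' ≃ₗ[R] (Fin (Fintype.card I) → R) := (B.reindex (Fintype.equivFin I)).equivFun
  let g : N →ₗ[R] N' := LinearMap.codRestrict N' (b • LinearMap.id) hbN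
  refine ⟨Fintype.card I, N'.subtype ∘ₗ e.symm.toLinearMap, e.toLinearMap ∘ₗ g, b, hb, ?_, ?_⟩
  · intro x
    change e (g (e.symm x : N)) = b • x
    have h1 : g (e.symm x : N) = b • e.symm x := Subtype.ext rfl
    rw [h1, map_smul, LinearEquiv.apply_symm_apply]
  · intro y
    change ((e.symm (e (g y)) : N') : N) = b • y
    rw [LinearEquiv.symm_apply_apply]
    rfl

end K839.Sandwich
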