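import Groth.Agent.TFCurv.K839.ExtTools
import Groth.Agent.TFCurv.K839.Sandwich
import Groth.Agent.TFCurv.K839.Rl
import Mathlib.RingTheory.KrullDimension.Field
import Mathlib.RingTheory.LocalRing.ResidueField.Basic

/-!
# Canonical modules of one-dimensional local domains, by hand

`O` is a Noetherian local domain of dimension one.  `W` is a torsion-free module of rank one of injective dimension
at most one.  Then `Ext^i(M, W) = 0` for `i ≥ 1` and `M` finite torsion-free, `Ext^1(T, W)` has the length of `T` for `T`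
of finite length, and `M → Hom(Hom(M, W), W)` is bijective for `M` finite torsion-free.
-/

set_option autoImplicit false
set_option linter.unusedSectionVars false
universe u

open CategoryTheory Abelian K839.ExtTools K839.Rl

namespace K839.Canon

section general

variable {O : Type u} [CommRing O]

theorem length_ext1_add {M₁ M₂ M₃ : Type u} [AddCommGroup M₁] [Module O M₁] [AddCommGroup M₂] [Module O M₂]
    [AddCommGroup M₃] [Module O M₃] {f : M₁ →ₗ[O] M₂} {g : M₂ →ₗ[O] M₃} (h : Function.Exact f g)
    (hf : Function.Injective f) (hg : Function.Surjective g)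
    (N : Type u) [AddCommGroup N] [Module O N] (h0 : ∀ φ : M₁ →ₗ[O] N, φ = 0)
    (h2 : Subsingleton (Ext (ModuleCat.of O M₃) (ModuleCat.of O N) 2)) :
    Module.length O (Ext (ModuleCat.of O M₂) (ModuleCat.of O N) 1) =
      Module.length O (Ext (ModuleCat.of O M₃) (ModuleCat.of O N) 1) +
      Module.length O (Ext (ModuleCat.of O M₁) (ModuleCat.of O N) 1) := by
  have hS := sc_shortExact h hf hg
  refine Module.length_eq_add_of_exact
    (Ext.precompOfLinear (Ext.mk₀ (ModuleCat.ofHom g)) O (ModuleCat.of O N) (zero_add 1))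
    (Ext.precompOfLinear (Ext.mk₀ (ModuleCat.ofHom f)) O (ModuleCat.of O N) (zero_add 1)) ?_ ?_ ?_
  · rw [← LinearMap.ker_eq_bot, eq_bot_iff]
    intro x hx
    obtain ⟨y, hy⟩ := Ext.contravariant_sequence_exact₃ hS (ModuleCat.of O N) x hx (add_zero 1)
    obtain ⟨φ, rfl⟩ := (ext0 M₁ N).surjective y
    rw [Submodule.mem_bot, ← hy, h0 φ, map_zero, Ext.comp_zero]
  · intro x
    exact Ext.contravariant_sequence_exact₁ hS (ModuleCat.of O N) x rfl (h2.elim _ _)
  · intro x
    constructor
    · intro hx
      exact Ext.contravariant_sequence_exact₂ hS (ModuleCat.of O N) x hx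
    · rintro ⟨y, rfl⟩
      change (Ext.mk₀ (ModuleCat.ofHom f)).comp ((Ext.mk₀ (ModuleCat.ofHom g)).comp y (zero_add 1))
        (zero_add 1) = 0
      rw [Ext.mk₀_comp_mk₀_assoc]
      have : ModuleCat.ofHom f ≫ ModuleCat.ofHom g = 0 := (sc f g h).zero
      rw [this, Ext.mk₀_zero, Ext.zero_comp]

/-- Transport of `Ext` along an isomorphism in the first variable. -/
noncomputable def extEquivLeft {N N' : ModuleCat.{u} O} (M : ModuleCat.{u} O) (e : N ≅ N') (n : ℕ) :
    Ext N' M n ≃ₗ[O] Ext N M n :=
  LinearEquiv.ofLinearMap (Ext.precompOfLinear (Ext.mk₀ e.hom) O M (zero_add n))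
    (Ext.precompOfLinear (Ext.mk₀ e.inv) O M (zero_add n))
    (by ext x; simp) (by ext x; simp)

/-- Transport of `Ext` along an isomorphism in the second variable. -/
noncomputable def extEquivRight (N : ModuleCat.{u} O) {M M' : ModuleCat.{u} O} (e : M ≅ M') (n : ℕ) :
    Ext N M n ≃ₗ[O] Ext N M' n :=
  LinearEquiv.ofLinearMap (Ext.postcompOfLinear (Ext.mk₀ e.hom) O N (add_zero n))
    (Ext.postcompOfLinear (Ext.mk₀ e.inv) O N (add_zero n))
    (by ext x; simp) (by ext x; simp)

/-- Transport of the length of `Ext` along a linear equivalence in the first variable. -/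
theorem length_ext_congr {M M' : Type u} [AddCommGroup M] [Module O M] [AddCommGroup M'] [Module O M']
    (e : M ≃ₗ[O] M') (N : Type u) [AddCommGroup N] [Module O N] (n : ℕ) :
    Module.length O (Ext (ModuleCat.of O M) (ModuleCat.of O N) n) =
      Module.length O (Ext (ModuleCat.of O M') (ModuleCat.of O N) n) :=
  (extEquivLeft (ModuleCat.of O N) e.toModuleIso n).length_eq.symm

end general

variable {O : Type u} [CommRing O] [IsDomain O] [IsNoetherianRing O] [IsLocalRing O]

theorem subsingleton_ext_torsionFree {W : Type u} [AddCommGroup W] [Module O W]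
    (hW : HasInjectiveDimensionLT (ModuleCat.of O W) 2)
    (M : Type u) [AddCommGroup M] [Module O M] [Module.Finite O M] [NoZeroSMulDivisors O M]
    (i : ℕ) (hi : 1 ≤ i) : Subsingleton (Ext (ModuleCat.of O M) (ModuleCat.of O W) i) := by
  obtain ⟨n, f, g, d, hd, h1, h2⟩ := Sandwich.exists_sandwich O M
  have hg : Function.Injective g := by
    intro x y hxy
    have h3 : d • x = d • y := by rw [← h2, ← h2, hxy]
    exact smul_right_injective _ hd h3
  have hex : Function.Exact g (LinearMap.range g).mkQ := LinearMap.exact_map_mkQ_range g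
  have hS := sc_shortExact hex hg (Submodule.mkQ_surjective _)
  exact Groth.Agent.Localalg.InjDim.subsingleton_ext_X₁ hS (ModuleCat.of O W) i
    (subsingleton_of_projective _ _ i hi) (subsingleton_of_injDim 2 hW _ (i + 1) (by omega))

/-- A canonical module: rank one, torsion-free, injective dimension at most one. -/
structure IsCanon (O : Type u) [CommRing O] (W : Type u) [AddCommGroup W] [Module O W] : Prop where
  finite : Module.Finite O W
  injDim : HasInjectiveDimensionLT (ModuleCat.of O W) 2
  exists_emb : ∃ j : W →ₗ[O] O, Function.Injective j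
  nontrivial : Nontrivial W

namespace IsCanon

variable {W : Type u} [AddCommGroup W] [Module O W] (hW : IsCanon O W)
include hW

omit [IsNoetherianRing O] [IsLocalRing O] in
theorem noZeroSMulDivisors : NoZeroSMulDivisors O W := by
  obtain ⟨j, hj⟩ := hW.exists_emb
  exact hj.noZeroSMulDivisors j (map_zero j) (fun c x => map_smul j c x)

omit [IsNoetherianRing O] [IsLocalRing O] in
theorem hom_eq_zero {T : Type u} [AddCommGroup T] [Module O T] (hT : ∀ t : T, ∃ a : O, a ≠ 0 ∧ a • t = 0)
    (φ : T →ₗ[O] W) : φ = 0 := by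
  have := hW.noZeroSMulDivisors
  ext t
  obtain ⟨a, ha, hat⟩ := hT t
  have h1 : a • φ t = 0 := by rw [← map_smul, hat, map_zero]
  exact (smul_eq_zero.1 h1).resolve_left ha

omit [IsNoetherianRing O] [IsLocalRing O] in
/-- Two elements of `W` are proportional. -/
theorem smul_comm_emb (j : W →ₗ[O] O) (hj : Function.Injective j) (w w' : W) : j w • w' = j w' • w := by
  apply hj
  rw [map_smul, map_smul, smul_eq_mul, smul_eq_mul, mul_comm]

/-- `length (W / x W) = length (O / x O)`. -/
theorem length_quot (hdim : ringKrullDim O ≤ 1) (x : O) (hx : x ≠ 0) :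
    Module.length O (W ⧸ LinearMap.range (LinearMap.lsmul O W x)) =
      Module.length O (O ⧸ Ideal.span {x}) := by
  obtain ⟨j, hj⟩ := hW.exists_emb
  have := hW.noZeroSMulDivisors
  have := hW.finite
  have := hW.nontrivial
  obtain ⟨w, hw⟩ := exists_ne (0 : W)
  have hjw : j w ≠ 0 := fun h => hw (hj (by rw [h, map_zero]))
  let ψ : O →ₗ[O] O := LinearMap.lsmul O O x
  have hψ : Function.Injective ψ := fun a b hab => mul_left_cancel₀ hx hab
  have hA : (LinearMap.range j).map ψ ≤ LinearMap.range j := by
    rintro _ ⟨y, hy, rfl⟩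
    exact Submodule.smul_mem _ x hy
  have hne : rl (LinearMap.range j) (⊤ : Submodule O O) ≠ ⊤ := by
    refine rl_ne_top hdim _ _ Module.Finite.fg_top (j w) hjw fun m _ => ?_
    refine ⟨m • w, ?_⟩
    rw [map_smul, smul_eq_mul, smul_eq_mul, mul_comm]
  have key := rl_map_self_eq ψ hψ (le_top : LinearMap.range j ≤ ⊤) hA le_top hne
  have e1 : rl ((LinearMap.range j).map ψ) (LinearMap.range j) =
      Module.length O (W ⧸ LinearMap.range (LinearMap.lsmul O W x)) := by
    rw [← rl_range j hj]
    congr 1
    ext z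
    constructor
    · rintro ⟨_, ⟨y, rfl⟩, rfl⟩
      exact ⟨x • y, ⟨y, rfl⟩, map_smul _ _ _⟩
    · rintro ⟨_, ⟨y, rfl⟩, rfl⟩
      exact ⟨j y, ⟨y, rfl⟩, (map_smul j x y).symm⟩
  have e2 : rl ((⊤ : Submodule O O).map ψ) ⊤ = Module.length O (O ⧸ Ideal.span {x}) := by
    rw [rl_top]
    have : (⊤ : Submodule O O).map ψ = Ideal.span {x} := by
      ext z
      rw [Ideal.mem_span_singleton']
      constructor
      · rintro ⟨y, -, rfl⟩
        exact ⟨y, mul_comm _ _⟩
      · rintro ⟨y, rfl⟩
        exact ⟨y, trivial, mul_comm _ _⟩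
    rw [this]
  rw [← e1, key, e2]

/-- `Ext^1(O/x, W) ≅ W / x W`. -/
theorem length_ext_quot (x : O) (hx : x ≠ 0) :
    Module.length O (Ext (ModuleCat.of O (O ⧸ Ideal.span {x})) (ModuleCat.of O W) 1) =
      Module.length O (W ⧸ LinearMap.range (LinearMap.lsmul O W x)) := by
  let f : O →ₗ[O] O := LinearMap.lsmul O O x
  have hf : Function.Injective f := fun a b hab => mul_left_cancel₀ hx hab
  have hex : Function.Exact f (Submodule.mkQ (Ideal.span {x})) := by
    intro y
    rw [Submodule.mkQ_apply, Submodule.Quotient.mk_eq_zero, Ideal.mem_span_singleton']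
    constructor
    · rintro ⟨a, rfl⟩; exact ⟨a, mul_comm _ _⟩
    · rintro ⟨a, rfl⟩; exact ⟨a, mul_comm _ _⟩
  have e := ext1Contra hex hf (Submodule.mkQ_surjective _) W (subsingleton_of_projective _ _ 1 le_rfl)
  rw [← e.length_eq]
  refine (Submodule.Quotient.equiv _ _ (LinearMap.ringLmapEquivSelf O O W) ?_).length_eq
  ext z
  constructor
  · rintro ⟨_, ⟨φ, rfl⟩, rfl⟩
    refine ⟨φ 1, ?_⟩
    change x • φ 1 = φ (x • 1)
    rw [map_smul]
  · rintro ⟨y, rfl⟩
    refine ⟨_, ⟨LinearMap.toSpanSingleton O W y, rfl⟩, ?_⟩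
    change LinearMap.toSpanSingleton O W y (x • 1) = x • y
    rw [LinearMap.toSpanSingleton_apply, smul_eq_mul, mul_one]

omit [IsNoetherianRing O] in
theorem exists_smul_eq_zero_of_isFiniteLength (hdim : ringKrullDim O = 1) {T : Type u} [AddCommGroup T] [Module O T]
    (hT : IsFiniteLength O T) : ∀ t : T, ∃ a : O, a ≠ 0 ∧ a • t = 0 := by
  intro t
  have h1 : ¬ IsField O := fun h => by
    rw [ringKrullDim_eq_zero_of_isField h] at hdim
    exact absurd hdim (by norm_num)
  by_contra hcon
  push Not at hcon
  -- then `O` embeds in `T`, hence is Artinian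
  have hinj : Function.Injective (LinearMap.toSpanSingleton O T t) := by
    rw [← LinearMap.ker_eq_bot, eq_bot_iff]
    intro a ha
    by_contra ha0
    exact hcon a ha0 ha
  have h2 : IsFiniteLength O O := hT.of_injective hinj
  have h3 : IsArtinianRing O := (isArtinianRing_iff_isFiniteLength O).2 h2
  exact h1 (IsArtinianRing.isField_of_isDomain O)

theorem length_ext_of_isFiniteLength (hdim : ringKrullDim O = 1) {T : Type u} [AddCommGroup T] [Module O T]
    (hT : IsFiniteLength O T) :
    Module.length O (Ext (ModuleCat.of O T) (ModuleCat.of O W) 1) =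
      Module.length O (Ext (ModuleCat.of O (O ⧸ IsLocalRing.maximalIdeal O)) (ModuleCat.of O W) 1) *
        Module.length O T := by
  induction hT with
  | @of_subsingleton M _ _ _ =>
    rw [Module.length_eq_zero (M := M), mul_zero, Module.length_eq_zero_iff]
    refine subsingleton_of_forall_eq 0 fun x ↦ ?_
    rw [← x.mk₀_id_comp, (ModuleCat.isZero_of_subsingleton (ModuleCat.of O M)).eq_zero_of_src
      (𝟙 _), Ext.mk₀_zero, Ext.zero_comp]
  | @of_simple_quotient M _ _ N hs hN ih =>
    have hM : IsFiniteLength O M := IsFiniteLength.of_simple_quotient hN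
    have h0 : ∀ t : N, ∃ a : O, a ≠ 0 ∧ a • t = 0 := hW.exists_smul_eq_zero_of_isFiniteLength hdim hN
    rw [length_ext1_add (f := N.subtype) (g := N.mkQ) (LinearMap.exact_subtype_mkQ N)
      N.injective_subtype (Submodule.mkQ_surjective _) W (hW.hom_eq_zero h0)
      (subsingleton_of_injDim 2 hW.injDim _ 2 le_rfl), ih]
    have h3 : Module.length O M = Module.length O N + Module.length O (M ⧸ N) :=
      Module.length_eq_add_of_exact N.subtype N.mkQ N.subtype_injective N.mkQ_surjective
        (LinearMap.exact_subtype_mkQ N)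
    have h4 : Module.length O (M ⧸ N) = 1 := Module.length_eq_one O (M := M ⧸ N)
    rw [h3, h4, mul_add, mul_one, add_comm]
    congr 1
    obtain ⟨I, hI, ⟨e⟩⟩ := isSimpleModule_iff_quot_maximal.1 hs
    rw [IsLocalRing.eq_maximalIdeal hI] at e
    exact length_ext_congr e W 1

/-- The residue field has `Ext^1` of length one. -/
theorem length_ext_residue (hdim : ringKrullDim O = 1) :
    Module.length O (Ext (ModuleCat.of O (O ⧸ IsLocalRing.maximalIdeal O)) (ModuleCat.of O W) 1) = 1 := by
  have h1 : IsLocalRing.maximalIdeal O ≠ ⊥ := fun h => by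
    rw [ringKrullDim_eq_zero_of_isField (IsLocalRing.isField_iff_maximalIdeal_eq.2 h)] at hdim
    exact absurd hdim (by norm_num)
  obtain ⟨x, hxm, hx⟩ := Submodule.exists_mem_ne_zero_of_ne_bot h1
  have : Ring.KrullDimLE 1 O := by
    rw [Ring.krullDimLE_iff]
    exact_mod_cast hdim.le
  have hfin : Module.length O (O ⧸ Ideal.span {x}) ≠ ⊤ :=
    Ring.ord_ne_top (mem_nonZeroDivisors_of_ne_zero hx)
  have hfin' : IsFiniteLength O (O ⧸ Ideal.span {x}) := Module.length_ne_top_iff.1 hfin
  have h2 := hW.length_ext_of_isFiniteLength hdim hfin'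
  rw [hW.length_ext_quot x hx, hW.length_quot hdim.le x hx] at h2
  have h3 : Module.length O (O ⧸ Ideal.span {x}) ≠ 0 := by
    rw [Ne, Module.length_eq_zero_iff, Submodule.Quotient.subsingleton_iff]
    intro h
    exact (IsLocalRing.maximalIdeal.isMaximal O).ne_top
      (top_le_iff.1 (h ▸ (Ideal.span_singleton_le_iff_mem _).2 hxm))
  set r := Module.length O (Ext (ModuleCat.of O (O ⧸ IsLocalRing.maximalIdeal O)) (ModuleCat.of O W) 1)
  lift Module.length O (O ⧸ Ideal.span {x}) to ℕ using hfin with l hl
  have hr : r ≠ ⊤ := by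
    intro hr
    rw [hr, ENat.top_mul h3] at h2
    exact ENat.natCast_ne_top _ h2
  lift r to ℕ using hr with r hr
  norm_cast at h2 h3 ⊢
  have h4 : 0 < l := Nat.pos_of_ne_zero h3
  nlinarith [Nat.eq_of_mul_eq_mul_right h4 (show 1 * l = r * l by omega)]

/-- `Ext^1(T, W)` has the same length as `T`. -/
theorem length_ext (hdim : ringKrullDim O = 1) {T : Type u} [AddCommGroup T] [Module O T]
    (hT : IsFiniteLength O T) :
    Module.length O (Ext (ModuleCat.of O T) (ModuleCat.of O W) 1) = Module.length O T := by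
  rw [hW.length_ext_of_isFiniteLength hdim hT, hW.length_ext_residue hdim, one_mul]

/-- The cokernel of the restriction of homomorphisms to `W` has the length of the cokernel. -/
theorem length_hom_quot (hdim : ringKrullDim O = 1) {M N : Type u} [AddCommGroup M] [Module O M]
    [AddCommGroup N] [Module O N] [Module.Finite O N] [NoZeroSMulDivisors O N]
    (f : M →ₗ[O] N) (hf : Function.Injective f) (hT : IsFiniteLength O (N ⧸ LinearMap.range f)) :
    Module.length O ((M →ₗ[O] W) ⧸ LinearMap.range (LinearMap.lcomp O W f)) =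
      Module.length O (N ⧸ LinearMap.range f) := by
  rw [← hW.length_ext hdim hT]
  exact (ext1Contra (LinearMap.exact_map_mkQ_range f) hf (Submodule.mkQ_surjective _) W
    (subsingleton_ext_torsionFree hW.injDim N 1 le_rfl)).length_eq

end IsCanon

end K839.Canon
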