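import Groth.Agent.TFCurv.K839.Canon
import Mathlib.RingTheory.Noetherian.Basic

/-!
# Double duality for torsion-free modules over a one-dimensional local domain
-/

set_option autoImplicit false
set_option linter.unusedSectionVars false
universe u

open CategoryTheory Abelian K839.ExtTools K839.Rl

namespace K839.Canon

/-- The evaluation map `M → Hom(Hom(M, W), W)`. -/
def ev (O : Type u) [CommRing O] (M W : Type u) [AddCommGroup M] [Module O M] [AddCommGroup W] [Module O W] :
    M →ₗ[O] (M →ₗ[O] W) →ₗ[O] W :=
  LinearMap.flip LinearMap.id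

lemma ev_apply (O : Type u) [CommRing O] (M W : Type u) [AddCommGroup M] [Module O M] [AddCommGroup W]
    [Module O W] (m : M) (φ : M →ₗ[O] W) : ev O M W m φ = φ m := rfl

/-- Transposition. -/
def tr (O : Type u) [CommRing O] (M N W : Type u) [AddCommGroup M] [Module O M] [AddCommGroup N] [Module O N]
    [AddCommGroup W] [Module O W] : (M →ₗ[O] N) →ₗ[O] ((N →ₗ[O] W) →ₗ[O] (M →ₗ[O] W)) where
  toFun φ := LinearMap.lcomp O W φ
  map_add' φ ψ := by
    ext θ m
    exact map_add θ _ _
  map_smul' c φ := by
    ext θ m
    exact map_smul θ _ _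

variable {O : Type u} [CommRing O] [IsDomain O] [IsNoetherianRing O] [IsLocalRing O]

namespace IsCanon

variable {W : Type u} [AddCommGroup W] [Module O W] (hW : IsCanon O W)
include hW

theorem hom_finite (M : Type u) [AddCommGroup M] [Module O M] [Module.Finite O M] :
    Module.Finite O (M →ₗ[O] W) := by
  have := hW.finite
  infer_instance

theorem hom_noZeroSMulDivisors (M : Type u) [AddCommGroup M] [Module O M] :
    NoZeroSMulDivisors O (M →ₗ[O] W) := by
  have := hW.noZeroSMulDivisors
  refine ⟨fun {c φ} h => ?_⟩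
  by_cases hc : c = 0
  · exact Or.inl hc
  · right
    ext m
    have h1 : c • φ m = 0 := by rw [← LinearMap.smul_apply, h, LinearMap.zero_apply]
    exact (smul_eq_zero.1 h1).resolve_left hc

theorem ev_injective (M : Type u) [AddCommGroup M] [Module O M] [Module.Finite O M]
    [NoZeroSMulDivisors O M] : Function.Injective (ev O M W) := by
  have := hW.noZeroSMulDivisors
  have := hW.nontrivial
  obtain ⟨w, hw⟩ := exists_ne (0 : W)
  obtain ⟨n, f, g, d, hd, h1, h2⟩ := Sandwich.exists_sandwich O M
  have hg : Function.Injective g := by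
    intro x y hxy
    have h3 : d • x = d • y := by rw [← h2, ← h2, hxy]
    exact smul_right_injective _ hd h3
  rw [injective_iff_map_eq_zero]
  intro m hm
  apply hg
  rw [map_zero]
  funext i
  have h3 := LinearMap.congr_fun hm ((LinearMap.proj i ∘ₗ g).smulRight w)
  have h4 : g m i • w = 0 := h3
  exact (smul_eq_zero.1 h4).resolve_right hw

theorem exists_smul_mem_range_ev (M : Type u) [AddCommGroup M] [Module O M] [Module.Finite O M]
    [NoZeroSMulDivisors O M] (z : (M →ₗ[O] W) →ₗ[O] W) :
    ∃ a : O, a ≠ 0 ∧ a • z ∈ LinearMap.range (ev O M W) := by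
  have := hW.noZeroSMulDivisors
  have := hW.nontrivial
  obtain ⟨w, hw⟩ := exists_ne (0 : W)
  obtain ⟨j, hj⟩ := hW.exists_emb
  have hb : j w ≠ 0 := fun h => hw (hj (by rw [h, map_zero]))
  obtain ⟨n, f, g, d, hd, h1, h2⟩ := Sandwich.exists_sandwich O M
  -- the case of a free module
  let E : Fin n → ((Fin n → O) →ₗ[O] W) := fun i => (LinearMap.proj i).smulRight w
  let z' : ((Fin n → O) →ₗ[O] W) →ₗ[O] W := z ∘ₗ LinearMap.lcomp O W g
  have key : ∀ ψ : (Fin n → O) →ₗ[O] W, j w • z' ψ = ψ (fun i => j (z' (E i))) := by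
    intro ψ
    have e1 : j w • ψ = ∑ i, j (ψ (Pi.single i 1)) • E i := by
      apply LinearMap.pi_ext'
      intro k
      ext
      simp only [LinearMap.comp_apply, LinearMap.single_apply, LinearMap.smul_apply,
        LinearMap.sum_apply]
      rw [Finset.sum_eq_single k]
      · change j w • ψ (Pi.single k 1) = j (ψ (Pi.single k 1)) • ((Pi.single k (1 : O) : Fin n → O) k • w)
        rw [Pi.single_eq_same, one_smul]
        exact hW.smul_comm_emb j hj w _
      · intro i _ hik
        change j (ψ (Pi.single i 1)) • ((Pi.single k (1 : O) : Fin n → O) i • w) = 0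
        rw [Pi.single_eq_of_ne hik, zero_smul, smul_zero]
      · intro h; exact absurd (Finset.mem_univ _) h
    rw [← map_smul, e1, map_sum]
    have e2 : (fun i => j (z' (E i))) = ∑ i, j (z' (E i)) • (Pi.single i (1 : O) : Fin n → O) := by
      funext k
      rw [Finset.sum_apply, Finset.sum_eq_single k]
      · simp
      · intro i _ hik
        rw [Pi.smul_apply, Pi.single_eq_of_ne hik.symm, smul_zero]
      · intro h; exact absurd (Finset.mem_univ _) h
    rw [e2, map_sum]
    refine Finset.sum_congr rfl fun i _ => ?_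
    rw [map_smul, map_smul]
    exact hW.smul_comm_emb j hj _ _
  refine ⟨j w * d, mul_ne_zero hb hd, f (fun i => j (z' (E i))), ?_⟩
  ext φ
  rw [ev_apply]
  have e3 := key (φ ∘ₗ f)
  have e4 : z' (φ ∘ₗ f) = d • z φ := by
    change z ((φ ∘ₗ f) ∘ₗ g) = _
    rw [← map_smul]
    congr 1
    ext m
    change φ (f (g m)) = d • φ m
    rw [h2, map_smul]
  rw [e4, smul_smul] at e3
  exact e3.symm

/-- Double duality. -/
theorem ev_bijective (hdim : ringKrullDim O = 1) (M : Type u) [AddCommGroup M] [Module O M]
    [Module.Finite O M] [NoZeroSMulDivisors O M] : Function.Bijective (ev O M W) := by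
  refine ⟨hW.ev_injective M, ?_⟩
  have := hW.hom_finite M
  have := hW.hom_finite (M →ₗ[O] W)
  have := hW.hom_noZeroSMulDivisors (M →ₗ[O] W)
  have h1 : rl (LinearMap.range (ev O M W)) (⊤ : Submodule O ((M →ₗ[O] W) →ₗ[O] W)) ≠ ⊤ :=
    rl_ne_top' hdim.le _ _ Module.Finite.fg_top (fun z _ => hW.exists_smul_mem_range_ev M z)
  rw [rl_top] at h1
  have h2 : IsFiniteLength O (((M →ₗ[O] W) →ₗ[O] W) ⧸ LinearMap.range (ev O M W)) :=
    Module.length_ne_top_iff.1 h1
  have h3 := hW.length_hom_quot hdim (ev O M W) (hW.ev_injective M) h2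
  have h4 : LinearMap.range (LinearMap.lcomp O W (ev O M W)) = ⊤ := by
    rw [LinearMap.range_eq_top]
    intro φ
    exact ⟨ev O (M →ₗ[O] W) W φ, rfl⟩
  have h5 : Subsingleton ((M →ₗ[O] W) ⧸ LinearMap.range (LinearMap.lcomp O W (ev O M W))) :=
    Submodule.Quotient.subsingleton_iff.2 h4
  rw [Module.length_eq_zero] at h3
  rw [← LinearMap.range_eq_top, ← Submodule.Quotient.subsingleton_iff, ← Module.length_eq_zero_iff (R := O),
    ← h3]

/-- Duality on homomorphisms. -/
theorem transpose_bijective (hdim : ringKrullDim O = 1) (M N : Type u) [AddCommGroup M] [Module O M]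
    [AddCommGroup N] [Module O N] [Module.Finite O N] [NoZeroSMulDivisors O N] :
    Function.Bijective (tr O M N W) := by
  have hN := hW.ev_bijective hdim N
  let eN := LinearEquiv.ofBijective (ev O N W) hN
  constructor
  · rw [injective_iff_map_eq_zero]
    intro φ hφ
    ext m
    apply hN.1
    rw [LinearMap.zero_apply, map_zero]
    ext ψ
    have := LinearMap.congr_fun (LinearMap.congr_fun hφ ψ) m
    exact this
  · intro θ
    refine ⟨eN.symm.toLinearMap ∘ₗ θ.flip, ?_⟩
    ext ψ m
    change ψ (eN.symm (θ.flip m)) = θ ψ m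
    have h1 : eN (eN.symm (θ.flip m)) = θ.flip m := eN.apply_symm_apply _
    have h2 := LinearMap.congr_fun h1 ψ
    exact h2

end IsCanon

/-- `Ext` into a finite power. -/
theorem subsingleton_ext_pi {W X : Type u} [AddCommGroup W] [Module O W] [AddCommGroup X] [Module O X] (i : ℕ)
    (h : Subsingleton (Ext (ModuleCat.of O X) (ModuleCat.of O W) i)) (n : ℕ) :
    Subsingleton (Ext (ModuleCat.of O X) (ModuleCat.of O (Fin n → W)) i) := by
  induction n with
  | zero =>
    refine subsingleton_of_forall_eq 0 fun x ↦ ?_
    rw [← x.comp_mk₀_id, (ModuleCat.isZero_of_subsingleton (ModuleCat.of O (Fin 0 → W))).eq_zero_of_src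
      (𝟙 _), Ext.mk₀_zero, Ext.comp_zero]
  | succ n ih =>
    let f : W →ₗ[O] (Fin (n + 1) → W) := LinearMap.single O (fun _ => W) 0
    let g : (Fin (n + 1) → W) →ₗ[O] (Fin n → W) := LinearMap.funLeft O W Fin.succ
    have hf : Function.Injective f := fun x y h => by
      have := congrFun h 0
      simpa [f] using this
    have hg : Function.Surjective g := LinearMap.funLeft_surjective_of_injective O W _ (Fin.succ_injective n)
    have hex : Function.Exact f g := by
      intro v
      constructor
      · intro hv
        refine ⟨v 0, ?_⟩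
        funext k
        refine Fin.cases ?_ (fun k => ?_) k
        · simp [f]
        · have := congrFun hv k
          simp only [f, LinearMap.single_apply]
          rw [Pi.single_eq_of_ne (Fin.succ_ne_zero k)]
          exact this.symm
      · rintro ⟨w, rfl⟩
        funext k
        simp [f, g, LinearMap.funLeft_apply]
    exact Groth.Agent.Localalg.InjDim.subsingleton_ext_of_X₂ (sc_shortExact hex hf hg)
      (ModuleCat.of O X) i h ih

namespace IsCanon

variable {W : Type u} [AddCommGroup W] [Module O W] (hW : IsCanon O W)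
include hW

theorem subsingleton_ext_dual_free (X : Type u) [AddCommGroup X] [Module O X] [Module.Finite O X]
    [NoZeroSMulDivisors O X] (n i : ℕ) (hi : 1 ≤ i) :
    Subsingleton (Ext (ModuleCat.of O X) (ModuleCat.of O ((Fin n → O) →ₗ[O] W)) i) := by
  have h1 := subsingleton_ext_pi i (subsingleton_ext_torsionFree hW.injDim X i hi) n
  let e : (Fin n → W) ≃ₗ[O] ((Fin n → O) →ₗ[O] W) :=
    (LinearEquiv.piCongrRight fun _ => (LinearMap.ringLmapEquivSelf O O W).symm).trans
      (LinearMap.lsum O (fun _ : Fin n => O) O)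
  exact Groth.Agent.Localalg.InjDim.subsingleton_ext_congr (LinearEquiv.refl O X) e i h1

/-- Duality for `Ext` groups of torsion-free modules. -/
theorem ext_dual (hdim : ringKrullDim O = 1) (i : ℕ) : ∀ (M N : Type u) [AddCommGroup M] [Module O M]
    [Module.Finite O M] [NoZeroSMulDivisors O M]
    [AddCommGroup N] [Module O N] [Module.Finite O N] [NoZeroSMulDivisors O N],
    Nonempty (Ext (ModuleCat.of O M) (ModuleCat.of O N) i ≃ₗ[O]
      Ext (ModuleCat.of O (N →ₗ[O] W)) (ModuleCat.of O (M →ₗ[O] W)) i) := by
  induction i with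
  | zero =>
    intro M N _ _ _ _ _ _ _ _
    exact ⟨(ext0 M N).symm.trans ((LinearEquiv.ofBijective _ (hW.transpose_bijective hdim M N)).trans
      (ext0 _ _))⟩
  | succ i ih =>
    intro M N _ _ _ _ _ _ _ _
    obtain ⟨n, π, hπ⟩ := Module.Finite.exists_fin' O M
    let K := LinearMap.ker π
    have : Module.Finite O K := inferInstance
    have : NoZeroSMulDivisors O K := by
      refine ⟨fun {c v} h => ?_⟩
      by_cases hc : c = 0
      · exact Or.inl hc
      · right
        apply Subtype.ext
        funext i
        have h1 := congrFun (congrArg Subtype.val h) i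
        exact (mul_eq_zero.1 h1).resolve_left hc
    have := hW.hom_finite N
    have := hW.hom_noZeroSMulDivisors N
    have hex : Function.Exact K.subtype π := LinearMap.exact_subtype_ker_map π
    -- the dual sequence
    have hf' : Function.Injective (LinearMap.lcomp O W π) := by
      intro φ ψ h
      ext m
      obtain ⟨v, rfl⟩ := hπ m
      exact LinearMap.congr_fun h v
    have hg' : Function.Surjective (LinearMap.lcomp O W K.subtype) := by
      rw [← LinearMap.range_eq_top, ← ker_deltaContra hex K.injective_subtype hπ W, eq_top_iff]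
      intro φ _
      rw [LinearMap.mem_ker]
      exact (subsingleton_ext_torsionFree hW.injDim M 1 le_rfl).elim _ _
    have hex' : Function.Exact (LinearMap.lcomp O W π) (LinearMap.lcomp O W K.subtype) := by
      intro φ
      constructor
      · intro h
        have h1 : LinearMap.ker π ≤ LinearMap.ker φ := fun v hv =>
          LinearMap.congr_fun h (⟨v, hv⟩ : LinearMap.ker π)
        let e := π.quotKerEquivOfSurjective hπ
        refine ⟨((LinearMap.ker π).liftQ φ h1) ∘ₗ e.symm.toLinearMap, LinearMap.ext fun v => ?_⟩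
        have h2 : e.symm (π v) = (LinearMap.ker π).mkQ v := by
          rw [LinearEquiv.symm_apply_eq]
          rfl
        change ((LinearMap.ker π).liftQ φ h1) (e.symm (π v)) = φ v
        rw [h2]
        rfl
      · rintro ⟨ψ, rfl⟩
        refine LinearMap.ext fun v => ?_
        change ψ (π (v : Fin n → O)) = 0
        have h3 : π (v : Fin n → O) = 0 := v.2
        rw [h3, map_zero]
    rcases Nat.eq_zero_or_pos i with rfl | hi
    · have e1 := ext1Contra hex K.injective_subtype hπ N (subsingleton_of_projective _ _ 1 le_rfl)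
      have e2 := ext1Cov hex' hf' hg' (N →ₗ[O] W)
        (hW.subsingleton_ext_dual_free (N →ₗ[O] W) n 1 le_rfl)
      refine ⟨e1.symm.trans ((Submodule.Quotient.equiv _ _
        (LinearEquiv.ofBijective _ (hW.transpose_bijective hdim K N)) ?_).trans e2)⟩
      ext θ
      constructor
      · rintro ⟨_, ⟨ψ, rfl⟩, rfl⟩
        exact ⟨tr O (Fin n → O) N W ψ, rfl⟩
      · rintro ⟨θ', rfl⟩
        obtain ⟨ψ, rfl⟩ := (hW.transpose_bijective hdim (Fin n → O) N).2 θ'
        exact ⟨_, ⟨ψ, rfl⟩, rfl⟩
    · obtain ⟨e⟩ := ih K N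
      have e1 := shiftContra hex K.injective_subtype hπ N i (subsingleton_of_projective _ _ i hi)
        (subsingleton_of_projective _ _ (i + 1) (by omega))
      have e2 := shiftCov hex' hf' hg' (N →ₗ[O] W) i
        (hW.subsingleton_ext_dual_free (N →ₗ[O] W) n i hi)
        (hW.subsingleton_ext_dual_free (N →ₗ[O] W) n (i + 1) (by omega))
      exact ⟨e1.symm.trans (e.trans e2)⟩

end IsCanon

/-- A nonzero finitely generated submodule of the fraction field of injective dimension at most one. -/
theorem isCanon_of_submodule {K : Type u} [Field K] [Algebra O K] [IsFractionRing O K] (ω : Submodule O K)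
    (hω0 : ω ≠ ⊥) (hωfg : ω.FG) (hωinj : HasInjectiveDimensionLT (ModuleCat.of O ↥ω) 2) :
    IsCanon O ↥ω where
  finite := Module.Finite.iff_fg.2 hωfg
  injDim := hωinj
  nontrivial := Submodule.nontrivial_iff_ne_bot.2 hω0
  exists_emb := by
    obtain ⟨a, ha, h⟩ := exists_smul_mem (1 : Submodule O K) ω hωfg (fun m _ => exists_smul_mem_one' m)
    have hinj : Function.Injective (Algebra.linearMap O K) := FaithfulSMul.algebraMap_injective O K
    let e := LinearEquiv.ofInjective (Algebra.linearMap O K) hinj
    have h' : ∀ m : ω, (a • ω.subtype) m ∈ LinearMap.range (Algebra.linearMap O K) := by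
      intro m
      have := h m m.2
      rwa [Submodule.one_eq_range] at this
    refine ⟨e.symm.toLinearMap ∘ₗ LinearMap.codRestrict _ (a • ω.subtype) h', ?_⟩
    refine e.symm.injective.comp ?_
    intro x y hxy
    have h1 : a • (x : K) = a • (y : K) := congrArg Subtype.val hxy
    have ha' : algebraMap O K a ≠ 0 := by rwa [Ne, FaithfulSMul.algebraMap_eq_zero_iff]
    rw [Algebra.smul_def, Algebra.smul_def] at h1
    exact Subtype.ext (mul_left_cancel₀ ha' h1)

end K839.Canon
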