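import Groth.Agent.TFCurv.K839.Rl
import Mathlib.RingTheory.PowerSeries.Order
import Mathlib.RingTheory.PowerSeries.Inverse
import Mathlib.Data.Set.Card

/-!
# Value sets of subspaces of `k[[t]]`
-/

set_option autoImplicit false
set_option linter.unusedSectionVars false
universe u

open PowerSeries K839.Rl

namespace K839.PS

variable {k : Type u} [Field k]

theorem le_order_iff {f : PowerSeries k} {m : ℕ} : (m : ℕ∞) ≤ order f ↔ ∀ i < m, coeff i f = 0 :=
  ⟨fun h i hi => coeff_of_lt_order i (lt_of_lt_of_le (by exact_mod_cast hi) h), fun h => nat_le_order f m h⟩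

/-- Power series of order at least `m`. -/
def F (k : Type u) [Field k] (m : ℕ) : Submodule k (PowerSeries k) where
  carrier := {f | (m : ℕ∞) ≤ order f}
  add_mem' := fun {a b} ha hb => le_trans (le_min ha hb) (min_order_le_order_add a b)
  zero_mem' := by simp
  smul_mem' := fun c x hx => by
    change (m : ℕ∞) ≤ order x at hx
    change (m : ℕ∞) ≤ order (c • x)
    rw [le_order_iff] at hx ⊢
    intro i hi
    have := hx i hi
    simp [this]

theorem mem_F {m : ℕ} {f : PowerSeries k} : f ∈ F k m ↔ (m : ℕ∞) ≤ order f := Iff.rfl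

theorem F_anti {m n : ℕ} (h : m ≤ n) : F k n ≤ F k m := fun f hf =>
  le_trans (by exact_mod_cast h) (mem_F.1 hf)

theorem F_zero : F k 0 = ⊤ := by
  rw [eq_top_iff]
  intro f _
  rw [mem_F]
  exact bot_le

theorem mem_F_succ {m : ℕ} {f : PowerSeries k} (hf : f ∈ F k m) : f ∈ F k (m + 1) ↔ coeff m f = 0 := by
  rw [mem_F, le_order_iff] at hf
  rw [mem_F, le_order_iff]
  constructor
  · intro h; exact h m (Nat.lt_succ_self m)
  · intro h i hi
    rcases Nat.lt_succ_iff_lt_or_eq.1 hi with h1 | rfl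
    · exact hf i h1
    · exact h

theorem order_eq_iff {m : ℕ} {f : PowerSeries k} : order f = m ↔ f ∈ F k m ∧ coeff m f ≠ 0 := by
  rw [order_eq_nat, mem_F, le_order_iff]
  exact ⟨fun h => ⟨fun i hi => h.2 i hi, h.1⟩, fun h => ⟨h.2, fun i hi => h.1 i hi⟩⟩

/-- The set of orders of nonzero elements. -/
def val (W : Submodule k (PowerSeries k)) : Set ℕ := {n | ∃ f ∈ W, order f = n}

theorem val_mono {W V : Submodule k (PowerSeries k)} (h : W ≤ V) : val W ⊆ val V := by
  rintro n ⟨f, hf, hfn⟩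
  exact ⟨f, h hf, hfn⟩

open Classical in
theorem rl_step (W : Submodule k (PowerSeries k)) (i : ℕ) :
    rl (W ⊓ F k (i + 1)) (W ⊓ F k i) = if i ∈ val W then 1 else 0 := by
  let c : ↥(W ⊓ F k i) →ₗ[k] k := (coeff i).restrictScalars k ∘ₗ (W ⊓ F k i).subtype
  have hker : Submodule.comap (W ⊓ F k i).subtype (W ⊓ F k (i + 1)) = LinearMap.ker c := by
    ext x
    rw [LinearMap.mem_ker]
    change ((x : PowerSeries k) ∈ W ∧ (x : PowerSeries k) ∈ F k (i + 1)) ↔ coeff i (x : PowerSeries k) = 0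
    rw [mem_F_succ x.2.2]
    exact ⟨fun h => h.2, fun h => ⟨x.2.1, h⟩⟩
  rw [rl, hker, (LinearMap.quotKerEquivRange c).length_eq]
  split_ifs with h
  · obtain ⟨f, hf, hfi⟩ := h
    rw [order_eq_iff] at hfi
    have hr : LinearMap.range c = ⊤ := by
      rw [LinearMap.range_eq_top]
      intro a
      refine ⟨(a / coeff i f) • ⟨f, hf, hfi.1⟩, ?_⟩
      rw [map_smul]
      change (a / coeff i f) * coeff i f = a
      rw [div_mul_cancel₀ _ hfi.2]
    rw [hr, Module.length_top, Module.length_eq_finrank, Module.finrank_self]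
    rfl
  · have hr : LinearMap.range c = ⊥ := by
      rw [eq_bot_iff]
      rintro _ ⟨x, rfl⟩
      by_contra hx
      exact h ⟨x, x.2.1, order_eq_iff.2 ⟨x.2.2, hx⟩⟩
    rw [hr, Module.length_bot]

theorem rl_count (W : Submodule k (PowerSeries k)) (m : ℕ) :
    rl (W ⊓ F k m) W = (val W ∩ Set.Iio m).encard := by
  classical
  induction m with
  | zero =>
    rw [F_zero, inf_top_eq, rl_self]
    simp
  | succ m ih =>
    rw [rl_add (inf_le_inf_left W (F_anti (Nat.le_succ m))) inf_le_left, rl_step, ih]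
    have h1 : val W ∩ Set.Iio (m + 1) = if m ∈ val W then insert m (val W ∩ Set.Iio m) else val W ∩ Set.Iio m := by
      split_ifs with h
      · ext n
        simp only [Set.mem_inter_iff, Set.mem_Iio, Set.mem_insert_iff]
        constructor
        · rintro ⟨h2, h3⟩
          rcases Nat.lt_succ_iff_lt_or_eq.1 h3 with h4 | rfl
          · exact Or.inr ⟨h2, h4⟩
          · exact Or.inl rfl
        · rintro (rfl | ⟨h2, h3⟩)
          · exact ⟨h, Nat.lt_succ_self _⟩
          · exact ⟨h2, h3.trans (Nat.lt_succ_self _)⟩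
      · ext n
        simp only [Set.mem_inter_iff, Set.mem_Iio]
        constructor
        · rintro ⟨h2, h3⟩
          rcases Nat.lt_succ_iff_lt_or_eq.1 h3 with h4 | rfl
          · exact ⟨h2, h4⟩
          · exact absurd h2 h
        · rintro ⟨h2, h3⟩
          exact ⟨h2, h3.trans (Nat.lt_succ_self _)⟩
    rw [h1]
    split_ifs with h
    · rw [Set.encard_insert_of_notMem (by simp), add_comm]
    · rw [zero_add]

theorem rl_F {W : Submodule k (PowerSeries k)} {m : ℕ} (h : F k m ≤ W) :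
    rl (F k m) W = (val W ∩ Set.Iio m).encard := by
  rw [← rl_count, inf_eq_right.2 h]

theorem val_top : val (⊤ : Submodule k (PowerSeries k)) = Set.univ := by
  rw [Set.eq_univ_iff_forall]
  intro n
  exact ⟨X ^ n, trivial, order_X_pow n⟩

theorem Ici_subset_val {W : Submodule k (PowerSeries k)} {m : ℕ} (h : F k m ≤ W) : Set.Ici m ⊆ val W := by
  intro n hn
  refine ⟨X ^ n, h ?_, order_X_pow n⟩
  rw [mem_F, order_X_pow]
  exact_mod_cast hn

/-- The codimension is the number of gaps. -/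
theorem rl_top_eq {W : Submodule k (PowerSeries k)} {m : ℕ} (h : F k m ≤ W) :
    rl W ⊤ = (val W)ᶜ.encard := by
  have h1 := rl_add h (le_top : W ≤ ⊤)
  rw [rl_F h, rl_F (W := ⊤) le_top, val_top, Set.univ_inter] at h1
  have h2 : (Set.Iio m : Set ℕ) = (val W ∩ Set.Iio m) ∪ (val W)ᶜ := by
    ext n
    simp only [Set.mem_Iio, Set.mem_union, Set.mem_inter_iff, Set.mem_compl_iff]
    constructor
    · intro hn
      by_cases h3 : n ∈ val W
      · exact Or.inl ⟨h3, hn⟩
      · exact Or.inr h3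
    · rintro (⟨_, h3⟩ | h3)
      · exact h3
      · by_contra hcon
        push Not at hcon
        exact h3 (Ici_subset_val h hcon)
  have h3 : (Set.Iio m : Set ℕ).encard = (val W ∩ Set.Iio m).encard + (val W)ᶜ.encard := by
    conv_lhs => rw [h2]
    rw [Set.encard_union_eq]
    rw [Set.disjoint_left]
    rintro n ⟨h3, _⟩ h4
    exact h4 h3
  rw [h3] at h1
  have hfin : (val W ∩ Set.Iio m).encard ≠ ⊤ := by
    rw [Set.encard_ne_top_iff]
    exact (Set.finite_Iio m).subset Set.inter_subset_right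
  exact ((ENat.add_right_injective_of_ne_top hfin) h1).symm

/-- Successive approximation. -/
theorem exists_approx {W : Submodule k (PowerSeries k)} {m : ℕ} (h : ∀ n, m ≤ n → n ∈ val W)
    {f : PowerSeries k} (hf : (m : ℕ∞) ≤ order f) (n : ℕ) : ∃ g ∈ W, (n : ℕ∞) ≤ order (f - g) := by
  induction n with
  | zero => exact ⟨0, W.zero_mem, bot_le⟩
  | succ n ih =>
    rcases Nat.lt_or_ge n m with hn | hn
    · refine ⟨0, W.zero_mem, ?_⟩
      rw [sub_zero]
      exact le_trans (by exact_mod_cast hn) hf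
    · obtain ⟨g, hg, hfg⟩ := ih
      obtain ⟨p, hp, hpn⟩ := h n hn
      rw [order_eq_iff] at hpn
      let a := coeff n (f - g) / coeff n p
      refine ⟨g + a • p, W.add_mem hg (W.smul_mem _ hp), ?_⟩
      have h1 : f - (g + a • p) ∈ F k n := by
        rw [← sub_sub]
        exact (F k n).sub_mem hfg ((F k n).smul_mem _ hpn.1)
      have h2 := (mem_F_succ h1).2 (by
        rw [← sub_sub, map_sub, coeff_smul, smul_eq_mul, div_mul_cancel₀ _ hpn.2, sub_self])
      exact h2

theorem F_le_of_closed {W : Submodule k (PowerSeries k)} {m : ℕ} (h : ∀ n, m ≤ n → n ∈ val W)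
    (hcl : ∀ f : PowerSeries k, (∀ n : ℕ, ∃ g ∈ W, (n : ℕ∞) ≤ order (f - g)) → f ∈ W) : F k m ≤ W :=
  fun _ hf => hcl _ fun n => exists_approx h hf n

/-- A power series of order `m` is `X^m` times a unit. -/
theorem exists_unit_mul {f : PowerSeries k} {m : ℕ} (hf : order f = m) :
    ∃ u : PowerSeries k, IsUnit u ∧ f = u * X ^ m := by
  rw [order_eq_iff] at hf
  have h1 : X ^ m ∣ f := by
    rw [X_pow_dvd_iff]
    exact le_order_iff.1 hf.1
  obtain ⟨u, hu⟩ := h1
  refine ⟨u, ?_, by rw [hu, mul_comm]⟩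
  rw [isUnit_iff_constantCoeff, isUnit_iff_ne_zero]
  intro h0
  apply hf.2
  rw [hu, coeff_X_pow_mul', if_pos le_rfl, Nat.sub_self, coeff_zero_eq_constantCoeff_apply, h0]

theorem mem_F_iff_exists_mul {f : PowerSeries k} {m : ℕ} (hf : order f = m) {g : PowerSeries k} :
    g ∈ F k m ↔ ∃ h, g = h * f := by
  obtain ⟨u, hu, hfu⟩ := exists_unit_mul hf
  constructor
  · intro hg
    have h1 : X ^ m ∣ g := by
      rw [X_pow_dvd_iff]
      exact le_order_iff.1 hg
    obtain ⟨q, hq⟩ := h1
    obtain ⟨v, hv⟩ := hu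
    refine ⟨q * ↑v⁻¹, ?_⟩
    rw [hfu, hq, ← hv, mul_assoc, Units.inv_mul_cancel_left, mul_comm]
  · rintro ⟨h, rfl⟩
    rw [mem_F, order_mul, hf]
    exact le_add_self

/-- The conductor is nonzero. -/
theorem exists_F_le (A : Subalgebra k (PowerSeries k)) (hA : Module.Finite ↥A (PowerSeries k))
    (hbir : ∀ f : PowerSeries k, ∃ a ∈ A, a ≠ 0 ∧ a * f ∈ A) : ∃ m, F k m ≤ Subalgebra.toSubmodule A := by
  obtain ⟨a, ha, h⟩ := exists_smul_mem (A := A) (1 : Submodule A (PowerSeries k)) ⊤ Module.Finite.fg_top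
    (fun f _ => by
      obtain ⟨a, haA, ha0, haf⟩ := hbir f
      refine ⟨⟨a, haA⟩, fun h => ha0 (congrArg Subtype.val h), ?_⟩
      exact Submodule.mem_one.2 ⟨⟨a * f, haf⟩, rfl⟩)
  have ha0 : (a : PowerSeries k) ≠ 0 := fun h => ha (Subtype.ext h)
  obtain ⟨m, hm⟩ : ∃ m : ℕ, order (a : PowerSeries k) = m :=
    ⟨_, (coe_toNat_order ha0).symm⟩
  refine ⟨m, fun g hg => ?_⟩
  obtain ⟨q, rfl⟩ := (mem_F_iff_exists_mul hm).1 hg
  obtain ⟨y, hy⟩ := Submodule.mem_one.1 (h q trivial)
  have : q * (a : PowerSeries k) = y := by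
    rw [mul_comm]
    exact hy.symm
  rw [this]
  exact y.2

theorem finrank_eq_ncard {W : Submodule k (PowerSeries k)} {m : ℕ} (h : F k m ≤ W) :
    (val W)ᶜ.Finite ∧ Module.finrank k (PowerSeries k ⧸ W) = (val W)ᶜ.ncard := by
  have hfin : (val W)ᶜ.Finite := (Set.finite_Iio m).subset (fun n hn => by
    by_contra hcon
    simp only [Set.mem_Iio, not_lt] at hcon
    exact hn (Ici_subset_val h hcon))
  refine ⟨hfin, ?_⟩
  have h1 := rl_top_eq h
  rw [rl_top] at h1
  have h2 : Module.length k (PowerSeries k ⧸ W) ≠ ⊤ := by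
    rw [h1, Set.encard_ne_top_iff]
    exact hfin
  rw [Module.length_ne_top_iff, isFiniteLength_iff_isNoetherian_isArtinian] at h2
  have := h2.1
  have : Module.Finite k (PowerSeries k ⧸ W) := inferInstance
  rw [Module.length_eq_finrank, ← hfin.cast_ncard_eq] at h1
  exact_mod_cast h1

end K839.PS
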