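import Groth.Agent.TFCurv.K839.PSRing
import Groth.Agent.TFCurv.K839.Cond

/-!
# Canonical ideals of unibranch rings `A ⊆ k[[t]]`: the value set
-/

set_option autoImplicit false
set_option linter.unusedSectionVars false
universe u

open PowerSeries K839.Rl K839.PS K839.PSRing K839.Canon K839.DualLat K839.Cond IsLocalRing CategoryTheory

namespace K839.PSCanon

variable {k : Type u} [Field k] {A : Subalgebra k (PowerSeries k)}

/-- Transport of injective dimension along a linear equivalence. -/
theorem injDim_congr {R : Type u} [CommRing R] {M N : Type u} [AddCommGroup M] [Module R M] [AddCommGroup N]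
    [Module R N] (e : M ≃ₗ[R] N) (n : ℕ) (h : HasInjectiveDimensionLT (ModuleCat.of R M) n) :
    HasInjectiveDimensionLT (ModuleCat.of R N) n :=
  hasInjectiveDimensionLT_of_iso e.toModuleIso n

/-- The image of a canonical submodule of `k[[t]]` in the fraction field. -/
theorem isCanon_map (hA : Module.Finite ↥A (PowerSeries k)) {c : ℕ}
    (hc : F k c ≤ Subalgebra.toSubmodule A) (ω : Submodule A (PowerSeries k)) (hω1 : (1 : PowerSeries k) ∈ ω)
    (hωfg : ω.FG) (hωinj : HasInjectiveDimensionLT (ModuleCat.of ↥A ↥ω) 2) :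
    IsCanon A ↥(ω.map (incl A)) := by
  have h1 := isLocalRing hA
  have h2 := isNoetherianRing hA hc
  have h3 := isFractionRing hc
  refine isCanon_of_submodule (O := A) (ω.map (incl A)) ?_ (hωfg.map _) ?_
  · intro h
    have h4 : incl A 1 ∈ ω.map (incl A) := ⟨1, hω1, rfl⟩
    rw [h, Submodule.mem_bot, incl_apply, map_one] at h4
    exact one_ne_zero h4
  · exact injDim_congr (Submodule.equivMapOfInjective (incl A) incl_injective ω) 2 hωinj

theorem one_le_map (ω : Submodule A (PowerSeries k)) (hω1 : (1 : PowerSeries k) ∈ ω) :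
    (1 : Submodule A (KK k)) ≤ ω.map (incl A) := by
  rw [← map_one_incl]
  apply Submodule.map_mono
  intro x hx
  obtain ⟨a, rfl⟩ := Submodule.mem_one.1 hx
  have : algebraMap A (PowerSeries k) a = a • (1 : PowerSeries k) := by rw [Algebra.smul_def, mul_one]
  rw [this]
  exact ω.smul_mem a hω1

theorem map_le (hA : Module.Finite ↥A (PowerSeries k)) (ω : Submodule A (PowerSeries k)) :
    ω.map (incl A) ≤ Subalgebra.toSubmodule (integralClosure A (KK k)) := by
  rw [← range_incl hA]
  rintro _ ⟨x, _, rfl⟩
  exact ⟨x, rfl⟩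

theorem incl_mem_condK (hA : Module.Finite ↥A (PowerSeries k)) {c : ℕ}
    (hc : F k c ≤ Subalgebra.toSubmodule A) (f : PowerSeries k) :
    incl A f ∈ condK A (integralClosure A (KK k)) ↔ ∀ g : PowerSeries k, f * g ∈ A := by
  have h3 := isFractionRing hc
  rw [mem_condK]
  constructor
  · intro h g
    have h1 : incl A f * incl A g ∈ (1 : Submodule A (KK k)) :=
      h _ ((mem_integralClosure hA _).2 ⟨g, rfl⟩)
    rw [incl_apply, incl_apply, ← map_mul] at h1
    obtain ⟨a, ha⟩ := Submodule.mem_one.1 h1
    have h2 : (a : PowerSeries k) = f * g := IsFractionRing.injective (PowerSeries k) (KK k) ha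
    rw [← h2]
    exact a.2
  · intro h y hy
    obtain ⟨g, rfl⟩ := (mem_integralClosure hA _).1 hy
    rw [incl_apply, ← map_mul]
    exact Submodule.mem_one.2 ⟨⟨f * g, h g⟩, rfl⟩

/-- The conductor is `t^c k[[t]]`. -/
theorem condK_eq (hA : Module.Finite ↥A (PowerSeries k)) {c : ℕ}
    (hc : F k c ≤ Subalgebra.toSubmodule A) (hc0 : c ≠ 0) (hc1 : c - 1 ∉ val (Subalgebra.toSubmodule A)) :
    condK A (integralClosure A (KK k)) = (FA A c).map (incl A) := by
  have h3 := isFractionRing hc
  ext x
  constructor
  · intro hx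
    have hxS : x ∈ integralClosure A (KK k) := by
      have h1 := condK_le_one _ hx
      have h2 : x ∈ Subalgebra.toSubmodule (integralClosure A (KK k)) := Cond.one_le _ h1
      exact h2
    obtain ⟨f, rfl⟩ := (mem_integralClosure hA _).1 hxS
    refine ⟨f, ?_, rfl⟩
    have h := (incl_mem_condK hA hc f).1 hx
    by_cases hf : f = 0
    · rw [hf]; exact Submodule.zero_mem _
    · obtain ⟨m, hm⟩ : ∃ m : ℕ, order f = m := ⟨_, (coe_toNat_order hf).symm⟩
      change (c : ℕ∞) ≤ order f
      rw [hm]
      have h1 : F k m ≤ Subalgebra.toSubmodule A := fun g hg => by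
        obtain ⟨q, rfl⟩ := (mem_F_iff_exists_mul hm).1 hg
        rw [mul_comm]
        exact h q
      have h2 := Ici_subset_val h1
      by_contra hcon
      push Not at hcon
      have h3 : m < c := by exact_mod_cast hcon
      exact hc1 (h2 (show m ≤ c - 1 by omega))
  · rintro ⟨f, hf, rfl⟩
    refine (incl_mem_condK hA hc f).2 fun g => hc ?_
    rw [mem_F, order_mul]
    exact le_trans hf le_self_add

theorem FA_restrict (m : ℕ) : (FA A m).restrictScalars k = F k m := rfl

/-- The number of values of `ω` below the conductor is the number of gaps. -/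
theorem encard_val (hA : Module.Finite ↥A (PowerSeries k)) {c : ℕ}
    (hc : F k c ≤ Subalgebra.toSubmodule A) (hc0 : c ≠ 0) (hc1 : c - 1 ∉ val (Subalgebra.toSubmodule A))
    (ω : Submodule A (PowerSeries k)) (hω1 : (1 : PowerSeries k) ∈ ω)
    (hωfg : ω.FG) (hωinj : HasInjectiveDimensionLT (ModuleCat.of ↥A ↥ω) 2) :
    (val (ω.restrictScalars k) ∩ Set.Iio c).encard = (val (Subalgebra.toSubmodule A))ᶜ.encard := by
  have h1 := isLocalRing hA
  have h2 := isNoetherianRing hA hc
  have h3 := isFractionRing hc
  have hW := isCanon_map hA hc ω hω1 hωfg hωinj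
  have hdim := PSRing.ringKrullDim_eq_one hA hc
  have hfin := finite_integralClosure hA
  have key := rl_cond hdim hW (integralClosure A (KK k)) (Module.Finite.iff_fg.1 hfin)
    (one_le_map ω hω1) (map_le hA ω)
  rw [condK_eq hA hc hc0 hc1, ← range_incl hA, ← map_one_incl, LinearMap.range_eq_map,
    rl_map _ incl_injective, rl_map _ incl_injective, rl_restrict hA, rl_restrict hA, FA_restrict] at key
  have hAω : Subalgebra.toSubmodule A ≤ ω.restrictScalars k := by
    intro x hx
    have : x = (⟨x, hx⟩ : A) • (1 : PowerSeries k) := by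
      change x = x * 1
      rw [mul_one]
    rw [this]
    exact ω.smul_mem _ hω1
  rw [rl_F (hc.trans hAω)] at key
  have e1 : (1 : Submodule A (PowerSeries k)).restrictScalars k = Subalgebra.toSubmodule A := by
    ext x
    constructor
    · intro hx
      obtain ⟨a, rfl⟩ := Submodule.mem_one.1 (show x ∈ (1 : Submodule A (PowerSeries k)) from hx)
      exact a.2
    · intro hx
      exact Submodule.mem_one.2 ⟨⟨x, hx⟩, rfl⟩
  rw [e1, Submodule.restrictScalars_top, rl_top_eq hc] at key
  exact key

/-- The Frobenius number is not a value of a canonical ideal. -/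
theorem frob_notMem (hA : Module.Finite ↥A (PowerSeries k)) {c : ℕ}
    (hc : F k c ≤ Subalgebra.toSubmodule A) (hc0 : c ≠ 0) (hc1 : c - 1 ∉ val (Subalgebra.toSubmodule A))
    (ω : Submodule A (PowerSeries k)) (hω1 : (1 : PowerSeries k) ∈ ω)
    (hωfg : ω.FG) (hωinj : HasInjectiveDimensionLT (ModuleCat.of ↥A ↥ω) 2) :
    c - 1 ∉ val (ω.restrictScalars k) := by
  rintro ⟨f, hf, hfc⟩
  have h1 := isLocalRing hA
  have h2 := isNoetherianRing hA hc
  have h3 := isFractionRing hc
  have hW := isCanon_map hA hc ω hω1 hωfg hωinj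
  have hdim := PSRing.ringKrullDim_eq_one hA hc
  have key := dl_eq_condK hdim hW (integralClosure A (KK k)) (one_le_map ω hω1) (map_le hA ω)
  have hAω : Subalgebra.toSubmodule A ≤ ω.restrictScalars k := by
    intro x hx
    have : x = (⟨x, hx⟩ : A) • (1 : PowerSeries k) := by
      change x = x * 1
      rw [mul_one]
    rw [this]
    exact ω.smul_mem _ hω1
  rw [order_eq_iff] at hfc
  have hF : F k (c - 1) ≤ ω.restrictScalars k := by
    intro g hg
    have h4 : g - (coeff (c - 1) g / coeff (c - 1) f) • f ∈ F k (c - 1 + 1) := by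
      rw [mem_F_succ ((F k (c - 1)).sub_mem hg ((F k (c - 1)).smul_mem _ hfc.1)), map_sub,
        coeff_smul, smul_eq_mul, div_mul_cancel₀ _ hfc.2, sub_self]
    have h5 : c - 1 + 1 = c := by omega
    rw [h5] at h4
    have h6 := (ω.restrictScalars k).add_mem (hAω (hc h4))
      ((ω.restrictScalars k).smul_mem (coeff (c - 1) g / coeff (c - 1) f) hf)
    rwa [sub_add_cancel] at h6
  have h7 : incl A (X ^ (c - 1)) ∈ condK A (integralClosure A (KK k)) := by
    rw [← key]
    intro y hy
    obtain ⟨g, rfl⟩ := (mem_integralClosure hA _).1 hy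
    rw [LinearMap.mul_apply', incl_apply, ← map_mul]
    refine ⟨X ^ (c - 1) * g, hF ?_, rfl⟩
    rw [mem_F, order_mul, order_X_pow]
    exact le_self_add
  rw [condK_eq hA hc hc0 hc1] at h7
  obtain ⟨g, hg, hgx⟩ := h7
  have h8 : g = X ^ (c - 1) := incl_injective hgx
  have h9 : (c : ℕ∞) ≤ order g := hg
  rw [h8, order_X_pow] at h9
  have : c ≤ c - 1 := by exact_mod_cast h9
  omega

theorem value_set (hA : Module.Finite ↥A (PowerSeries k)) {c : ℕ}
    (hc : F k c ≤ Subalgebra.toSubmodule A) (hc0 : c ≠ 0) (hc1 : c - 1 ∉ val (Subalgebra.toSubmodule A))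
    (ω : Submodule A (PowerSeries k)) (hω1 : (1 : PowerSeries k) ∈ ω)
    (hωfg : ω.FG) (hωinj : HasInjectiveDimensionLT (ModuleCat.of ↥A ↥ω) 2) (n : ℕ) :
    n ∈ val (ω.restrictScalars k) ↔ (c ≤ n ∨ c - 1 - n ∉ val (Subalgebra.toSubmodule A)) := by
  have h1 := encard_val hA hc hc0 hc1 ω hω1 hωfg hωinj
  have h2 := frob_notMem hA hc hc0 hc1 ω hω1 hωfg hωinj
  have hAω : Subalgebra.toSubmodule A ≤ ω.restrictScalars k := by
    intro x hx
    have : x = (⟨x, hx⟩ : A) • (1 : PowerSeries k) := by
      change x = x * 1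
      rw [mul_one]
    rw [this]
    exact ω.smul_mem _ hω1
  set Γ := val (Subalgebra.toSubmodule A) with hΓ
  have hΓc : ∀ n, c ≤ n → n ∈ Γ := fun n hn => Ici_subset_val hc hn
  let T : Set ℕ := {n | n < c ∧ c - 1 - n ∉ Γ}
  have hsub : val (ω.restrictScalars k) ∩ Set.Iio c ⊆ T := by
    rintro n ⟨⟨f, hf, hfn⟩, hnc⟩
    have hnc' : n < c := hnc
    refine ⟨hnc', fun hmem => ?_⟩
    obtain ⟨g, hg, hgn⟩ := hmem
    apply h2
    refine ⟨g * f, ω.smul_mem (⟨g, hg⟩ : A) hf, ?_⟩
    rw [order_mul, hgn, hfn]
    norm_cast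
    omega
  have hT : T.encard = Γᶜ.encard := by
    apply le_antisymm
    · refine Set.encard_le_encard_of_injOn (f := fun n => c - 1 - n) (fun n hn => hn.2) ?_
      intro a ha b hb hab
      have h3 : a < c := ha.1
      have h4 : b < c := hb.1
      simp only at hab
      omega
    · refine Set.encard_le_encard_of_injOn (f := fun n => c - 1 - n) (fun n hn => ?_) ?_
      · have h3 : n < c := by
          by_contra hcon
          push Not at hcon
          exact hn (hΓc n hcon)
        have h5 : c - 1 - n < c := by omega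
        refine ⟨h5, ?_⟩
        have h4 : c - 1 - (c - 1 - n) = n := by omega
        change c - 1 - (c - 1 - n) ∉ Γ
        rw [h4]
        exact hn
      · intro a ha b hb hab
        have h3 : a < c := by
          by_contra hcon
          push Not at hcon
          exact ha (hΓc a hcon)
        have h4 : b < c := by
          by_contra hcon
          push Not at hcon
          exact hb (hΓc b hcon)
        simp only at hab
        omega
  have hTfin : T.Finite := (Set.finite_Iio c).subset (fun n hn => hn.1)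
  have heq : val (ω.restrictScalars k) ∩ Set.Iio c = T :=
    (hTfin.subset hsub).eq_of_subset_of_encard_le hsub (by rw [h1, hT])
  by_cases hn : c ≤ n
  · exact ⟨fun _ => Or.inl hn, fun _ => val_mono hAω (hΓc n hn)⟩
  · push Not at hn
    constructor
    · intro h
      right
      exact (hsub ⟨h, hn⟩).2
    · rintro (h | h)
      · omega
      · have h3 : n ∈ T := ⟨hn, h⟩
        rw [← heq] at h3
        exact h3.1

end K839.PSCanon
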