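import Groth.Agent.TFCurv.K839.PSRing
import Groth.Agent.TFCurv.K839.Lattice
import Mathlib.LinearAlgebra.Dimension.Localization

/-!
# Rank-one torsion-free modules over unibranch rings `A ⊆ k[[t]]`
-/

set_option autoImplicit false
set_option linter.unusedSectionVars false
universe u

open PowerSeries K839.Rl K839.PS K839.PSRing IsLocalRing

namespace K839.PSRank1

/-- Counting: a `Γ`-module in normal form contains everything from `#gaps Γ + #gaps S` on. -/
theorem mem_of_le {Γ S : Set ℕ} (hΓfin : Γᶜ.Finite) (hSfin : Sᶜ.Finite)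
    (hS : ∀ γ : ℕ, γ ∈ Γ → ∀ s : ℕ, s ∈ S → γ + s ∈ S) {n : ℕ} (hn : Γᶜ.ncard + Sᶜ.ncard ≤ n) : n ∈ S := by
  by_contra hnS
  have h1 : (S ∩ Set.Iic n).ncard ≤ Γᶜ.ncard := by
    refine Set.ncard_le_ncard_of_injOn (fun s => n - s) ?_ ?_ hΓfin
    · rintro s ⟨hs, hs'⟩ hmem
      have h1 := hS _ hmem s hs
      have h2 : s ≤ n := hs'
      have h3 : n - s + s = n := by omega
      rw [h3] at h1
      exact hnS h1
    · rintro s ⟨hs, hs'⟩ t ⟨ht, ht'⟩ hst
      have h2 : s ≤ n := hs'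
      have h3 : t ≤ n := ht'
      simp only at hst
      omega
  have h2 : (Sᶜ ∩ Set.Iic n).ncard ≤ Sᶜ.ncard := Set.ncard_le_ncard Set.inter_subset_left hSfin
  have h3 : (Set.Iic n).ncard ≤ (S ∩ Set.Iic n).ncard + (Sᶜ ∩ Set.Iic n).ncard := by
    refine le_trans (Set.ncard_le_ncard ?_ ?_) (Set.ncard_union_le _ _)
    · intro m hm
      by_cases h : m ∈ S
      · exact Or.inl ⟨h, hm⟩
      · exact Or.inr ⟨h, hm⟩
    · exact ((Set.finite_Iic n).subset Set.inter_subset_right).union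
        ((Set.finite_Iic n).subset Set.inter_subset_right)
  have h4 : (Set.Iic n).ncard = n + 1 := by
    rw [Set.ncard_eq_toFinset_card', Set.toFinset_Iic, Nat.card_Iic]
  omega

variable {k : Type u} [Field k] {A : Subalgebra k (PowerSeries k)}

/-- Every rank one torsion-free module is a submodule of `k[[t]]` containing `1`. -/
theorem exists_equiv [IsAlgClosed k] (hA : Module.Finite ↥A (PowerSeries k)) {c : ℕ}
    (hc : F k c ≤ Subalgebra.toSubmodule A)
    (M : Type u) [AddCommGroup M] [Module ↥A M] [Module.Finite ↥A M] [NoZeroSMulDivisors ↥A M]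
    (hrk : Module.finrank (FractionRing ↥A) (TensorProduct ↥A (FractionRing ↥A) M) = 1) :
    ∃ M1 : Submodule A (PowerSeries k), (1 : PowerSeries k) ∈ M1 ∧ Nonempty (M ≃ₗ[A] M1) := by
  have h1 := isLocalRing hA
  have h2 := isNoetherianRing hA hc
  have h3 := isFractionRing hc
  have hdim := PSRing.ringKrullDim_eq_one hA hc
  have hfin := finite_integralClosure hA
  have h4 := isAlgClosed_residueField hA
  have h5 : Infinite (ResidueField A) := IsAlgClosed.instInfinite
  have hrk' : Module.finrank (KK k) (TensorProduct A (KK k) M) = 1 := by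
    rw [(TensorProduct.isBaseChange A M (KK k)).finrank_eq, ← hrk,
      (TensorProduct.isBaseChange A M (FractionRing A)).finrank_eq]
  obtain ⟨φ, hφ, hle, hge⟩ := Lattice.exists_embedding (O := A) (K := KK k) hdim.le hfin M 1 hrk'
  let φ0 : M →ₗ[A] KK k := (LinearMap.proj (0 : Fin 1)) ∘ₗ φ
  have hφ0 : Function.Injective φ0 := by
    intro x y hxy
    apply hφ
    funext i
    rw [Subsingleton.elim i 0]
    exact hxy
  have hr : LinearMap.range φ0 ≤ LinearMap.range (incl A) := by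
    rintro _ ⟨m, rfl⟩
    rw [range_incl hA]
    exact hge ⟨m, rfl⟩ 0 trivial
  have h1r : (1 : KK k) ∈ LinearMap.range φ0 := by
    obtain ⟨m, hm⟩ : (fun _ => 1 : Fin 1 → KK k) ∈ LinearMap.range φ :=
      hle (fun i _ => Submodule.one_le.1 le_rfl)
    exact ⟨m, congrFun hm 0⟩
  let M1 : Submodule A (PowerSeries k) := (LinearMap.range φ0).comap (incl A)
  refine ⟨M1, ?_, ⟨?_⟩⟩
  · change incl A 1 ∈ LinearMap.range φ0
    rw [incl_apply, map_one]
    exact h1r
  · have e1 : M ≃ₗ[A] LinearMap.range φ0 := LinearEquiv.ofInjective φ0 hφ0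
    have e2 : M1 ≃ₗ[A] M1.map (incl A) := Submodule.equivMapOfInjective (incl A) incl_injective M1
    have e3 : M1.map (incl A) = LinearMap.range φ0 := by
      rw [Submodule.map_comap_eq, inf_eq_right.2 hr]
    exact e1 ≪≫ₗ (LinearEquiv.ofEq _ _ e3.symm) ≪≫ₗ e2.symm

theorem exists_normalized [IsAlgClosed k] (hA : Module.Finite ↥A (PowerSeries k)) {c : ℕ}
    (hc : F k c ≤ Subalgebra.toSubmodule A)
    (M : Type u) [AddCommGroup M] [Module ↥A M] [Module.Finite ↥A M] [NoZeroSMulDivisors ↥A M]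
    (hrk : Module.finrank (FractionRing ↥A) (TensorProduct ↥A (FractionRing ↥A) M) = 1) :
    ∃ M' : Submodule A (PowerSeries k),
      F k (2 * (val (Subalgebra.toSubmodule A))ᶜ.ncard) ≤ M'.restrictScalars k ∧ Nonempty (M ≃ₗ[A] M') ∧
      Module.finrank k (PowerSeries k ⧸ M'.restrictScalars k) = (val (Subalgebra.toSubmodule A))ᶜ.ncard := by
  obtain ⟨M1, hM1, ⟨e⟩⟩ := exists_equiv hA hc M hrk
  have hAM : Subalgebra.toSubmodule A ≤ M1.restrictScalars k := by
    intro x hx
    have : x = (⟨x, hx⟩ : A) • (1 : PowerSeries k) := by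
      change x = x * 1
      rw [mul_one]
    rw [this]
    exact M1.smul_mem _ hM1
  set Γ := val (Subalgebra.toSubmodule A) with hΓ
  set S := val (M1.restrictScalars k) with hSdef
  have hΓS : Γ ⊆ S := val_mono hAM
  have hΓfin : Γᶜ.Finite := (finrank_eq_ncard hc).1
  obtain ⟨hSfin, hSrk⟩ := finrank_eq_ncard (hc.trans hAM)
  have hle : Sᶜ.ncard ≤ Γᶜ.ncard := Set.ncard_le_ncard (Set.compl_subset_compl.2 hΓS) hΓfin
  have hmod : ∀ γ : ℕ, γ ∈ Γ → ∀ s : ℕ, s ∈ S → γ + s ∈ S := by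
    rintro γ ⟨f, hf, hfγ⟩ s ⟨g, hg, hgs⟩
    refine ⟨f * g, M1.smul_mem (⟨f, hf⟩ : A) hg, ?_⟩
    rw [order_mul, hfγ, hgs]
    norm_cast
  have hF : F k (Γᶜ.ncard + Sᶜ.ncard) ≤ M1.restrictScalars k := by
    intro f hf
    obtain ⟨g, hg, hfg⟩ := exists_approx (W := M1.restrictScalars k)
      (fun n hn => mem_of_le hΓfin hSfin hmod hn) hf c
    have h1 := (M1.restrictScalars k).add_mem (hAM (hc hfg)) hg
    rwa [sub_add_cancel] at h1
  obtain ⟨a, ha⟩ : ∃ a, Γᶜ.ncard = Sᶜ.ncard + a := ⟨_, (Nat.add_sub_cancel' hle).symm⟩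
  let ψ : PowerSeries k →ₗ[A] PowerSeries k := LinearMap.mulLeft A (X ^ a)
  have hψ : Function.Injective ψ := by
    intro x y hxy
    have h1 : X ^ a * x = X ^ a * y := hxy
    exact mul_left_cancel₀ (pow_ne_zero _ X_ne_zero) h1
  have hF' : F k (2 * Γᶜ.ncard) ≤ (M1.map ψ).restrictScalars k := by
    intro f hf
    obtain ⟨g, rfl⟩ : X ^ a ∣ f := by
      rw [X_pow_dvd_iff]
      intro m hm
      exact le_order_iff.1 hf m (by omega)
    refine ⟨g, hF ?_, rfl⟩
    rw [mem_F, order_mul, order_X_pow] at hf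
    rw [mem_F]
    by_cases hg : order g = ⊤
    · rw [hg]; exact le_top
    · obtain ⟨n, hn⟩ := ENat.ne_top_iff_exists.1 hg
      rw [← hn] at hf ⊢
      have h1 : 2 * Γᶜ.ncard ≤ a + n := by exact_mod_cast hf
      have h2 : Γᶜ.ncard + Sᶜ.ncard ≤ n := by omega
      exact_mod_cast h2
  refine ⟨M1.map ψ, hF', ⟨e ≪≫ₗ Submodule.equivMapOfInjective ψ hψ M1⟩, ?_⟩
  rw [(finrank_eq_ncard hF').2, ha]
  have hval : val ((M1.map ψ).restrictScalars k) = (fun n => a + n) '' S := by
    ext n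
    constructor
    · rintro ⟨_, ⟨g, hg, rfl⟩, hn⟩
      have h1 : order (X ^ a * g) = n := hn
      rw [order_mul, order_X_pow] at h1
      have h2 : order g ≠ ⊤ := by
        intro h
        rw [h, add_top] at h1
        exact absurd h1 (by simp)
      obtain ⟨m, hm⟩ := ENat.ne_top_iff_exists.1 h2
      refine ⟨m, ⟨g, hg, hm.symm⟩, ?_⟩
      rw [← hm] at h1
      exact_mod_cast h1
    · rintro ⟨m, ⟨g, hg, hm⟩, rfl⟩
      refine ⟨X ^ a * g, ⟨g, hg, rfl⟩, ?_⟩
      rw [order_mul, order_X_pow, hm]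
      norm_cast
  have hcompl : (val ((M1.map ψ).restrictScalars k))ᶜ = Set.Iio a ∪ (fun n => a + n) '' Sᶜ := by
    rw [hval]
    ext n
    simp only [Set.mem_compl_iff, Set.mem_image, not_exists, not_and, Set.mem_union, Set.mem_Iio]
    constructor
    · intro h
      rcases Nat.lt_or_ge n a with hn | hn
      · exact Or.inl hn
      · refine Or.inr ⟨n - a, fun h2 => h _ h2 (by omega), by omega⟩
    · rintro (h | ⟨m, hm, rfl⟩) x hx hxn
      · omega
      · have : x = m := by omega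
        exact hm (this ▸ hx)
  have hdisj : Disjoint (Set.Iio a) ((fun n => a + n) '' Sᶜ) := by
    rw [Set.disjoint_left]
    rintro n hn ⟨m, _, rfl⟩
    have : a + m < a := hn
    omega
  have hinj : Function.Injective (fun n : ℕ => a + n) := by
    intro x y hxy
    simp only at hxy
    omega
  rw [hcompl, Set.ncard_union_eq hdisj (Set.finite_Iio a) (hSfin.image _),
    Set.ncard_image_of_injective _ hinj, Set.ncard_eq_toFinset_card' (Set.Iio a),
    Set.toFinset_Iio, Nat.card_Iio, add_comm]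

end K839.PSRank1
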