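import Groth.Agent.TFCurv.K839.TorOne
import Groth.Agent.TFCurv.K839.Rl
import Mathlib.Algebra.Module.Torsion.Basic
import Mathlib.RingTheory.IntegralClosure.IsIntegral.Basic

/-!
# Base change of torsion-free modules to the normalisation
-/

set_option autoImplicit false
universe u

open CategoryTheory TensorProduct K839.Rl

namespace K839.BaseChangeTors

variable {O : Type u} [CommRing O] [IsDomain O] {K : Type u} [Field K] [Algebra O K] [IsFractionRing O K]

/-- A conductor element, as a map `S → O`. -/
theorem exists_mu (S : Subalgebra O K) (hfin : Module.Finite O S) :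
    ∃ (a : O) (μ : S →ₗ[O] O), a ≠ 0 ∧ ∀ s : S, algebraMap O S (μ s) = a • s := by
  obtain ⟨a, ha, h⟩ := exists_smul_mem (A := O) (1 : Submodule O K) (Subalgebra.toSubmodule S)
    (Module.Finite.iff_fg.1 hfin) (fun m _ => exists_smul_mem_one' m)
  have hinj : Function.Injective (algebraMap O K) := IsFractionRing.injective O K
  let ι : O →ₗ[O] K := Algebra.linearMap O K
  let e : O ≃ₗ[O] LinearMap.range ι := LinearEquiv.ofInjective ι hinj
  have hm : ∀ s : S, a • (s : K) ∈ LinearMap.range ι := fun s => by
    obtain ⟨r, hr⟩ := Submodule.mem_one.1 (h s s.2)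
    exact ⟨r, hr⟩
  let μ : S →ₗ[O] O := e.symm.toLinearMap ∘ₗ
    (LinearMap.codRestrict (LinearMap.range ι) (a • S.toSubmodule.subtype) hm)
  refine ⟨a, μ, ha, fun s => ?_⟩
  apply Subtype.ext
  change ((e (e.symm _) : LinearMap.range ι) : K) = _
  rw [LinearEquiv.apply_symm_apply]
  rfl

variable {S : Type u} [CommRing S] [Algebra O S]

omit [IsDomain O] in
/-- If `a x = 0` for the multiplier then we can test in `O ⊗ M = M`. -/
theorem smul_eq_zero_of {M N : Type u} [AddCommGroup M] [Module O M] [AddCommGroup N] [Module O N]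
    (f : M →ₗ[O] N) (hf : Function.Injective f) {a : O} (μ : S →ₗ[O] O)
    (hμ : ∀ s : S, algebraMap O S (μ s) = a • s) (x : S ⊗[O] M) (hx : f.lTensor S x = 0) : a • x = 0 := by
  have h1 : f.lTensor O (μ.rTensor M x) = 0 := by
    rw [← LinearMap.comp_apply, LinearMap.lTensor_comp_rTensor, ← LinearMap.rTensor_comp_lTensor,
      LinearMap.comp_apply, hx, map_zero]
  have h2 : Function.Injective (f.lTensor O) := Module.Flat.lTensor_preserves_injective_linearMap f hf
  have h3 : μ.rTensor M x = 0 := h2 (by rw [h1, map_zero])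
  have h4 : (Algebra.linearMap O S).rTensor M (μ.rTensor M x) = a • x := by
    rw [← LinearMap.comp_apply, ← LinearMap.rTensor_comp]
    have h5 : Algebra.linearMap O S ∘ₗ μ = a • LinearMap.id := by
      ext s
      exact hμ s
    rw [h5, LinearMap.rTensor_smul, LinearMap.smul_apply, LinearMap.rTensor_id, LinearMap.id_apply]
  rw [← h4, h3, map_zero]

theorem injective_smul_tensor [IsDomain S] (hinj : Function.Injective (algebraMap O S))
    {F : Type u} [AddCommGroup F] [Module O F]
    [Module.Flat O F] {a : O} (ha : a ≠ 0) (x : S ⊗[O] F) (hx : a • x = 0) : x = 0 := by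
  have h1 : Function.Injective ((LinearMap.lsmul O S a).rTensor F) := by
    apply Module.Flat.rTensor_preserves_injective_linearMap
    rw [injective_iff_map_eq_zero]
    intro s hs
    have h2 : a • s = 0 := hs
    rw [Algebra.smul_def] at h2
    exact (mul_eq_zero.1 h2).resolve_left (fun h => ha (hinj (by rw [h, map_zero])))
  apply h1
  rw [map_zero, ← hx]
  have h3 : LinearMap.lsmul O S a = a • LinearMap.id := by ext s; rfl
  rw [h3, LinearMap.rTensor_smul, LinearMap.smul_apply, LinearMap.rTensor_id, LinearMap.id_apply]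

theorem lTensor_injective [IsDomain S] (hinj : Function.Injective (algebraMap O S))
    {F N : Type u} [AddCommGroup F] [Module O F] [Module.Flat O F]
    [AddCommGroup N] [Module O N] (f : F →ₗ[O] N) (hf : Function.Injective f) {a : O} (ha : a ≠ 0) (μ : S →ₗ[O] O)
    (hμ : ∀ s : S, algebraMap O S (μ s) = a • s) : Function.Injective (f.lTensor S) := by
  rw [injective_iff_map_eq_zero]
  intro x hx
  exact injective_smul_tensor hinj ha x (smul_eq_zero_of f hf μ hμ x hx)

theorem torsion_eq_ker [IsDomain S] (hinj : Function.Injective (algebraMap O S))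
    {F M : Type u} [AddCommGroup F] [Module O F] [Module.Flat O F]
    [AddCommGroup M] [Module O M] (g : M →ₗ[O] F) (hg : Function.Injective g) {a : O} (ha : a ≠ 0) (μ : S →ₗ[O] O)
    (hμ : ∀ s : S, algebraMap O S (μ s) = a • s) :
    Submodule.torsion O (S ⊗[O] M) = LinearMap.ker (g.lTensor S) := by
  ext x
  rw [Submodule.mem_torsion_iff, LinearMap.mem_ker]
  constructor
  · rintro ⟨b, hb⟩
    refine injective_smul_tensor hinj (nonZeroDivisors.ne_zero b.2) _ ?_
    have h1 : (b : O) • x = 0 := hb
    rw [← map_smul, h1, map_zero]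
  · intro hx
    exact ⟨⟨a, mem_nonZeroDivisors_of_ne_zero ha⟩, smul_eq_zero_of g hg μ hμ x hx⟩

end K839.BaseChangeTors
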