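import Groth.Agent.CurvesB.DimOneTop
import Groth.Agent.VarietyA.FiniteSupport

/-!
# Closed subsets of irreducible one-dimensional Noetherian spaces
-/

set_option autoImplicit false
universe u

open TopologicalSpace

namespace K839.Top1

section Top

attribute [local instance] specializationOrder

theorem dim_le_one_iff {T : Type*} [TopologicalSpace T] [QuasiSober T] [T0Space T] :
    topologicalKrullDim T ≤ 1 ↔ ∀ x : T, (∀ y, x ⤳ y → y = x) ∨ (∀ y, y ⤳ x → y = x) := by
  rw [Groth.Agent.CurvesB.DimOneTop.topologicalKrullDim_eq_krullDim, Order.krullDim_le_one_iff]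
  refine forall_congr' fun x => or_congr ⟨?_, ?_⟩ ⟨?_, ?_⟩
  · intro h y hy
    exact le_antisymm hy (h hy)
  · intro h y hy
    rw [h y hy]
  · intro h y hy
    exact le_antisymm (h hy) hy
  · intro h y hy
    rw [h y hy]

theorem dim_nonpos_iff {T : Type*} [TopologicalSpace T] [QuasiSober T] [T0Space T] :
    topologicalKrullDim T ≤ 0 ↔ ∀ x y : T, x ⤳ y → y = x := by
  rw [Groth.Agent.CurvesB.DimOneTop.topologicalKrullDim_eq_krullDim, Order.krullDim_nonpos_iff_forall_isMin]
  refine forall_congr' fun x => ⟨?_, ?_⟩
  · intro h y hy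
    exact le_antisymm hy (h hy)
  · intro h y hy
    rw [h y hy]

end Top

variable {T : Type u} [TopologicalSpace T] [QuasiSober T] [T0Space T] [IrreducibleSpace T]

theorem isClosed_singleton (hdim : topologicalKrullDim T ≤ 1) {x : T} (hx : x ≠ genericPoint T) :
    IsClosed ({x} : Set T) := by
  rw [dim_le_one_iff] at hdim
  have h1 : genericPoint T ⤳ x := genericPoint_specializes x
  rcases hdim x with h | h
  · rw [← closure_eq_iff_isClosed]
    refine Set.Subset.antisymm (fun y hy => ?_) subset_closure
    exact h y (specializes_iff_mem_closure.mpr hy)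
  · exact absurd (h _ h1).symm hx

theorem dim_le_zero (hdim : topologicalKrullDim T ≤ 1) {C : Set T} (hC : IsClosed C) (h : genericPoint T ∉ C) :
    topologicalKrullDim C ≤ 0 := by
  have hq : QuasiSober C := hC.isClosedEmbedding_subtypeVal.quasiSober
  rw [dim_nonpos_iff]
  intro x y hxy
  have h1 : IsClosed ({(x : T)} : Set T) := isClosed_singleton hdim (fun h2 => h (h2 ▸ x.2))
  have h2 : (x : T) ⤳ y := (subtype_specializes_iff _ _).mp hxy
  rw [specializes_iff_mem_closure, h1.closure_eq] at h2
  exact Subtype.ext h2

theorem finite [NoetherianSpace T] (hdim : topologicalKrullDim T ≤ 1) {C : Set T} (hC : IsClosed C)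
    (h : genericPoint T ∉ C) : C.Finite :=
  Groth.Agent.VarietyA.FiniteSupport.finite hC (dim_le_zero hdim hC h)

theorem discreteTopology [NoetherianSpace T] (hdim : topologicalKrullDim T ≤ 1) {C : Set T} (hC : IsClosed C)
    (h : genericPoint T ∉ C) : DiscreteTopology C := by
  have h1 : Finite C := finite hdim hC h
  have h2 : T1Space C := ⟨fun x => by
    have h3 : IsClosed ({(x : T)} : Set T) := isClosed_singleton hdim (fun h2 => h (h2 ▸ x.2))
    have h4 : ({x} : Set C) = Subtype.val ⁻¹' ({(x : T)} : Set T) := by
      ext y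
      simp [Subtype.ext_iff]
    rw [h4]
    exact h3.preimage continuous_subtype_val⟩
  infer_instance

end K839.Top1
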