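import Groth.Agent.Htor.H255.StalkBij
import Groth.Agent.CohqB.HomSheafCoh

/-!
# The transpose of a morphism to an internal Hom
-/

set_option autoImplicit false
universe u
open CategoryTheory CategoryTheory.Limits AlgebraicGeometry TopologicalSpace Opposite

namespace K839.EvMap

open Groth.Agent.CohqB.HomSheaf Groth.Agent.CycB.StalkExact Groth.Agent.Htor.H255.HomStalk

variable {X : Scheme.{u}} {M N P : X.Modules} (ι : P ⟶ homSheaf M N)

theorem app_smul {A B : X.Modules} (f : A ⟶ B) (U : X.Opens) (r : Γ(X, U)) (s : Γ(A, U)) :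
    f.app U (r • s) = r • f.app U s := (f.val.app (op U)).hom.map_smul r s

theorem app_res {A B : X.Modules} (f : A ⟶ B) {U V : X.Opens} (h : V ≤ U) (s : Γ(A, U)) :
    f.app V (A.presheaf.map (homOfLE h).op s) = B.presheaf.map (homOfLE h).op (f.app U s) :=
  Groth.Agent.CohqB.HomSheaf.app_map f h s

/-- Evaluation of `P → Hom(M, N)` at a section of `M`. -/
noncomputable def evFun (U : X.Opens) (m : Γ(M, U)) : Γ(homSheaf P N, U) :=
  mkSec (fun V hV =>
    { toFun := fun e => comp (ι.app V e) V le_rfl (M.presheaf.map (homOfLE hV).op m)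
      map_add' := fun e e' => by rw [map_add, comp_add, LinearMap.add_apply]
      map_smul' := fun r e => by rw [app_smul, comp_self_smul]; rfl })
    (fun V W hV h e => by
      change comp (ι.app W (P.presheaf.map (homOfLE h).op e)) W le_rfl (M.presheaf.map (homOfLE (h.trans hV)).op m) =
        N.presheaf.map (homOfLE h).op (comp (ι.app V e) V le_rfl (M.presheaf.map (homOfLE hV).op m))
      rw [← comp_map (ι.app V e) le_rfl h, app_res, comp_res, res_res])

theorem comp_evFun (U : X.Opens) (m : Γ(M, U)) (V : X.Opens) (hV : V ≤ U) (e : Γ(P, V)) :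
    comp (evFun ι U m) V hV e = comp (ι.app V e) V le_rfl (M.presheaf.map (homOfLE hV).op m) := rfl

theorem evFun_add (U : X.Opens) (m m' : Γ(M, U)) : evFun ι U (m + m') = evFun ι U m + evFun ι U m' :=
  sec_ext fun V hV φ => by
    rw [comp_evFun, comp_add, LinearMap.add_apply, map_add, map_add]; rfl

theorem evFun_smul (U : X.Opens) (r : Γ(X, U)) (m : Γ(M, U)) : evFun ι U (r • m) = r • evFun ι U m :=
  sec_ext fun V hV φ => by
    rw [comp_evFun, comp_smul, LinearMap.smul_apply, comp_evFun, Scheme.Modules.map_smul, map_smul]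

theorem evFun_res {U W : X.Opens} (h : W ≤ U) (m : Γ(M, U)) :
    evFun ι W (M.presheaf.map (homOfLE h).op m) =
      (homSheaf P N).presheaf.map (homOfLE h).op (evFun ι U m) :=
  sec_ext fun V hV φ => by
    rw [comp_evFun, comp_res, comp_evFun, res_res]

/-- The transpose `M ⟶ Hom(P, N)` of `P ⟶ Hom(M, N)`. -/
noncomputable def flip : M ⟶ homSheaf P N :=
  ⟨PresheafOfModules.homMk
    { app := fun U => AddCommGrpCat.ofHom (AddMonoidHom.mk' (evFun ι U.unop) (evFun_add ι U.unop))
      naturality := fun U V f => by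
        ext m
        exact evFun_res ι f.unop.le m }
    (fun U r s => evFun_smul ι U.unop r s)⟩

theorem flip_app (U : X.Opens) (m : Γ(M, U)) : (flip ι).app U m = evFun ι U m := rfl

theorem homStalk_flip (x : X) (t : M.presheaf.stalk x) (e : P.presheaf.stalk x) :
    homStalk P N x (stalkLin (flip ι) x t) e = homStalk M N x (stalkLin ι x e) t := by
  obtain ⟨U, hU, t, rfl⟩ := M.presheaf.exists_germ_eq t
  obtain ⟨V, hV, e, rfl⟩ := P.presheaf.exists_germ_eq e
  have hx : x ∈ U ⊓ V := ⟨hU, hV⟩
  rw [← germ_map M (show U ⊓ V ≤ U from inf_le_left) x hx t, ← germ_map P (show U ⊓ V ≤ V from inf_le_right) x hx e]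
  generalize M.presheaf.map (homOfLE (show U ⊓ V ≤ U from inf_le_left)).op t = t'
  generalize P.presheaf.map (homOfLE (show U ⊓ V ≤ V from inf_le_right)).op e = e'
  rw [stalkLin_germ, stalkLin_germ, homStalk_germ_germ x hx _ _ hx le_rfl, homStalk_germ_germ x hx _ _ hx le_rfl,
    flip_app, comp_evFun, Groth.Agent.CohqB.HomSheaf.res_self]

/-- Bijectivity of the stalk map for coherent modules. -/
theorem bijective_homStalk [IsLocallyNoetherian X] (hM : Coh.IsCoh M) (x : X) :
    Function.Bijective (homStalk M N x) := by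
  obtain ⟨U, hU, hxU, -⟩ := Opens.isBasis_iff_nbhd.mp X.isBasis_affineOpens
    (show x ∈ (⊤ : X.Opens) from trivial)
  have := Groth.Agent.CohqB.HomSheaf.finitePresentation_of_isCoh hM hU
  exact Groth.Agent.Htor.H255.StalkBij.bijective_homStalk hM.1 hU x hxU

end K839.EvMap
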