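import Groth.Agent.TFCurv.K839.CurveLat
import Groth.Agent.TFCurv.K839.EvMap
import Groth.Agent.Fdesc.StructMod
import Groth.Agent.Divis.ReflexAlg
import Groth.Agent.Dcoh.StalkMod
import Groth.Prelude.Def_TorSh

/-!
# Sandwiching torsion-free modules on curves between locally free ones
-/

set_option autoImplicit false
universe u
open CategoryTheory CategoryTheory.Limits AlgebraicGeometry TopologicalSpace

namespace K839.Lat27

open Groth.Agent.CycB.StalkExact Groth.Agent.CohqB.HomSheaf Groth.Agent.Htor.H255.HomStalk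

variable {X : Scheme.{u}}

theorem cokernel_stalk_subsingleton {A B : X.Modules} (f : A ⟶ B) (x : X)
    (h : Function.Surjective (stalkLin f x)) : Subsingleton ((cokernel f).presheaf.stalk x) := by
  refine subsingleton_of_forall_eq 0 fun t => ?_
  obtain ⟨b, rfl⟩ := stalkLin_surjective (cokernel.π f) x t
  obtain ⟨a, rfl⟩ := h b
  rw [← LinearMap.comp_apply, ← stalkLin_comp, cokernel.condition]
  change (stalkFun x).map (0 : A ⟶ cokernel f) _ = 0
  rw [Functor.map_zero]
  rfl

theorem free_of_regular [IsLocallyNoetherian X] (hdim : topologicalKrullDim X ≤ 1) {F : X.Modules}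
    (hFc : Coh.IsCoh F) (hFt : TorSh.IsTorsionFree F) (x : X) (hx : IsRegularLocalRing (X.presheaf.stalk x)) :
    Module.Free (X.presheaf.stalk x) (F.presheaf.stalk x) := by
  have h1 := Groth.Agent.Divis.StalkMod.finite_stalk hFc x
  have h2 := hFt x
  exact Groth.Agent.Divis.ReflexAlg.free_of_isTorsionFree
    ((Groth.Agent.CurvesA.DimOne.ringKrullDim_stalk_le X x).trans hdim) _

theorem partA [IsIntegral X] [IsNoetherian X] (hdim : topologicalKrullDim X ≤ 1) {F : X.Modules}
    (hFc : Coh.IsCoh F) (hFt : TorSh.IsTorsionFree F) {n : ℕ}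
    (hn : Module.finrank (X.presheaf.stalk (genericPoint X)) (F.presheaf.stalk (genericPoint X)) = n) :
    ∃ (E : X.Modules) (i : E ⟶ F), FlatMod.IsFinLocFreeOfRank n E ∧ Mono i ∧
      ∀ x : X, IsRegularLocalRing (X.presheaf.stalk x) → Subsingleton ((cokernel i).presheaf.stalk x) := by
  obtain ⟨E, i, h1, -, h3, -, -, h6⟩ := K839.CurveLat.exists_lattice hdim hFc hn
  exact ⟨E, i, h1, h3, fun x hx => cokernel_stalk_subsingleton i x (h6 x (free_of_regular hdim hFc hFt x hx))⟩

section Alg

variable {R M : Type*} [CommRing R] [IsDomain R] [AddCommGroup M] [Module R M]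

/-- On a finite torsion-free module over a domain the linear forms separate points. -/
theorem eq_zero_of_forall_dual [Module.Finite R M] [Module.IsTorsionFree R M] (t : M)
    (h : ∀ φ : M →ₗ[R] R, φ t = 0) : t = 0 := by
  obtain ⟨e, he, htor⟩ := K839.LatAlg.exists_free_sub (R := R) (M := M) _ rfl
  set N := Submodule.span R (Set.range e) with hN
  obtain ⟨s, hs⟩ : (⊤ : Submodule R M).FG := Module.Finite.fg_top
  choose a ha ham using htor
  set c : R := ∏ m ∈ s, a m with hc
  have hc0 : c ≠ 0 := Finset.prod_ne_zero_iff.2 fun m _ => ha m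
  have hcN : ∀ m : M, c • m ∈ N := by
    intro m
    have hm : m ∈ Submodule.span R (s : Set M) := by rw [hs]; trivial
    induction hm using Submodule.span_induction with
    | mem x hx =>
      classical
      rw [hc, ← Finset.prod_erase_mul s a hx, mul_smul]
      exact N.smul_mem _ (ham x)
    | zero => rw [smul_zero]; exact N.zero_mem
    | add x y _ _ hx hy => rw [smul_add]; exact N.add_mem hx hy
    | smul r x _ hx => rw [smul_comm]; exact N.smul_mem _ hx
  let b : Module.Basis _ R N := Module.Basis.span he
  let g : M →ₗ[R] N := (LinearMap.lsmul R M c).codRestrict N hcN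
  have h1 : g t = 0 := by
    apply b.ext_elem
    intro i
    rw [map_zero, Finsupp.coe_zero, Pi.zero_apply]
    exact h ((b.coord i).comp g)
  have h2 : c • t = 0 := congrArg Subtype.val h1
  exact (smul_eq_zero_iff_right hc0).1 h2

end Alg

theorem partB [IsIntegral X] [IsNoetherian X] (hdim : topologicalKrullDim X ≤ 1) {F : X.Modules}
    (hFc : Coh.IsCoh F) (hFt : TorSh.IsTorsionFree F) {n : ℕ}
    (hn : Module.finrank (X.presheaf.stalk (genericPoint X)) (F.presheaf.stalk (genericPoint X)) = n) :
    ∃ (E' : X.Modules) (j : F ⟶ E'), FlatMod.IsFinLocFreeOfRank n E' ∧ Mono j ∧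
      ∀ x : X, IsRegularLocalRing (X.presheaf.stalk x) → Subsingleton ((cokernel j).presheaf.stalk x) := by
  have hOc : Coh.IsCoh (Coh.structureModule X) := Groth.Agent.Fdesc.StructMod.isCoh_structureModule X
  let u : ∀ x : X, X.presheaf.stalk x ≃ₗ[X.presheaf.stalk x] (Coh.structureModule X).presheaf.stalk x :=
    fun x => Groth.Agent.Fdesc.StructMod.stalkEquiv x
  have hG : Coh.IsCoh (homSheaf F (Coh.structureModule X)) :=
    Groth.Agent.CohqB.HomSheaf.isCoh_homSheaf hFc hOc
  have hbF := fun x : X => K839.EvMap.bijective_homStalk (N := Coh.structureModule X) hFc x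
  -- the rank of the dual
  have hrankG : Module.finrank (X.presheaf.stalk (genericPoint X))
      ((homSheaf F (Coh.structureModule X)).presheaf.stalk (genericPoint X)) = n := by
    have h1 := K839.CurveLat.free_genericPoint F
    have h2 := Groth.Agent.Divis.StalkMod.finite_stalk hFc (genericPoint X)
    rw [(LinearEquiv.ofBijective _ (hbF (genericPoint X))).finrank_eq,
      (LinearEquiv.congrRight (u (genericPoint X)).symm).finrank_eq, Module.finrank_linearMap_self, hn]
  obtain ⟨E, i, hE, hEc, hmono, hinj, htor, hsurj⟩ := K839.CurveLat.exists_lattice hdim hG hrankG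
  have hbE := fun x : X => K839.EvMap.bijective_homStalk (N := Coh.structureModule X) hEc x
  have hEbasis : ∀ x : X, Nonempty (Module.Basis (Fin n) (X.presheaf.stalk x) (E.presheaf.stalk x)) := by
    intro x
    obtain ⟨V, hxV, ⟨e⟩⟩ := hE x
    exact K839.Rank.nonempty_basis_stalk e x hxV
  have hfin : ∀ x : X, Module.Finite (X.presheaf.stalk x) (F.presheaf.stalk x) := fun x =>
    Groth.Agent.Divis.StalkMod.finite_stalk hFc x
  refine ⟨homSheaf E (Coh.structureModule X), K839.EvMap.flip i, ?_, ?_, ?_⟩
  · have hb : ∀ x : X, Nonempty (Module.Basis (Fin n) (X.presheaf.stalk x)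
        ((homSheaf E (Coh.structureModule X)).presheaf.stalk x)) := by
      intro x
      obtain ⟨b⟩ := hEbasis x
      have b' : Module.Basis (Fin n) (X.presheaf.stalk x) (Module.Dual (X.presheaf.stalk x) (E.presheaf.stalk x)) :=
        b.dualBasis
      exact ⟨b'.map ((LinearEquiv.congrRight (u x)).trans (LinearEquiv.ofBijective _ (hbE x)).symm)⟩
    refine K839.Rank.isFinLocFreeOfRank_of_stalks n
      (Groth.Agent.CohqB.HomSheaf.isCoh_homSheaf hEc hOc) (fun x => ?_) (fun x => ?_)
    · obtain ⟨b⟩ := hb x
      exact Module.Free.of_basis b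
    · obtain ⟨b⟩ := hb x
      rw [Module.finrank_eq_card_basis b, Fintype.card_fin]
  · refine Groth.Agent.Dcoh.StalkMod.mono_of_injective _ fun x => ?_
    rw [injective_iff_map_eq_zero]
    intro t ht
    have := hfin x
    have := hFt x
    refine eq_zero_of_forall_dual (R := X.presheaf.stalk x) t fun φ => ?_
    obtain ⟨s, hs⟩ := (hbF x).2 ((u x).toLinearMap.comp φ)
    obtain ⟨a, ha, e, he⟩ := htor x s
    have h1 := K839.EvMap.homStalk_flip i x t e
    rw [ht, map_zero, LinearMap.zero_apply, he, map_smul, hs, LinearMap.smul_apply, LinearMap.comp_apply,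
      LinearEquiv.coe_coe, ← map_smul, eq_comm, LinearEquiv.map_eq_zero_iff, smul_eq_mul] at h1
    exact (mul_eq_zero.1 h1).resolve_left ha
  · intro x hx
    refine cokernel_stalk_subsingleton _ x fun ψ => ?_
    have h1 := free_of_regular hdim hFc hFt x hx
    have h2 := hfin x
    have h3 : Module.Free (X.presheaf.stalk x) ((homSheaf F (Coh.structureModule X)).presheaf.stalk x) := by
      have e1 := (LinearEquiv.ofBijective _ (hbF x)).trans (LinearEquiv.congrRight (u x).symm)
      exact Module.Free.of_equiv e1.symm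
    let e2 := LinearEquiv.ofBijective (stalkLin i x) ⟨hinj x, hsurj x h3⟩
    let e3 := (LinearEquiv.ofBijective _ (hbF x)).trans (LinearEquiv.congrRight (u x).symm)
    -- the linear form on the dual
    let χ : Module.Dual (X.presheaf.stalk x) (Module.Dual (X.presheaf.stalk x) (F.presheaf.stalk x)) :=
      (u x).symm.toLinearMap.comp ((homStalk E (Coh.structureModule X) x ψ).comp
        (e2.symm.toLinearMap.comp e3.symm.toLinearMap))
    obtain ⟨t, ht⟩ := (Module.evalEquiv (X.presheaf.stalk x) (F.presheaf.stalk x)).surjective χ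
    refine ⟨t, (hbE x).1 ?_⟩
    ext e
    rw [K839.EvMap.homStalk_flip]
    have h4 := congrArg (fun g => g (e3 (e2 e))) ht
    simp only [Module.evalEquiv_apply, Module.Dual.eval_apply] at h4
    apply (u x).symm.injective
    refine Eq.trans ?_ (h4.trans ?_)
    · rfl
    · simp only [χ, LinearMap.comp_apply, LinearEquiv.coe_coe, LinearEquiv.symm_apply_apply]

end K839.Lat27
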