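import Groth.Agent.TFCurv.K839.Mono
import Groth.Agent.TFCurv.K840.TwoGen

/-!
# The singularity `A_{2δ}`
-/

set_option autoImplicit false
set_option linter.unusedSectionVars false
universe u

open PowerSeries K839.Rl K839.PS K839.PSRing K839.Mono CategoryTheory CategoryTheory.Abelian

namespace K839.A2d

/-- The value set of `M_i`. -/
def G (δ i : ℕ) : Set ℕ := {n | n % 2 = 0 ∨ 2 * δ + 1 ≤ n + 2 * i}

theorem closure_eq (δ : ℕ) : (AddSubmonoid.closure ({2, 2 * δ + 1} : Set ℕ) : Set ℕ) = G δ 0 := by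
  ext n
  constructor
  · intro h
    induction h using AddSubmonoid.closure_induction with
    | mem x hx =>
      rcases hx with rfl | rfl
      · exact Or.inl rfl
      · exact Or.inr (by omega)
    | zero => exact Or.inl rfl
    | add x y _ _ hx hy =>
      rcases hx with hx | hx
      · rcases hy with hy | hy
        · exact Or.inl (by omega)
        · exact Or.inr (by omega)
      · exact Or.inr (by omega)
  · intro h
    have h2 : (2 : ℕ) ∈ AddSubmonoid.closure ({2, 2 * δ + 1} : Set ℕ) :=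
      AddSubmonoid.subset_closure (Or.inl rfl)
    have h3 : 2 * δ + 1 ∈ AddSubmonoid.closure ({2, 2 * δ + 1} : Set ℕ) :=
      AddSubmonoid.subset_closure (Or.inr rfl)
    by_cases h4 : n % 2 = 0
    · have h5 : n = (n / 2) • 2 := by rw [smul_eq_mul]; omega
      rw [h5]
      exact AddSubmonoid.nsmul_mem _ h2 _
    · have h6 := h.resolve_left h4
      have h5 : n = (n / 2 - δ) • 2 + (2 * δ + 1) := by rw [smul_eq_mul]; omega
      rw [h5]
      exact AddSubmonoid.add_mem _ (AddSubmonoid.nsmul_mem _ h2 _) h3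

theorem add_mem_G {δ i : ℕ} : ∀ a ∈ G δ 0, ∀ b ∈ G δ i, a + b ∈ G δ i := by
  rintro a (ha | ha) b (hb | hb)
  · exact Or.inl (by omega)
  · exact Or.inr (by omega)
  · exact Or.inr (by omega)
  · exact Or.inr (by omega)

variable {k : Type u} [Field k] {δ : ℕ} {A : Subalgebra k (PowerSeries k)}
  (hA : ∀ f : PowerSeries k, f ∈ A ↔ f ∈ mono k (G δ 0))

/-- The module `M_i`. -/
def M (i : ℕ) : Submodule A (PowerSeries k) := monoA (fun f hf => (hA f).1 hf) (G δ i) add_mem_G

include hA in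
theorem span_eq (i : ℕ) (hi : i ≤ δ) :
    Submodule.span A ({1, (X : PowerSeries k) ^ (2 * δ + 1 - 2 * i)} : Set (PowerSeries k)) = M hA i := by
  apply le_antisymm
  · rw [Submodule.span_le]
    rintro p (rfl | rfl)
    · have := X_pow_mem_mono (k := k) (S := G δ i) (n := 0) (Or.inl rfl)
      rw [pow_zero] at this
      exact this
    · exact X_pow_mem_mono (Or.inr (by omega))
  · intro f hf
    obtain ⟨a, ha, b, hb, rfl⟩ := exists_add (T := {n | n % 2 = 0}) (U := {n | n % 2 = 1 ∧ 2 * δ + 1 ≤ n + 2 * i})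
      (by
        rintro n (hn | hn)
        · exact Or.inl hn
        · by_cases h : n % 2 = 0
          · exact Or.inl h
          · exact Or.inr ⟨by omega, hn⟩) hf
    obtain ⟨c, rfl, hc⟩ := exists_X_pow_mul (m := 2 * δ + 1 - 2 * i) (by
      rintro n ⟨_, hn⟩
      omega) hb
    rw [Submodule.mem_span_pair]
    refine ⟨⟨a, (hA a).2 (mono_le (fun n hn => Or.inl hn) ha)⟩,
      ⟨c, (hA c).2 (mono_le (fun n hn => ?_) hc)⟩, ?_⟩
    · have h1 : (n + (2 * δ + 1 - 2 * i)) % 2 = 1 := hn.1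
      exact Or.inl (by omega)
    · change a * 1 + c * _ = _
      rw [mul_one, mul_comm c]

include hA in
theorem finite : Module.Finite A (PowerSeries k) := by
  rw [Module.finite_def]
  have h1 : (⊤ : Submodule A (PowerSeries k)) = Submodule.span A ({1, (X : PowerSeries k) ^ (2 * δ + 1 - 2 * δ)} :
      Set (PowerSeries k)) := by
    rw [span_eq hA δ le_rfl]
    symm
    rw [eq_top_iff]
    intro f _ n _
    by_cases h : n % 2 = 0
    · exact Or.inl h
    · exact Or.inr (by omega)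
  rw [h1]
  exact Submodule.fg_span (Set.toFinite _)

/-- The value set of the numerator. -/
def SH (δ i j : ℕ) : Set ℕ := {n | n ∈ G δ j ∧ (n % 2 = 0 → 2 * i ≤ n + 2 * j)}

/-- The value set of the denominator. -/
def SJ (δ i j : ℕ) : Set ℕ := {n | (n % 2 = 0 ∧ 2 * i ≤ n) ∨ (n % 2 = 1 ∧ 2 * δ + 1 + 2 * i ≤ n + 2 * max i j)}

theorem add_mem_SH {δ i j : ℕ} : ∀ a ∈ G δ 0, ∀ b ∈ SH δ i j, i ≤ δ → a + b ∈ SH δ i j := by
  rintro a ha b ⟨hb, hb'⟩ hi
  refine ⟨add_mem_G a ha b hb, fun h => ?_⟩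
  rcases ha with ha | ha
  · have := hb' (by omega)
    omega
  · omega

theorem add_mem_SJ {δ i j : ℕ} (hi : i ≤ δ) (hj : j ≤ δ) : ∀ a ∈ G δ 0, ∀ b ∈ SJ δ i j, a + b ∈ SJ δ i j := by
  rintro a (ha | ha) b (⟨hb, hb'⟩ | ⟨hb, hb'⟩)
  · exact Or.inl ⟨by omega, by omega⟩
  · exact Or.inr ⟨by omega, by omega⟩
  · by_cases h : (a + b) % 2 = 0
    · exact Or.inl ⟨h, by omega⟩
    · have := le_max_left i j
      exact Or.inr ⟨by omega, by omega⟩
  · by_cases h : (a + b) % 2 = 0
    · exact Or.inl ⟨h, by omega⟩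
    · exact Or.inr ⟨by omega, by omega⟩

theorem SJ_subset {δ i j : ℕ} : SJ δ i j ⊆ SH δ i j := by
  rintro n (⟨h1, h2⟩ | ⟨h1, h2⟩)
  · exact ⟨Or.inl h1, fun _ => by omega⟩
  · refine ⟨Or.inr ?_, fun h => by omega⟩
    rcases max_choice i j with h | h <;> rw [h] at h2 <;> omega

theorem encard_eq {δ i j : ℕ} (hi : i ≤ δ) (hj : j ≤ δ) : (SH δ i j \ SJ δ i j).encard = ((2 * min i j : ℕ) : ℕ∞) := by
  classical
  have h1 : SH δ i j \ SJ δ i j = ↑((Finset.Ico (i - j) i).image (fun a => 2 * a) ∪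
      (Finset.Ico (δ - j) (δ + i - max i j)).image (fun a => 2 * a + 1)) := by
    ext n
    simp only [Finset.coe_union, Finset.coe_image, Finset.coe_Ico, Set.mem_union, Set.mem_image, Set.mem_Ico]
    constructor
    · rintro ⟨⟨h1, h2⟩, h3⟩
      by_cases h : n % 2 = 0
      · left
        have h4 := h2 h
        have h5 : ¬ 2 * i ≤ n := fun h6 => h3 (Or.inl ⟨h, h6⟩)
        exact ⟨n / 2, ⟨by omega, by omega⟩, by omega⟩
      · right
        have h4 := h1.resolve_left h
        have h5 : ¬ 2 * δ + 1 + 2 * i ≤ n + 2 * max i j := fun h6 => h3 (Or.inr ⟨by omega, h6⟩)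
        exact ⟨n / 2, ⟨by omega, by omega⟩, by omega⟩
    · rintro (⟨a, ⟨h1, h2⟩, rfl⟩ | ⟨a, ⟨h1, h2⟩, rfl⟩)
      · refine ⟨⟨Or.inl (by omega), fun _ => by omega⟩, ?_⟩
        rintro (⟨h3, h4⟩ | ⟨h3, h4⟩) <;> omega
      · refine ⟨⟨Or.inr (by omega), fun _ => by omega⟩, ?_⟩
        rintro (⟨h3, h4⟩ | ⟨h3, h4⟩) <;> omega
  rw [h1, Set.encard_coe_eq_coe_finsetCard, Finset.card_union_of_disjoint, Finset.card_image_of_injective,
    Finset.card_image_of_injective, Nat.card_Ico, Nat.card_Ico]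
  · congr 1
    rcases le_total i j with h | h
    · rw [max_eq_right h, min_eq_left h]; omega
    · rw [max_eq_left h, min_eq_right h]; omega
  · intro a b hab
    simp only at hab
    omega
  · intro a b hab
    simp only at hab
    omega
  · rw [Finset.disjoint_left]
    intro n h1 h2
    rw [Finset.mem_image] at h1 h2
    obtain ⟨a, _, rfl⟩ := h1
    obtain ⟨b, _, hb⟩ := h2
    omega

include hA in
theorem X_pow_mem {n : ℕ} (hn : n ∈ G δ 0) : (X : PowerSeries k) ^ n ∈ A := (hA _).2 (X_pow_mem_mono hn)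

/-- The element `z`. -/
noncomputable def zel (i : ℕ) : A := ⟨X ^ (2 * i), X_pow_mem hA (Or.inl (by omega))⟩

/-- The element `xz`. -/
noncomputable def xzel : A := ⟨-X ^ (2 * δ + 1), neg_mem (X_pow_mem hA (Or.inr (by omega)))⟩

section
variable (i j : ℕ) (hi : i ≤ δ) (hj : j ≤ δ)

/-- The numerator. -/
def HH : Submodule A (PowerSeries k) :=
  monoA (fun f hf => (hA f).1 hf) (SH δ i j) (fun a ha b hb => add_mem_SH a ha b hb hi)

/-- The denominator. -/
def JJ : Submodule A (PowerSeries k) := monoA (fun f hf => (hA f).1 hf) (SJ δ i j) (add_mem_SJ hi hj)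

include hi in
theorem mem_HH (p : PowerSeries k) : p ∈ HH hA i j hi ↔ (p ∈ M hA j ∧
    ∀ x y : A, x • (1 : PowerSeries k) + y • (X : PowerSeries k) ^ (2 * δ + 1 - 2 * i) = 0 →
      ∃ q ∈ M hA j, zel hA i • q = y • p) := by
  constructor
  · intro hp
    refine ⟨mono_le (fun n hn => hn.1) hp, fun x y hxy => ?_⟩
    have hx : (x : PowerSeries k) ∈ mono k (G δ 0) := (hA _).1 x.2
    have hy : (y : PowerSeries k) ∈ mono k (G δ 0) := (hA _).1 y.2
    have hxy' : (x : PowerSeries k) * 1 + (y : PowerSeries k) * X ^ (2 * δ + 1 - 2 * i) = 0 := hxy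
    have hyf : X ^ (2 * δ + 1 - 2 * i) * (y : PowerSeries k) ∈ mono k (G δ 0) := by
      have h1 : X ^ (2 * δ + 1 - 2 * i) * (y : PowerSeries k) = -(x : PowerSeries k) := by
        linear_combination hxy'
      rw [h1]
      exact (mono k (G δ 0)).neg_mem hx
    rw [X_pow_mul_mem_mono] at hyf
    have hy2 : (y : PowerSeries k) ∈ mono k {n | 2 * i ≤ n ∧ (n % 2 = 0 ∨ 2 * δ + 1 ≤ n)} := by
      intro n hn
      have h1 := hy n hn
      have h2 := hyf n hn
      change n % 2 = 0 ∨ 2 * δ + 1 ≤ n + 2 * 0 at h1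
      change (n + (2 * δ + 1 - 2 * i)) % 2 = 0 ∨ 2 * δ + 1 ≤ n + (2 * δ + 1 - 2 * i) + 2 * 0 at h2
      refine ⟨?_, ?_⟩ <;> omega
    obtain ⟨m, hym, hm⟩ := exists_X_pow_mul (m := 2 * i) (fun n hn => hn.1) hy2
    refine ⟨m * p, ?_, ?_⟩
    · refine mul_mem_mono (S := G δ i) (T := SH δ i j) ?_ ?_ hp
      · rintro a (ha | ha) b ⟨hb, hb'⟩
        · rcases hb with hb | hb
          · exact Or.inl (by omega)
          · exact Or.inr (by omega)
        · by_cases h : b % 2 = 0
          · have := hb' h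
            exact Or.inr (by omega)
          · have h1 := hb.resolve_left h
            by_cases h2 : a % 2 = 0
            · exact Or.inr (by omega)
            · exact Or.inl (by omega)
      · intro n hn
        obtain ⟨h1, h2⟩ := hm n hn
        rcases h2 with h2 | h2
        · exact Or.inl (by omega)
        · exact Or.inr (by omega)
    · change X ^ (2 * i) * (m * p) = (y : PowerSeries k) * p
      rw [hym]
      ring
  · rintro ⟨hp, h⟩
    have hy : (X : PowerSeries k) ^ (2 * δ + 1) ∈ A := X_pow_mem hA (Or.inr (by omega))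
    have hx : (X : PowerSeries k) ^ (2 * δ + 1 + (2 * δ + 1 - 2 * i)) ∈ A := X_pow_mem hA (Or.inl (by omega))
    obtain ⟨q, hq, hzq⟩ := h ⟨-X ^ (2 * δ + 1 + (2 * δ + 1 - 2 * i)), neg_mem hx⟩ ⟨_, hy⟩ (by
      change -X ^ (2 * δ + 1 + (2 * δ + 1 - 2 * i)) * (1 : PowerSeries k) + X ^ (2 * δ + 1) * X ^ (2 * δ + 1 - 2 * i) = 0
      rw [pow_add]
      ring)
    have h1 : X ^ (2 * i) * q = X ^ (2 * δ + 1) * p := hzq
    have h2 : q = X ^ (2 * δ + 1 - 2 * i) * p := by
      have h3 : (X : PowerSeries k) ^ (2 * δ + 1) = X ^ (2 * i) * X ^ (2 * δ + 1 - 2 * i) := by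
        rw [← pow_add]
        congr 1
        omega
      rw [h3, mul_assoc] at h1
      exact mul_left_cancel₀ (pow_ne_zero _ X_ne_zero) h1
    have h3 : X ^ (2 * δ + 1 - 2 * i) * p ∈ mono k (G δ j) := by
      rw [← h2]
      exact hq
    rw [X_pow_mul_mem_mono] at h3
    intro n hn
    refine ⟨hp n hn, fun hn2 => ?_⟩
    have h4 := h3 n hn
    change (n + (2 * δ + 1 - 2 * i)) % 2 = 0 ∨ 2 * δ + 1 ≤ n + (2 * δ + 1 - 2 * i) + 2 * j at h4
    omega

include hi hj in
theorem mem_JJ (p : PowerSeries k) : p ∈ JJ hA i j hi hj ↔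
    ∃ m0 ∈ M hA j, ∃ m1 ∈ M hA j, p = xzel hA • m0 + zel hA i • m1 := by
  constructor
  · intro hp
    have hp' : p ∈ mono k (SJ δ i j) := hp
    obtain ⟨p', rfl, hp''⟩ := exists_X_pow_mul (m := 2 * i) (by
      rintro n (⟨_, hn⟩ | ⟨_, hn⟩)
      · exact hn
      · have : max i j ≤ δ := max_le hi hj
        omega) hp'
    obtain ⟨a, ha, b, hb, rfl⟩ := exists_add (T := G δ j) (U := {n | n % 2 = 1 ∧ 2 * δ + 1 ≤ n + 2 * i})
      (by
        rintro n (⟨hn, hn'⟩ | ⟨hn, hn'⟩)
        · exact Or.inl (Or.inl (by omega))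
        · rcases max_choice i j with h | h
          · rw [h] at hn'
            exact Or.inr ⟨by omega, by omega⟩
          · rw [h] at hn'
            exact Or.inl (Or.inr (by omega))) hp''
    obtain ⟨c, rfl, hc⟩ := exists_X_pow_mul (m := 2 * δ + 1 - 2 * i) (by
      rintro n ⟨_, hn⟩
      omega) hb
    refine ⟨-c, ?_, a, ha, ?_⟩
    · apply (mono k (G δ j)).neg_mem
      intro n hn
      have h1 : (n + (2 * δ + 1 - 2 * i)) % 2 = 1 := (hc n hn).1
      exact Or.inl (by omega)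
    · change X ^ (2 * i) * (a + X ^ (2 * δ + 1 - 2 * i) * c) = -X ^ (2 * δ + 1) * (-c) + X ^ (2 * i) * a
      have h3 : (X : PowerSeries k) ^ (2 * δ + 1) = X ^ (2 * i) * X ^ (2 * δ + 1 - 2 * i) := by
        rw [← pow_add]
        congr 1
        omega
      rw [h3]
      ring
  · rintro ⟨m0, hm0, m1, hm1, rfl⟩
    apply (JJ hA i j hi hj).add_mem
    · have h1 : xzel hA • m0 = -(X ^ (2 * δ + 1) * m0) := by
        change -X ^ (2 * δ + 1) * m0 = _
        ring
      rw [h1]
      apply (JJ hA i j hi hj).neg_mem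
      change X ^ (2 * δ + 1) * m0 ∈ mono k (SJ δ i j)
      rw [X_pow_mul_mem_mono]
      refine mono_le ?_ hm0
      rintro n (hn | hn)
      · have := le_max_left i j
        exact Or.inr ⟨by omega, by omega⟩
      · have := le_max_left i j
        by_cases h : n % 2 = 0
        · exact Or.inr ⟨by omega, by omega⟩
        · exact Or.inl ⟨by omega, by omega⟩
    · change X ^ (2 * i) * m1 ∈ mono k (SJ δ i j)
      rw [X_pow_mul_mem_mono]
      refine mono_le ?_ hm1
      intro n hn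
      by_cases h : n % 2 = 0
      · exact Or.inl ⟨by omega, by omega⟩
      · have h1 := hn.resolve_left h
        have := le_max_right i j
        exact Or.inr ⟨by omega, by omega⟩

include hA hi hj in
theorem main : Module.length A (Ext.{u}
    (ModuleCat.of A ↥(Submodule.span A ({1, (X : PowerSeries k) ^ (2 * δ + 1 - 2 * i)} : Set (PowerSeries k))))
    (ModuleCat.of A ↥(Submodule.span A ({1, (X : PowerSeries k) ^ (2 * δ + 1 - 2 * j)} : Set (PowerSeries k)))) 1) =
      ((2 * min i j : ℕ) : ℕ∞) := by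
  rw [span_eq hA j hj]
  have hfin := finite hA
  obtain ⟨e⟩ := K840.TwoGen.ext_equiv (A := A) (V := PowerSeries k) Subtype.val_injective
    (g := 1) (f := X ^ (2 * δ + 1 - 2 * i)) (by intro v hv; rwa [mul_one] at hv)
    (z := zel hA i) (xz := xzel hA)
    (by
      intro v hv
      exact (mul_eq_zero.1 (show X ^ (2 * i) * v = 0 from hv)).resolve_left (pow_ne_zero _ X_ne_zero))
    (by
      change -X ^ (2 * δ + 1) * (1 : PowerSeries k) + X ^ (2 * i) * X ^ (2 * δ + 1 - 2 * i) = 0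
      rw [← pow_add, show 2 * i + (2 * δ + 1 - 2 * i) = 2 * δ + 1 by omega]
      ring)
    (M hA j) (HH hA i j hi) (JJ hA i j hi hj) (mem_HH hA i j hi) (mem_JJ hA i j hi hj)
  rw [e.length_eq]
  change rl (JJ hA i j hi hj) (HH hA i j hi) = _
  rw [rl_restrict hfin]
  change rl (mono k (SJ δ i j)) (mono k (SH δ i j)) = _
  rw [rl_mono SJ_subset (m := 2 * δ + 1 + 2 * i), encard_eq hi hj]
  intro n hn
  by_cases h : n % 2 = 0
  · exact Or.inl ⟨h, by omega⟩
  · exact Or.inr ⟨by omega, by omega⟩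

end

end K839.A2d
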