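import Mathlib.LinearAlgebra.Dimension.Localization
import Mathlib.LinearAlgebra.Dimension.RankNullity
import Mathlib.RingTheory.KrullDimension.Basic
import Mathlib.RingTheory.LocalRing.MaximalIdeal.Basic
import Mathlib.RingTheory.Ideal.KrullsHeightTheorem

/-!
# Free sublattices
-/

set_option autoImplicit false

namespace K839.LatAlg

variable {R : Type*} [CommRing R] [IsDomain R] {M : Type*} [AddCommGroup M] [Module R M]

/-- A maximal linearly independent family. -/
theorem torsion_of_card_eq [Module.Finite R M] {n : ℕ} (hn : Module.finrank R M = n) (e : Fin n → M)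
    (he : LinearIndependent R e) (m : M) :
    ∃ a : R, a ≠ 0 ∧ a • m ∈ Submodule.span R (Set.range e) := by
  have h1 := rank_quotient_add_rank_of_isDomain (Submodule.span R (Set.range e))
  have h2 : Module.rank R (Submodule.span R (Set.range e)) = n := by
    have h5 := finrank_span_eq_card he
    have : Module.Finite R (Submodule.span R (Set.range e)) :=
      Module.Finite.iff_fg.2 (Submodule.fg_span (Set.finite_range e))
    rw [← Module.finrank_eq_rank, h5, Fintype.card_fin]
  have h3 : Module.rank R M = n := by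
    rw [← hn]
    exact (Module.finrank_eq_rank R M).symm
  rw [h2, h3] at h1
  have h4 : Module.rank R (M ⧸ Submodule.span R (Set.range e)) = 0 := by
    have h5 : Module.rank R (M ⧸ Submodule.span R (Set.range e)) + (n : Cardinal) = 0 + n := by
      rw [h1, zero_add]
    exact Cardinal.eq_of_add_eq_add_right h5 (Cardinal.natCast_lt_aleph0)
  obtain ⟨a, ha, h⟩ := rank_eq_zero_iff.1 h4 (Submodule.Quotient.mk m)
  refine ⟨a, ha, ?_⟩
  rwa [← Submodule.Quotient.mk_smul, Submodule.Quotient.mk_eq_zero] at h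

theorem exists_free_sub [Module.Finite R M] (n : ℕ) (hn : Module.finrank R M = n) :
    ∃ e : Fin n → M, LinearIndependent R e ∧
      ∀ m : M, ∃ a : R, a ≠ 0 ∧ a • m ∈ Submodule.span R (Set.range e) := by
  obtain ⟨e, he⟩ := exists_linearIndependent_of_le_finrank (R := R) (M := M) hn.ge
  exact ⟨e, he, torsion_of_card_eq hn e he⟩

/-- In a one-dimensional local domain, powers of elements of the maximal ideal are eventually divisible. -/
theorem exists_pow_mem [IsLocalRing R] (hdim : ringKrullDim R ≤ 1) {b : R} (hb : b ≠ 0) {a : R}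
    (ha : a ∈ IsLocalRing.maximalIdeal R) : ∃ n : ℕ, b ∣ a ^ n := by
  have h1 : a ∈ (Ideal.span {b}).radical := by
    rw [Ideal.radical_eq_sInf, Submodule.mem_sInf]
    intro p hp'
    obtain ⟨hbp, hp⟩ : Ideal.span {b} ≤ (p : Ideal R) ∧ Ideal.IsPrime p := hp'
    have : Ring.KrullDimLE 1 R := by
      rw [Ring.krullDimLE_iff]
      exact_mod_cast hdim
    have hpb : (p : Ideal R) ≠ ⊥ := by
      rintro rfl
      rw [Ideal.span_singleton_le_iff_mem, Ideal.mem_bot] at hbp
      exact hb hbp
    have h2 : Ideal.IsMaximal p := (Ring.krullDimLE_one_iff_of_noZeroDivisors.1 this) p hpb hp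
    rwa [IsLocalRing.eq_maximalIdeal h2]
  obtain ⟨n, hn⟩ := h1
  exact ⟨n, Ideal.mem_span_singleton.1 hn⟩

theorem exists_pow_smul_mem [IsLocalRing R] (hdim : ringKrullDim R ≤ 1) {N : Submodule R M} {m : M}
    (hm : ∃ b : R, b ≠ 0 ∧ b • m ∈ N) {a : R} (ha : a ∈ IsLocalRing.maximalIdeal R) : ∃ n : ℕ, a ^ n • m ∈ N := by
  obtain ⟨b, hb, hbm⟩ := hm
  obtain ⟨n, c, hc⟩ := exists_pow_mem hdim hb ha
  refine ⟨n, ?_⟩
  rw [hc, mul_comm, mul_smul]
  exact N.smul_mem c hbm

end K839.LatAlg
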