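import Groth.Agent.CycB.CohStalk
import Groth.Agent.Divis.StalkMod
import Groth.Agent.Dcoh.PerfFlat
import Mathlib.LinearAlgebra.Dimension.Localization

/-!
# Ranks of stalks on integral schemes
-/

set_option autoImplicit false
set_option linter.style.haveILetI false
universe u
open CategoryTheory CategoryTheory.Limits AlgebraicGeometry TopologicalSpace

namespace K839.Rank

variable {X : Scheme.{u}}

theorem finrank_stalk_eq [IsIntegral X] (M : X.Modules) (hM : Coh.IsQCoh M) {x ξ : X} (h : ξ ⤳ x) :
    Module.finrank (X.presheaf.stalk ξ) (M.presheaf.stalk ξ) =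
      Module.finrank (X.presheaf.stalk x) (M.presheaf.stalk x) := by
  letI := Groth.Agent.CycB.CohStalk.specModule M h
  letI := (X.presheaf.stalkSpecializes h).hom.toAlgebra
  haveI : IsScalarTower (X.presheaf.stalk x) (X.presheaf.stalk ξ) (M.presheaf.stalk ξ) := by
    constructor
    intro a b m
    change ((X.presheaf.stalkSpecializes h).hom a * b) • m = (X.presheaf.stalkSpecializes h).hom a • (b • m)
    rw [mul_smul]
  have hle : (RingHom.ker (Cyc.specMap x ξ h)).primeCompl ≤ nonZeroDivisors (X.presheaf.stalk x) := by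
    intro a ha
    refine mem_nonZeroDivisors_of_ne_zero ?_
    rintro rfl
    exact ha (Ideal.zero_mem _)
  haveI h1 := Groth.Agent.CycB.LocQuot.isLocalization_stalkSpecializes h
  haveI h2 := Groth.Agent.CycB.CohStalk.isLocalizedModule_stalkSpecializes M hM h
  rw [IsLocalization.finrank_eq (S := X.presheaf.stalk ξ) (N := M.presheaf.stalk ξ)
      (RingHom.ker (Cyc.specMap x ξ h)).primeCompl hle,
    IsLocalizedModule.finrank_eq (RingHom.ker (Cyc.specMap x ξ h)).primeCompl
      (Groth.Agent.CycB.CohStalk.specLin M h) hle]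

open Groth.Agent.Dcoh Groth.Agent.Dcoh.PerfFlat Groth.Agent.Dcoh.LocalD
  Groth.Agent.Dcoh.StalkMod Groth.Agent.CycB.StalkExact Groth.Agent.Dcoh.StalkRestrict
  Groth.Agent.Dcoh.FreeSec in
/-- The stalk of a module free of rank `n` near `x` has a basis with `n` elements. -/
theorem nonempty_basis_stalk {M : X.Modules} {U : X.Opens} {n : ℕ}
    (a : M.restrict U.ι ≅ FlatMod.freeMod (U : Scheme.{u}) n) (x : X) (hx : x ∈ U) :
    Nonempty (Module.Basis (Fin n) (X.presheaf.stalk x) (M.presheaf.stalk x)) := by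
  let b : Module.Basis (Fin n) ((U : Scheme.{u}).presheaf.stalk (pt U hx))
      ((M.restrict U.ι).presheaf.stalk (pt U hx)) :=
    Module.Basis.ofEquivFun ((stalkLinEquiv a (pt U hx)).trans (stalkFree n (pt U hx)).symm)
  exact ⟨basisOfSemilinear (σo U hx).symm (ρo U hx M) (ρo_smul' U hx M) b⟩

/-- A coherent module on a locally Noetherian scheme all of whose stalks are free of rank `n` is
finite locally free of rank `n`. -/
theorem isFinLocFreeOfRank_of_stalks [IsLocallyNoetherian X] {M : X.Modules} (n : ℕ)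
    (hM : Coh.IsCoh M) (h : ∀ x : X, Module.Free (X.presheaf.stalk x) (M.presheaf.stalk x))
    (h1 : ∀ x : X, Module.finrank (X.presheaf.stalk x) (M.presheaf.stalk x) = n) :
    FlatMod.IsFinLocFreeOfRank n M := by
  intro x
  obtain ⟨V, m, hx, ⟨e⟩⟩ := Groth.Agent.Divis.StalkMod.exists_free_nhd hM x (h x)
  obtain ⟨b⟩ := nonempty_basis_stalk e x hx
  have hn := Module.finrank_eq_card_basis b
  rw [h1 x, Fintype.card_fin] at hn
  subst hn
  exact ⟨V, hx, ⟨e⟩⟩

end K839.Rank
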