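import Groth.Agent.TFCurv.K839.SubStalk
import Groth.Agent.TFCurv.K839.Rank
import Groth.Agent.TFCurv.K839.Top1
import Groth.Agent.TFCurv.K839.LatAlg
import Groth.Agent.CurvesA.DimOne
import Groth.Agent.Divis.StalkMod
import Mathlib.AlgebraicGeometry.FunctionField

/-!
# Full locally free lattices in coherent sheaves on integral curves
-/

set_option autoImplicit false
universe u
open CategoryTheory CategoryTheory.Limits AlgebraicGeometry TopologicalSpace

namespace K839.CurveLat

open Groth.Agent.CycB.StalkExact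

variable {X : Scheme.{u}}

/-- The non-free locus is closed. -/
theorem isClosed_nonfree [IsLocallyNoetherian X] {G : X.Modules} (hG : Coh.IsCoh G) :
    IsClosed {x : X | ¬ Module.Free (X.presheaf.stalk x) (G.presheaf.stalk x)} := by
  rw [← isOpen_compl_iff, isOpen_iff_mem_nhds]
  intro x hx
  have hx' : Module.Free (X.presheaf.stalk x) (G.presheaf.stalk x) := by
    by_contra h
    exact hx h
  obtain ⟨V, m, hxV, ⟨e⟩⟩ := Groth.Agent.Divis.StalkMod.exists_free_nhd hG x hx'
  refine Filter.mem_of_superset (V.isOpen.mem_nhds hxV) fun y hy => ?_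
  obtain ⟨b⟩ := K839.Rank.nonempty_basis_stalk e y hy
  intro h
  exact h (Module.Free.of_basis b)

theorem free_genericPoint [IsIntegral X] (G : X.Modules) :
    Module.Free (X.presheaf.stalk (genericPoint X)) (G.presheaf.stalk (genericPoint X)) := by
  have h : IsField (X.presheaf.stalk (genericPoint X)) := Field.toIsField X.functionField
  letI := h.toField
  exact Module.Free.of_divisionRing _ _

theorem exists_lattice [IsIntegral X] [IsNoetherian X] (hdim : topologicalKrullDim X ≤ 1) {G : X.Modules}
    (hG : Coh.IsCoh G) {n : ℕ}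
    (hn : Module.finrank (X.presheaf.stalk (genericPoint X)) (G.presheaf.stalk (genericPoint X)) = n) :
    ∃ (E : X.Modules) (i : E ⟶ G), FlatMod.IsFinLocFreeOfRank n E ∧ Coh.IsCoh E ∧ Mono i ∧
      (∀ x, Function.Injective (stalkLin i x)) ∧
      (∀ x (m : G.presheaf.stalk x), ∃ a : X.presheaf.stalk x, a ≠ 0 ∧ a • m ∈ LinearMap.range (stalkLin i x)) ∧
      (∀ x, Module.Free (X.presheaf.stalk x) (G.presheaf.stalk x) → Function.Surjective (stalkLin i x)) := by
  have hcl := isClosed_nonfree hG
  set C : Set X := {x : X | ¬ Module.Free (X.presheaf.stalk x) (G.presheaf.stalk x)} with hC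
  have hgen : genericPoint X ∉ C := fun h => h (free_genericPoint G)
  have hfin : C.Finite := K839.Top1.finite hdim hcl hgen
  have hfin' : Finite C := hfin
  let pt : C → X := Subtype.val
  have hpt : Function.Injective pt := Subtype.val_injective
  have hptc : ∀ i, IsClosed ({pt i} : Set X) := fun i =>
    K839.Top1.isClosed_singleton hdim (fun h => hgen (h ▸ i.2))
  have hrank : ∀ x : X, Module.finrank (X.presheaf.stalk x) (G.presheaf.stalk x) = n := fun x => by
    rw [← K839.Rank.finrank_stalk_eq G hG.1 (genericPoint_specializes x), hn]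
  have hfg : ∀ x : X, Module.Finite (X.presheaf.stalk x) (G.presheaf.stalk x) := fun x =>
    Groth.Agent.Divis.StalkMod.finite_stalk hG x
  have hex : ∀ i : C, ∃ e : Fin n → G.presheaf.stalk (pt i), LinearIndependent (X.presheaf.stalk (pt i)) e ∧
      ∀ m : G.presheaf.stalk (pt i), ∃ a : X.presheaf.stalk (pt i), a ≠ 0 ∧
        a • m ∈ Submodule.span (X.presheaf.stalk (pt i)) (Set.range e) := fun i =>
    have := hfg (pt i)
    K839.LatAlg.exists_free_sub n (hrank (pt i))
  choose e he hetor using hex
  let N : ∀ i : C, Submodule (X.presheaf.stalk (pt i)) (G.presheaf.stalk (pt i)) := fun i =>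
    Submodule.span (X.presheaf.stalk (pt i)) (Set.range (e i))
  have hinj : ∀ x, Function.Injective (stalkLin (K839.SubStalk.ι G pt N) x) :=
    K839.SubStalk.stalk_injective G pt N
  have hrange : ∀ i, LinearMap.range (stalkLin (K839.SubStalk.ι G pt N) (pt i)) = N i :=
    K839.SubStalk.range_stalk G pt N hpt hptc
  have hsurj : ∀ x, x ∉ C → Function.Surjective (stalkLin (K839.SubStalk.ι G pt N) x) := fun x hx =>
    K839.SubStalk.stalk_surjective G pt N hptc x (fun i h => hx (h ▸ i.2))
  have hcoh : Coh.IsCoh (K839.SubStalk.sub G pt N) := by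
    refine K839.SubStalk.isCoh G pt N hG fun i m a ha => ?_
    refine K839.LatAlg.exists_pow_smul_mem ?_ (hetor i m) ha
    exact (Groth.Agent.CurvesA.DimOne.ringKrullDim_stalk_le X (pt i)).trans hdim
  have hbasis : ∀ x : X, Nonempty (Module.Basis (Fin n) (X.presheaf.stalk x)
      ((K839.SubStalk.sub G pt N).presheaf.stalk x)) := by
    intro x
    by_cases hx : x ∈ C
    · have h1 : N ⟨x, hx⟩ = LinearMap.range (stalkLin (K839.SubStalk.ι G pt N) x) := (hrange ⟨x, hx⟩).symm
      let b1 : Module.Basis (Fin n) (X.presheaf.stalk x) (N ⟨x, hx⟩) := Module.Basis.span (he ⟨x, hx⟩)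
      let e1 := LinearEquiv.ofInjective (stalkLin (K839.SubStalk.ι G pt N) x) (hinj x)
      exact ⟨b1.map ((LinearEquiv.ofEq _ _ h1).trans e1.symm)⟩
    · have hfree : Module.Free (X.presheaf.stalk x) (G.presheaf.stalk x) := by
        by_contra h
        exact hx h
      have := hfg x
      let b1 := Module.finBasisOfFinrankEq (X.presheaf.stalk x) (G.presheaf.stalk x) (hrank x)
      exact ⟨b1.map (LinearEquiv.ofBijective _ ⟨hinj x, hsurj x hx⟩).symm⟩
  refine ⟨K839.SubStalk.sub G pt N, K839.SubStalk.ι G pt N, ?_, hcoh, inferInstance, hinj, ?_, ?_⟩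
  · refine K839.Rank.isFinLocFreeOfRank_of_stalks n hcoh (fun x => ?_) (fun x => ?_)
    · obtain ⟨b⟩ := hbasis x
      exact Module.Free.of_basis b
    · obtain ⟨b⟩ := hbasis x
      rw [Module.finrank_eq_card_basis b, Fintype.card_fin]
  · intro x m
    by_cases hx : x ∈ C
    · obtain ⟨a, ha, ham⟩ := hetor ⟨x, hx⟩ m
      refine ⟨a, ha, ?_⟩
      rw [show LinearMap.range (stalkLin (K839.SubStalk.ι G pt N) x) = N ⟨x, hx⟩ from hrange ⟨x, hx⟩]
      exact ham
    · refine ⟨1, one_ne_zero, ?_⟩
      rw [one_smul, LinearMap.mem_range]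
      exact hsurj x hx m
  · intro x hx
    exact hsurj x (fun h => h hx)

end K839.CurveLat
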