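import Groth.Agent.TFCurv.K839.Dual
import Mathlib.LinearAlgebra.Basis.VectorSpace
import Mathlib.LinearAlgebra.FiniteDimensional.Defs
import Mathlib.LinearAlgebra.Dual.Defs

/-!
# Duality of lattices in a vector space with a perfect pairing

`O` is a one-dimensional Noetherian local domain with fraction field `K`, `ω ⊆ K` a canonical ideal, `V` a finite-dimensional
`K`-vector space with a perfect symmetric pairing `B`.  `dl ω B N = {x | B(x, N) ⊆ ω}`.
-/

set_option autoImplicit false
set_option linter.unusedSectionVars false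
universe u

open K839.Rl K839.Canon

namespace K839.DualLat

section defs

variable {O K V : Type u} [CommRing O] [IsDomain O] [Field K] [Algebra O K] [IsFractionRing O K]
  [AddCommGroup V] [Module K V] [Module O V] [IsScalarTower O K V]

/-- Every vector has a nonzero multiple in `N`. -/
def Full (N : Submodule O V) : Prop := ∀ x : V, ∃ a : O, a ≠ 0 ∧ a • x ∈ N

theorem Full.mono {N N' : Submodule O V} (h : Full N) (hN : N ≤ N') : Full N' := fun x => by
  obtain ⟨a, ha, hx⟩ := h x
  exact ⟨a, ha, hN hx⟩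

theorem full_of_ne_bot {ω : Submodule O K} (h : ω ≠ ⊥) : Full ω := by
  obtain ⟨w, hw, hw0⟩ := Submodule.exists_mem_ne_zero_of_ne_bot h
  intro x
  obtain ⟨p, q, hq, hpq⟩ := IsFractionRing.div_surjective (A := O) (x / w)
  have hq0 : q ≠ 0 := nonZeroDivisors.ne_zero hq
  have hqK : algebraMap O K q ≠ 0 := by rwa [Ne, FaithfulSMul.algebraMap_eq_zero_iff]
  refine ⟨q, hq0, ?_⟩
  have h1 : q • x = p • w := by
    rw [Algebra.smul_def, Algebra.smul_def]
    field_simp at hpq
    rw [hpq]
  rw [h1]
  exact ω.smul_mem _ hw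

theorem Full.span_eq_top {N : Submodule O V} (h : Full N) : Submodule.span K (N : Set V) = ⊤ := by
  rw [eq_top_iff]
  intro v _
  obtain ⟨a, ha, hav⟩ := h v
  have haK : algebraMap O K a ≠ 0 := by rwa [Ne, FaithfulSMul.algebraMap_eq_zero_iff O K]
  have h1 : v = (algebraMap O K a)⁻¹ • a • v := by
    rw [← algebraMap_smul K a, smul_smul, inv_mul_cancel₀ haK, one_smul]
  rw [h1]
  exact Submodule.smul_mem _ _ (Submodule.subset_span hav)

theorem full_of_span_eq_top {N : Submodule O V} (h : Submodule.span K (N : Set V) = ⊤) : Full N := by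
  intro v
  have hv : v ∈ Submodule.span K (N : Set V) := by rw [h]; trivial
  induction hv using Submodule.span_induction with
  | mem x hx => exact ⟨1, one_ne_zero, by rwa [one_smul]⟩
  | zero => exact ⟨1, one_ne_zero, by rw [smul_zero]; exact N.zero_mem⟩
  | add x y _ _ hx hy =>
    obtain ⟨a, ha, hax⟩ := hx
    obtain ⟨b, hb, hby⟩ := hy
    refine ⟨a * b, mul_ne_zero ha hb, ?_⟩
    rw [smul_add]
    refine N.add_mem ?_ ?_
    · rw [mul_comm, mul_smul]; exact N.smul_mem _ hax
    · rw [mul_smul]; exact N.smul_mem _ hby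
  | smul c x _ hx =>
    obtain ⟨a, ha, hax⟩ := hx
    obtain ⟨p, q, hq, rfl⟩ := IsFractionRing.div_surjective (A := O) c
    have hq0 : q ≠ 0 := nonZeroDivisors.ne_zero hq
    have hqK : algebraMap O K q ≠ 0 := by rwa [Ne, FaithfulSMul.algebraMap_eq_zero_iff O K]
    refine ⟨q * a, mul_ne_zero hq0 ha, ?_⟩
    have h1 : (q * a) • (algebraMap O K p / algebraMap O K q) • x = p • a • x := by
      rw [← algebraMap_smul K (q * a), ← algebraMap_smul K p, ← algebraMap_smul K a, smul_smul, smul_smul,
        map_mul]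
      congr 1
      field_simp
    rw [h1]
    exact N.smul_mem _ hax

/-- The dual lattice. -/
def dl (ω : Submodule O K) (B : V →ₗ[K] V →ₗ[K] K) (N : Submodule O V) : Submodule O V where
  carrier := {x | ∀ y ∈ N, B x y ∈ ω}
  add_mem' := fun {a b} ha hb y hy => by
    rw [map_add, LinearMap.add_apply]
    exact ω.add_mem (ha y hy) (hb y hy)
  zero_mem' := fun y _ => by
    rw [map_zero, LinearMap.zero_apply]
    exact ω.zero_mem
  smul_mem' := fun c x hx y hy => by
    have h1 : B (c • x) y = c • B x y := by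
      rw [← algebraMap_smul K c x, map_smul, LinearMap.smul_apply, algebraMap_smul]
    rw [h1]
    exact ω.smul_mem _ (hx y hy)

variable {ω : Submodule O K} {B : V →ₗ[K] V →ₗ[K] K}

theorem mem_dl {N : Submodule O V} {x : V} : x ∈ dl ω B N ↔ ∀ y ∈ N, B x y ∈ ω := Iff.rfl

theorem dl_anti {N N' : Submodule O V} (h : N ≤ N') : dl ω B N' ≤ dl ω B N := fun _ hx y hy => hx y (h hy)

theorem le_dl_dl (hs : ∀ x y, B x y = B y x) (N : Submodule O V) : N ≤ dl ω B (dl ω B N) := by
  intro x hx y hy
  rw [hs]
  exact hy x hx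

theorem dl_dl_dl (hs : ∀ x y, B x y = B y x) (N : Submodule O V) :
    dl ω B (dl ω B (dl ω B N)) = dl ω B N :=
  le_antisymm (dl_anti (le_dl_dl hs N)) (le_dl_dl hs _)

/-- The comparison map with homomorphisms. -/
def toHom (ω : Submodule O K) (B : V →ₗ[K] V →ₗ[K] K) (N : Submodule O V) : ↥(dl ω B N) →ₗ[O] (↥N →ₗ[O] ↥ω) where
  toFun x :=
    { toFun := fun y => ⟨B x y, x.2 y y.2⟩
      map_add' := fun y z => Subtype.ext (map_add _ _ _)
      map_smul' := fun c y => Subtype.ext (by
        change B x (c • (y : V)) = c • B x y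
        rw [← algebraMap_smul K c (y : V), map_smul, algebraMap_smul]) }
  map_add' x x' := by
    ext y
    change B ((x : V) + x') y = B x y + B x' y
    rw [map_add, LinearMap.add_apply]
  map_smul' c x := by
    ext y
    change B (c • (x : V)) y = c • B x y
    rw [← algebraMap_smul K c (x : V), map_smul, LinearMap.smul_apply, algebraMap_smul]

theorem toHom_apply (N : Submodule O V) (x : dl ω B N) (y : N) : (toHom ω B N x y : K) = B x y := rfl

theorem toHom_injective (hB : Function.Injective B) {N : Submodule O V} (hN : Full N) :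
    Function.Injective (toHom ω B N) := by
  rw [injective_iff_map_eq_zero]
  intro x hx
  apply Subtype.ext
  apply hB
  change B x = B 0
  rw [map_zero]
  ext v
  obtain ⟨a, ha, hav⟩ := hN v
  have h1 := congrArg Subtype.val (LinearMap.congr_fun hx ⟨a • v, hav⟩)
  have h2 : B x (a • v) = 0 := h1
  rw [← algebraMap_smul K a v, map_smul] at h2
  have haK : algebraMap O K a ≠ 0 := by rwa [Ne, FaithfulSMul.algebraMap_eq_zero_iff O K]
  exact (smul_eq_zero.1 h2).resolve_left haK

/-- Extension of a linear form on a full submodule. -/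
theorem exists_extension [FiniteDimensional K V] {N : Submodule O V} (hN : Full N) (φ : N →ₗ[O] K) :
    ∃ Φ : V →ₗ[K] K, ∀ y : N, Φ y = φ y := by
  classical
  let b := Module.Basis.ofSpan (K := K) (s := (N : Set V)) hN.span_eq_top.ge
  have hbN : ∀ i, b i ∈ N := fun i => Module.Basis.ofSpan_subset _ ⟨i, rfl⟩
  have : Fintype _ := FiniteDimensional.fintypeBasisIndex b
  refine ⟨b.constr K (fun i => φ ⟨b i, hbN i⟩), fun y => ?_⟩
  obtain ⟨d, hd⟩ := IsLocalization.exist_integer_multiples_of_finite (nonZeroDivisors O)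
    (S := K) (fun i => b.repr (y : V) i)
  choose r hr using hd
  have hd0 : (algebraMap O K d) ≠ 0 := by
    rw [Ne, FaithfulSMul.algebraMap_eq_zero_iff]
    exact nonZeroDivisors.ne_zero d.2
  have hr' : ∀ i, algebraMap O K (r i) = algebraMap O K d * b.repr (y : V) i := fun i => by
    rw [hr i]
    exact Algebra.smul_def _ _
  have h1 : (d : O) • y = ∑ i, r i • (⟨b i, hbN i⟩ : N) := by
    apply Subtype.ext
    rw [Submodule.coe_smul, AddSubmonoidClass.coe_finsetSum]
    conv_lhs => rw [← b.sum_repr (y : V)]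
    rw [Finset.smul_sum]
    refine Finset.sum_congr rfl fun i _ => ?_
    rw [Submodule.coe_smul, ← algebraMap_smul K (r i), hr', mul_smul, algebraMap_smul]
  have h2 : (d : O) • φ y = ∑ i, r i • φ (⟨b i, hbN i⟩ : N) := by
    rw [← map_smul, h1, map_sum]
    simp only [map_smul]
  apply mul_left_cancel₀ hd0
  rw [← Algebra.smul_def _ (φ y), h2, Module.Basis.constr_apply_fintype, Finset.mul_sum]
  refine Finset.sum_congr rfl fun i _ => ?_
  rw [Algebra.smul_def (r i), hr', smul_eq_mul, Module.Basis.equivFun_apply, mul_assoc]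

theorem toHom_surjective [FiniteDimensional K V] (hB : Function.Surjective B) {N : Submodule O V}
    (hN : Full N) : Function.Surjective (toHom ω B N) := by
  intro φ
  obtain ⟨Φ, hΦ⟩ := exists_extension hN (ω.subtype ∘ₗ φ)
  obtain ⟨x, hx⟩ := hB Φ
  refine ⟨⟨x, fun y hy => ?_⟩, ?_⟩
  · rw [hx, hΦ ⟨y, hy⟩]
    exact (φ ⟨y, hy⟩).2
  · ext y
    rw [toHom_apply]
    change B x y = _
    rw [hx, hΦ]
    rfl

theorem full_dl [FiniteDimensional K V] (hω : ω ≠ ⊥) {N : Submodule O V} (hN : N.FG) : Full (dl ω B N) := by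
  intro x
  obtain ⟨a, ha, h⟩ := exists_smul_mem ω (N.map ((B x).restrictScalars O)) (hN.map _) (fun m _ => full_of_ne_bot hω m)
  refine ⟨a, ha, fun y hy => ?_⟩
  have h1 : B (a • x) y = a • B x y := by
    rw [← algebraMap_smul K a x, map_smul, LinearMap.smul_apply, algebraMap_smul]
  rw [h1]
  exact h _ ⟨y, hy, rfl⟩

variable [IsNoetherianRing O] [IsLocalRing O] [FiniteDimensional K V]

theorem fg_dl (hW : IsCanon O ↥ω) (hB : Function.Bijective B) {N : Submodule O V} (hN : N.FG)
    (hN' : Full N) : (dl ω B N).FG := by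
  have := hW.finite
  have : Module.Finite O N := Module.Finite.iff_fg.2 hN
  have : Module.Finite O (↥N →ₗ[O] ↥ω) := inferInstance
  rw [← Module.Finite.iff_fg]
  exact Module.Finite.equiv (LinearEquiv.ofBijective (toHom ω B N)
    ⟨toHom_injective hB.1 hN', toHom_surjective hB.2 hN'⟩).symm

theorem rl_dl (hdim : ringKrullDim O = 1) (hW : IsCanon O ↥ω) (hB : Function.Bijective B)
    {M N : Submodule O V} (hMN : M ≤ N) (hM : Full M) (hN : N.FG) :
    rl (dl ω B N) (dl ω B M) = rl M N := by
  have hN' : Full N := hM.mono hMN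
  have : Module.Finite O N := Module.Finite.iff_fg.2 hN
  have : NoZeroSMulDivisors O N := by
    refine ⟨fun {c v} h => ?_⟩
    by_cases hc : c = 0
    · exact Or.inl hc
    · right
      have h1 : c • (v : V) = 0 := congrArg Subtype.val h
      rw [← algebraMap_smul K c (v : V)] at h1
      have hcK : algebraMap O K c ≠ 0 := by rwa [Ne, FaithfulSMul.algebraMap_eq_zero_iff O K]
      exact Subtype.ext ((smul_eq_zero.1 h1).resolve_left hcK)
  let f : ↥M →ₗ[O] ↥N := Submodule.inclusion hMN
  have hf : Function.Injective f := Submodule.inclusion_injective hMN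
  have hr : LinearMap.range f = Submodule.comap N.subtype M := Submodule.range_inclusion M N hMN
  have hfin : IsFiniteLength O (↥N ⧸ LinearMap.range f) := by
    rw [← Module.length_ne_top_iff, hr]
    exact rl_ne_top' hdim.le M N hN (fun m _ => hM m)
  have key := hW.length_hom_quot hdim f hf hfin
  rw [hr] at key
  rw [rl, rl, ← key]
  let eM := LinearEquiv.ofBijective (toHom ω B M) ⟨toHom_injective hB.1 hM, toHom_surjective hB.2 hM⟩
  refine (Submodule.Quotient.equiv _ _ eM ?_).length_eq
  ext φ
  constructor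
  · rintro ⟨x, hx, rfl⟩
    exact ⟨toHom ω B N ⟨(x : V), hx⟩, rfl⟩
  · rintro ⟨ψ, rfl⟩
    obtain ⟨x, rfl⟩ := toHom_surjective hB.2 hN' ψ
    exact ⟨⟨x, dl_anti hMN x.2⟩, x.2, rfl⟩

theorem dl_dl (hdim : ringKrullDim O = 1) (hW : IsCanon O ↥ω) (hB : Function.Bijective B)
    (hs : ∀ x y, B x y = B y x) {N : Submodule O V} (hN : N.FG) (hN' : Full N) :
    dl ω B (dl ω B N) = N := by
  have hω0 : ω ≠ ⊥ := Submodule.nontrivial_iff_ne_bot.1 hW.nontrivial
  have h1 : (dl ω B N).FG := fg_dl hW hB hN hN'
  have h2 : Full (dl ω B N) := full_dl hω0 hN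
  have h3 : (dl ω B (dl ω B N)).FG := fg_dl hW hB h1 h2
  have h4 := rl_dl hdim hW hB (le_dl_dl (ω := ω) hs N) hN' h3
  rw [dl_dl_dl hs, rl_self] at h4
  exact le_antisymm (rl_eq_zero_iff.1 h4.symm) (le_dl_dl hs N)

end defs

section rank1

variable {O K : Type u} [CommRing O] [IsDomain O] [Field K] [Algebra O K] [IsFractionRing O K]
  [IsNoetherianRing O] [IsLocalRing O]

theorem mul_bijective : Function.Bijective (LinearMap.mul K K) := by
  constructor
  · intro x y h
    have := LinearMap.congr_fun h 1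
    simpa using this
  · intro φ
    refine ⟨φ 1, ?_⟩
    ext
    simp

/-- The endomorphism ring of a canonical ideal is `O`. -/
theorem dl_self (hdim : ringKrullDim O = 1) {ω : Submodule O K} (hW : IsCanon O ↥ω) :
    dl ω (LinearMap.mul K K) ω = 1 := by
  have h1 : dl ω (LinearMap.mul K K) 1 = ω := by
    ext x
    rw [mem_dl]
    constructor
    · intro h
      have := h 1 (Submodule.mem_one.2 ⟨1, map_one _⟩)
      simpa using this
    · intro hx y hy
      obtain ⟨r, rfl⟩ := Submodule.mem_one.1 hy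
      rw [LinearMap.mul_apply', mul_comm, ← Algebra.smul_def]
      exact ω.smul_mem _ hx
  have hfg : (1 : Submodule O K).FG := by
    rw [Submodule.one_eq_span]
    exact Submodule.fg_span (Set.finite_singleton _)
  have h2 := dl_dl hdim hW mul_bijective (fun x y => mul_comm x y) hfg (fun x => exists_smul_mem_one' x)
  rwa [h1] at h2

end rank1

end K839.DualLat
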