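import Mathlib.RingTheory.Length
import Mathlib.RingTheory.LocalRing.ResidueField.Basic
import Mathlib.RingTheory.Nakayama
import Mathlib.RingTheory.Spectrum.Maximal.Basic
import Mathlib.LinearAlgebra.Quotient.Pi
import Mathlib.RingTheory.Ideal.Quotient.Operations
import Mathlib.SetTheory.Cardinal.NatCard

/-!
# Generators of `S · M` taken from `M`

`O` is a local ring with infinite residue field, `S` an `O`-algebra with finitely many maximal ideals,
`L` a finite `S`-module and `M ⊆ L` an `O`-submodule with `S · M = L`.  If `L / 𝔫 L` has length at most `n` for every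
maximal ideal `𝔫` of `S`, then `L` is generated over `S` by `n` elements of `M`.
-/

set_option autoImplicit false

namespace K839.Gen

open IsLocalRing

/-- Avoidance: over a local ring with infinite residue field, a module is not a finite union of proper
submodules. -/
theorem exists_forall_notMem {O : Type*} [CommRing O] [IsLocalRing O] [Infinite (ResidueField O)]
    {M : Type*} [AddCommGroup M] [Module O M] {ι : Type*} (s : Finset ι) (p : ι → Submodule O M)
    (hp : ∀ i ∈ s, p i ≠ ⊤) : ∃ m : M, ∀ i ∈ s, m ∉ p i := by
  classical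
  induction s using Finset.induction_on with
  | empty => exact ⟨0, by simp⟩
  | insert j s hj ih =>
    obtain ⟨x, hx⟩ := ih (fun i hi => hp i (Finset.mem_insert_of_mem hi))
    by_cases hxj : x ∈ p j
    swap
    · exact ⟨x, fun i hi => by
        rcases Finset.mem_insert.1 hi with rfl | hi
        · exact hxj
        · exact hx i hi⟩
    obtain ⟨y, hy⟩ : ∃ y, y ∉ p j := by
      by_contra hcon
      push Not at hcon
      exact hp j (Finset.mem_insert_self _ _) (eq_top_iff.2 fun z _ => hcon z)
    -- lifts of residues
    let l : ResidueField O → O := Function.surjInv (residue_surjective (R := O))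
    have hl : ∀ a, residue O (l a) = a := Function.surjInv_eq _
    by_contra hcon
    push Not at hcon
    have key : ∀ a : ResidueField O, ∃ i ∈ s, y + l a • x ∈ p i := by
      intro a
      obtain ⟨i, hi, hmem⟩ := hcon (y + l a • x)
      rcases Finset.mem_insert.1 hi with rfl | hi
      · exact absurd ((p i).add_mem_iff_left ((p i).smul_mem _ hxj) |>.1 hmem) hy
      · exact ⟨i, hi, hmem⟩
    choose f hf hf' using key
    obtain ⟨a, b, hab, hfab⟩ := Finite.exists_ne_map_eq_of_infinite (fun a => (⟨f a, hf a⟩ : s))
    have hfab' : f a = f b := congrArg Subtype.val hfab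
    have h1 : (y + l a • x) - (y + l b • x) ∈ p (f a) :=
      (p _).sub_mem (hf' a) (by rw [hfab']; exact hf' b)
    have h2 : (l a - l b) • x ∈ p (f a) := by
      have : (y + l a • x) - (y + l b • x) = (l a - l b) • x := by
        rw [sub_smul]; abel
      rwa [this] at h1
    have hu : IsUnit (l a - l b) := by
      rw [← residue_ne_zero_iff_isUnit, map_sub, hl, hl]
      exact sub_ne_zero.2 hab
    obtain ⟨u, hu⟩ := hu
    have h3 : x ∈ p (f a) := by
      have := (p (f a)).smul_mem (↑u⁻¹ : O) h2
      rwa [← hu, smul_smul, Units.inv_mul, one_smul] at this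
    exact hx _ (hf a) h3

/-- Nakayama over a semi-local (or arbitrary) ring: a submodule which is everything modulo each maximal ideal
is everything. -/
theorem eq_top_of_forall_maximal {S : Type*} [CommRing S] {L : Type*} [AddCommGroup L] [Module S L]
    [Module.Finite S L] (N : Submodule S L)
    (h : ∀ 𝔫 : MaximalSpectrum S, 𝔫.asIdeal • (⊤ : Submodule S L) ⊔ N = ⊤) : N = ⊤ := by
  by_contra hN
  have hann : Module.annihilator S (L ⧸ N) ≠ ⊤ := by
    intro h1
    apply hN
    rw [Ideal.eq_top_iff_one, Module.mem_annihilator] at h1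
    rw [eq_top_iff]
    intro x _
    have := h1 (Submodule.Quotient.mk x)
    rwa [one_smul, Submodule.Quotient.mk_eq_zero] at this
  obtain ⟨m, hm, hle⟩ := Ideal.exists_le_maximal _ hann
  have h1 : (⊤ : Submodule S (L ⧸ N)) ≤ m • (⊤ : Submodule S (L ⧸ N)) := by
    have h2 := h ⟨m, hm⟩
    have h3 := congrArg (Submodule.map N.mkQ) h2
    rw [Submodule.map_sup, Submodule.map_smul'', Submodule.map_top, Submodule.range_mkQ,
      Submodule.mkQ_map_self, sup_bot_eq] at h3
    exact h3.ge
  obtain ⟨r, hr1, hr2⟩ := Submodule.exists_sub_one_mem_and_smul_eq_zero_of_fg_of_le_smul m ⊤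
    (Module.Finite.fg_top) h1
  have h4 : r ∈ m := hle (Module.mem_annihilator.2 fun q => hr2 q trivial)
  apply hm.ne_top
  rw [Ideal.eq_top_iff_one]
  have := m.sub_mem h4 hr1
  simpa using this

theorem exists_generators {O S : Type*} [CommRing O] [IsLocalRing O] [Infinite (ResidueField O)]
    [CommRing S] [Algebra O S] [Finite (MaximalSpectrum S)]
    {L : Type*} [AddCommGroup L] [Module O L] [Module S L] [IsScalarTower O S L] [Module.Finite S L]
    (M : Submodule O L) (hM : Submodule.span S (M : Set L) = ⊤) (n : ℕ)
    (hn : ∀ 𝔫 : MaximalSpectrum S,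
      Module.length S (L ⧸ (𝔫.asIdeal • (⊤ : Submodule S L))) ≤ (n : ℕ∞)) :
    ∃ p : Fin n → L, (∀ i, p i ∈ M) ∧ Submodule.span S (Set.range p) = ⊤ := by
  classical
  have := Fintype.ofFinite (MaximalSpectrum S)
  have key : ∀ i ≤ n, ∃ p : Fin i → L, (∀ j, p j ∈ M) ∧ ∀ 𝔫 : MaximalSpectrum S,
      Module.length S (L ⧸ (𝔫.asIdeal • (⊤ : Submodule S L) ⊔ Submodule.span S (Set.range p))) ≤
        ((n - i : ℕ) : ℕ∞) := by
    intro i
    induction i with
    | zero =>
      intro _
      refine ⟨Fin.elim0, fun j => j.elim0, fun 𝔫 => ?_⟩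
      refine le_trans ?_ (hn 𝔫)
      exact Module.length_le_of_surjective (Submodule.factor le_sup_left)
        (Submodule.factor_surjective _)
    | succ i ih =>
      intro hi
      obtain ⟨p, hpM, hp⟩ := ih (by omega)
      let W : MaximalSpectrum S → Submodule S L := fun 𝔫 =>
        𝔫.asIdeal • (⊤ : Submodule S L) ⊔ Submodule.span S (Set.range p)
      let U : MaximalSpectrum S → Submodule O M := fun 𝔫 =>
        ((W 𝔫).restrictScalars O).comap M.subtype
      have hU : ∀ 𝔫 ∈ Finset.univ.filter (fun 𝔫 => W 𝔫 ≠ ⊤), U 𝔫 ≠ ⊤ := by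
        intro 𝔫 h𝔫 htop
        rw [Finset.mem_filter] at h𝔫
        apply h𝔫.2
        rw [eq_top_iff, ← hM, Submodule.span_le]
        intro m hm
        have : (⟨m, hm⟩ : M) ∈ U 𝔫 := by rw [htop]; trivial
        exact this
      obtain ⟨m, hm⟩ := exists_forall_notMem _ U hU
      refine ⟨Fin.snoc (α := fun _ => L) p (m : L), ?_, ?_⟩
      · intro j
        refine Fin.lastCases ?_ (fun j => ?_) j
        · rw [Fin.snoc_last]; exact m.2
        · rw [Fin.snoc_castSucc]; exact hpM j
      · intro 𝔫
        have hrange : Submodule.span S (Set.range (Fin.snoc (α := fun _ => L) p (m : L))) =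
            Submodule.span S (Set.range p) ⊔ Submodule.span S {(m : L)} := by
          rw [← Submodule.span_union]
          congr 1
          ext x
          constructor
          · rintro ⟨j, rfl⟩
            refine Fin.lastCases ?_ (fun j => ?_) j
            · right; rw [Fin.snoc_last]; rfl
            · left; rw [Fin.snoc_castSucc]; exact ⟨j, rfl⟩
          · rintro (⟨j, rfl⟩ | rfl)
            · exact ⟨j.castSucc, by rw [Fin.snoc_castSucc]⟩
            · exact ⟨Fin.last i, by rw [Fin.snoc_last]⟩
        rw [hrange, ← sup_assoc]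
        change Module.length S (L ⧸ (W 𝔫 ⊔ Submodule.span S {(m : L)})) ≤ _
        by_cases hW : W 𝔫 = ⊤
        · rw [hW, top_sup_eq]
          have : Subsingleton (L ⧸ (⊤ : Submodule S L)) := Submodule.Quotient.subsingleton_iff.2 rfl
          rw [Module.length_eq_zero]
          exact bot_le
        · have hmW : (m : L) ∉ W 𝔫 := fun h => hm 𝔫 (by simp [hW]) h
          have h1 : Module.length S (L ⧸ W 𝔫) ≤ ((n - i : ℕ) : ℕ∞) := hp 𝔫
          have h0 : W 𝔫 ≤ W 𝔫 ⊔ Submodule.span S {(m : L)} := le_sup_left
          have h2 := Module.length_eq_add_of_exact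
            (LinearMap.ker (Submodule.factor h0)).subtype (Submodule.factor h0)
            (Submodule.subtype_injective _) (Submodule.factor_surjective h0)
            (LinearMap.exact_subtype_ker_map _)
          have h3 : 1 ≤ Module.length S (LinearMap.ker (Submodule.factor h0)) := by
            rw [Order.one_le_iff_ne_zero, Ne, Module.length_eq_zero_iff]
            intro hsub
            have h4 : (Submodule.Quotient.mk (m : L) : L ⧸ W 𝔫) ∈ LinearMap.ker (Submodule.factor h0) := by
              rw [LinearMap.mem_ker]
              change Submodule.factor h0 (Submodule.mkQ _ (m : L)) = 0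
              rw [Submodule.factor_mk]
              exact (Submodule.Quotient.mk_eq_zero _).2
                (Submodule.mem_sup_right (Submodule.mem_span_singleton_self _))
            have h5 : (⟨_, h4⟩ : LinearMap.ker (Submodule.factor h0)) = 0 := Subsingleton.elim _ _
            have h6 : (Submodule.Quotient.mk (m : L) : L ⧸ W 𝔫) = 0 := congrArg Subtype.val h5
            rw [Submodule.Quotient.mk_eq_zero] at h6
            exact hmW h6
          have h7 : 1 + Module.length S (L ⧸ (W 𝔫 ⊔ Submodule.span S {(m : L)})) ≤ ((n - i : ℕ) : ℕ∞) := by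
            refine le_trans ?_ h1
            rw [h2]
            gcongr
          have h8 : ((n - i : ℕ) : ℕ∞) = 1 + ((n - (i + 1) : ℕ) : ℕ∞) := by
            norm_cast
            omega
          rw [h8] at h7
          exact (ENat.add_le_add_iff_left ENat.one_ne_top).1 h7
  obtain ⟨p, hpM, hp⟩ := key n le_rfl
  refine ⟨p, hpM, eq_top_of_forall_maximal _ fun 𝔫 => ?_⟩
  have := hp 𝔫
  simp only [Nat.sub_self, Nat.cast_zero, nonpos_iff_eq_zero, Module.length_eq_zero_iff] at this
  exact Submodule.Quotient.subsingleton_iff.1 this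

/-- A module spanned by `n` elements has length at most `n` modulo a maximal ideal. -/
theorem length_quotient_le {S : Type*} [CommRing S] {L : Type*} [AddCommGroup L] [Module S L]
    (n : ℕ) (b : Fin n → L) (hb : Submodule.span S (Set.range b) = ⊤) (𝔫 : MaximalSpectrum S) :
    Module.length S (L ⧸ (𝔫.asIdeal • (⊤ : Submodule S L))) ≤ (n : ℕ∞) := by
  let f : (Fin n → S) →ₗ[S] L := Fintype.linearCombination S b
  have hf : Function.Surjective f := by
    rw [← LinearMap.range_eq_top, Fintype.range_linearCombination, hb]
  let q : (Fin n → S) →ₗ[S] (L ⧸ (𝔫.asIdeal • (⊤ : Submodule S L))) := (Submodule.mkQ _) ∘ₗ f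
  let P : Submodule S (Fin n → S) := Submodule.pi Set.univ (fun _ => 𝔫.asIdeal)
  have hP : P ≤ LinearMap.ker q := by
    intro c hc
    rw [LinearMap.mem_ker]
    change (Submodule.mkQ _) (f c) = 0
    rw [Submodule.mkQ_apply, Submodule.Quotient.mk_eq_zero]
    change Fintype.linearCombination S b c ∈ _
    rw [Fintype.linearCombination_apply]
    exact Submodule.sum_mem _ fun i _ => Submodule.smul_mem_smul (hc i trivial) trivial
  have hsurj : Function.Surjective (P.liftQ q hP) := by
    rw [← LinearMap.range_eq_top, Submodule.range_liftQ, LinearMap.range_eq_top]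
    exact (Submodule.mkQ_surjective _).comp hf
  refine (Module.length_le_of_surjective _ hsurj).trans ?_
  rw [(Submodule.quotientPi (fun _ : Fin n => (𝔫.asIdeal : Submodule S S))).length_eq, Module.length_pi]
  have h1 : Module.length S (S ⧸ 𝔫.asIdeal) = 1 := by
    rw [Module.length_eq_one_iff, isSimpleModule_iff_isCoatom, ← Ideal.isMaximal_def]
    exact 𝔫.isMaximal
  rw [h1, mul_one, ENat.card_eq_coe_fintype_card, Fintype.card_fin]

end K839.Gen
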