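import Groth.Agent.TFCurv.K839.PSRing

/-!
# Monomial subspaces of `k[[t]]`
-/

set_option autoImplicit false
set_option linter.unusedSectionVars false
universe u

open PowerSeries K839.Rl K839.PS K839.PSRing

namespace K839.Mono

variable (k : Type u) [Field k]

/-- Power series whose exponents lie in `S`. -/
def mono (S : Set ℕ) : Submodule k (PowerSeries k) where
  carrier := {f | ∀ n, coeff n f ≠ 0 → n ∈ S}
  add_mem' := fun {a b} ha hb n hn => by
    by_contra hS
    have h1 : coeff n a = 0 := by_contra fun h => hS (ha n h)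
    have h2 : coeff n b = 0 := by_contra fun h => hS (hb n h)
    exact hn (by rw [map_add, h1, h2, add_zero])
  zero_mem' := fun n hn => absurd (map_zero _) hn
  smul_mem' := fun c f hf n hn => by
    by_contra hS
    have h1 : coeff n f = 0 := by_contra fun h => hS (hf n h)
    exact hn (by rw [coeff_smul, h1, smul_zero])

variable {k}

theorem mem_mono {S : Set ℕ} {f : PowerSeries k} : f ∈ mono k S ↔ ∀ n, coeff n f ≠ 0 → n ∈ S := Iff.rfl

theorem mono_le {S T : Set ℕ} (h : S ⊆ T) : mono k S ≤ mono k T := fun _ hf n hn => h (hf n hn)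

theorem mul_mem_mono {S T U : Set ℕ} (h : ∀ a ∈ S, ∀ b ∈ T, a + b ∈ U) {f g : PowerSeries k}
    (hf : f ∈ mono k S) (hg : g ∈ mono k T) : f * g ∈ mono k U := by
  intro n hn
  rw [coeff_mul] at hn
  obtain ⟨⟨a, b⟩, hab, hne⟩ := Finset.exists_ne_zero_of_sum_ne_zero hn
  rw [Finset.mem_antidiagonal] at hab
  have h1 : coeff a f ≠ 0 := fun h0 => hne (by rw [h0, zero_mul])
  have h2 : coeff b g ≠ 0 := fun h0 => hne (by rw [h0, mul_zero])
  rw [← hab]
  exact h a (hf a h1) b (hg b h2)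

theorem X_pow_mem_mono {S : Set ℕ} {n : ℕ} (h : n ∈ S) : (X : PowerSeries k) ^ n ∈ mono k S := by
  intro m hm
  rw [coeff_X_pow] at hm
  split_ifs at hm with h1
  · rwa [h1]
  · exact absurd rfl hm

theorem X_pow_mul_mem_mono {S : Set ℕ} {m : ℕ} {f : PowerSeries k} :
    X ^ m * f ∈ mono k S ↔ f ∈ mono k {n | n + m ∈ S} := by
  constructor
  · intro h n hn
    apply h
    rwa [coeff_X_pow_mul]
  · intro h n hn
    rw [coeff_X_pow_mul'] at hn
    split_ifs at hn with h1
    · have h2 := h _ hn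
      change n - m + m ∈ S at h2
      rwa [Nat.sub_add_cancel h1] at h2
    · exact absurd rfl hn

theorem exists_X_pow_mul {S : Set ℕ} {m : ℕ} (h : ∀ n ∈ S, m ≤ n) {f : PowerSeries k} (hf : f ∈ mono k S) :
    ∃ g, f = X ^ m * g ∧ g ∈ mono k {n | n + m ∈ S} := by
  have h1 : X ^ m ∣ f := by
    rw [X_pow_dvd_iff]
    intro n hn
    by_contra h0
    exact absurd (h n (hf n h0)) (by omega)
  obtain ⟨g, rfl⟩ := h1
  exact ⟨g, rfl, X_pow_mul_mem_mono.1 hf⟩

open Classical in
/-- Splitting a monomial subspace. -/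
theorem exists_add {S T U : Set ℕ} (h : S ⊆ T ∪ U) {f : PowerSeries k} (hf : f ∈ mono k S) :
    ∃ a ∈ mono k T, ∃ b ∈ mono k U, f = a + b := by
  refine ⟨PowerSeries.mk fun n => if n ∈ T then coeff n f else 0, ?_,
    PowerSeries.mk fun n => if n ∈ T then 0 else coeff n f, ?_, ?_⟩
  · intro n hn
    rw [coeff_mk] at hn
    split_ifs at hn with h1
    · exact h1
    · exact absurd rfl hn
  · intro n hn
    rw [coeff_mk] at hn
    split_ifs at hn with h1
    · exact absurd rfl hn
    · exact (h (hf n hn)).resolve_left h1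
  · ext n
    rw [map_add, coeff_mk, coeff_mk]
    split_ifs <;> simp

theorem val_mono {S : Set ℕ} : val (mono k S) = S := by
  ext n
  constructor
  · rintro ⟨f, hf, hn⟩
    rw [order_eq_iff] at hn
    exact hf n hn.2
  · intro h
    exact ⟨X ^ n, X_pow_mem_mono h, order_X_pow n⟩

theorem F_le_mono {S : Set ℕ} {m : ℕ} (h : ∀ n, m ≤ n → n ∈ S) : F k m ≤ mono k S := by
  intro f hf n hn
  apply h
  by_contra hcon
  exact hn (le_order_iff.1 hf n (by omega))

theorem rl_mono {S T : Set ℕ} (hTS : T ⊆ S) {m : ℕ} (h : ∀ n, m ≤ n → n ∈ T) :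
    rl (mono k T) (mono k S) = (S \ T).encard := by
  have h1 := rl_add (F_le_mono (k := k) h) (mono_le (k := k) hTS)
  rw [rl_F (F_le_mono h), rl_F (F_le_mono fun n hn => hTS (h n hn)), val_mono, val_mono] at h1
  have h2 : S ∩ Set.Iio m = (T ∩ Set.Iio m) ∪ (S \ T) := by
    ext n
    simp only [Set.mem_inter_iff, Set.mem_Iio, Set.mem_union, Set.mem_diff]
    constructor
    · rintro ⟨h2, h3⟩
      by_cases h4 : n ∈ T
      · exact Or.inl ⟨h4, h3⟩
      · exact Or.inr ⟨h2, h4⟩
    · rintro (⟨h2, h3⟩ | ⟨h2, h3⟩)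
      · exact ⟨hTS h2, h3⟩
      · exact ⟨h2, by_contra fun h4 => h3 (h n (by omega))⟩
  rw [h2, Set.encard_union_eq] at h1
  · have hfin : (T ∩ Set.Iio m).encard ≠ ⊤ := by
      rw [Set.encard_ne_top_iff]
      exact (Set.finite_Iio m).subset Set.inter_subset_right
    exact ((ENat.add_right_injective_of_ne_top hfin) h1).symm
  · rw [Set.disjoint_left]
    rintro n ⟨h3, _⟩ ⟨_, h4⟩
    exact h4 h3

section alg

variable {A : Subalgebra k (PowerSeries k)} {Γ : Set ℕ} (hA : ∀ f ∈ A, f ∈ mono k Γ)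

/-- The `A`-submodule of power series with exponents in a `Γ`-module. -/
def monoA (S : Set ℕ) (hS : ∀ a ∈ Γ, ∀ b ∈ S, a + b ∈ S) : Submodule A (PowerSeries k) where
  carrier := mono k S
  add_mem' := (mono k S).add_mem
  zero_mem' := (mono k S).zero_mem
  smul_mem' := fun a f hf => mul_mem_mono hS (hA a a.2) hf

theorem mem_monoA {S : Set ℕ} {hS : ∀ a ∈ Γ, ∀ b ∈ S, a + b ∈ S} {f : PowerSeries k} :
    f ∈ monoA hA S hS ↔ f ∈ mono k S := Iff.rfl

theorem monoA_restrict {S : Set ℕ} {hS : ∀ a ∈ Γ, ∀ b ∈ S, a + b ∈ S} :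
    (monoA hA S hS).restrictScalars k = mono k S := rfl

end alg

end K839.Mono
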