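import Groth.Agent.TFCurv.K839.Gen
import Mathlib.RingTheory.DedekindDomain.PID
import Mathlib.RingTheory.DedekindDomain.IntegralClosure
import Mathlib.RingTheory.QuasiFinite.Basic
import Mathlib.LinearAlgebra.Span.TensorProduct
import Mathlib.RingTheory.KrullDimension.Basic
import Mathlib.RingTheory.IntegralClosure.IsIntegralClosure.Basic
import Mathlib.RingTheory.Localization.FractionRing
import Mathlib.LinearAlgebra.FreeModule.PID
import Mathlib.LinearAlgebra.Dimension.OrzechProperty
import Mathlib.RingTheory.Flat.Localization

/-!
# Lattices over a one-dimensional local domain with finite normalization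

`O` is a Noetherian local domain of dimension at most one with infinite residue field, `K` its fraction field, and the
integral closure `S` of `O` in `K` is finite over `O`.  A finitely generated `O`-submodule `M` of a `K`-vector space
`V` of dimension `n`, spanning `V`, contains a `K`-basis `b` of `V` such that `M ⊆ ⊕ S b_i`.
-/

set_option autoImplicit false

namespace K839.Norm

open IsLocalRing

section

variable {O K : Type*} [CommRing O] [IsDomain O] [IsNoetherianRing O] [Field K] [Algebra O K]
  [IsFractionRing O K]

theorem isFractionRing (O K : Type*) [CommRing O] [IsDomain O] [Field K] [Algebra O K]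
    [IsFractionRing O K] : IsFractionRing (integralClosure O K) K :=
  IsIntegralClosure.isFractionRing_of_finite_extension O K K (integralClosure O K)

theorem isDedekindDomain (h1 : ringKrullDim O ≤ 1) (hfin : Module.Finite O (integralClosure O K)) :
    IsDedekindDomain (integralClosure O K) := by
  have hk : Ring.KrullDimLE 1 O := by
    rw [Ring.krullDimLE_iff]
    exact_mod_cast h1
  have hd : Ring.DimensionLEOne O := ⟨fun {p} hp hp' =>
    Ring.krullDimLE_one_iff_of_noZeroDivisors.mp hk p hp hp'⟩
  have hN : IsNoetherianRing (integralClosure O K) := IsNoetherianRing.of_finite O _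
  have : IsFractionRing (integralClosure O K) K := isFractionRing O K
  have hic : IsIntegrallyClosed (integralClosure O K) :=
    integralClosure.isIntegrallyClosedOfFiniteExtension K
  exact { hN, hic, (inferInstance : Ring.DimensionLEOne (integralClosure O K)) with }

omit [IsDomain O] [IsNoetherianRing O] [IsFractionRing O K] in
theorem finite_maximals [IsLocalRing O] (hfin : Module.Finite O (integralClosure O K)) :
    {I : Ideal (integralClosure O K) | I.IsMaximal}.Finite := by
  refine (Algebra.QuasiFinite.finite_primesOver (R := O) (S := integralClosure O K)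
    (maximalIdeal O)).subset ?_
  intro I hI
  have hI' : I.IsMaximal := hI
  have h1 : (I.comap (algebraMap O (integralClosure O K))).IsMaximal :=
    Ideal.isMaximal_comap_of_isIntegral_of_isMaximal I
  exact ⟨hI'.isPrime, ⟨(IsLocalRing.eq_maximalIdeal h1).symm⟩⟩

omit [IsDomain O] [IsNoetherianRing O] [IsFractionRing O K] in
theorem finite_maximalSpectrum [IsLocalRing O] (hfin : Module.Finite O (integralClosure O K)) :
    Finite (MaximalSpectrum (integralClosure O K)) := by
  have := (finite_maximals hfin).to_subtype
  exact Finite.of_injective
    (fun 𝔫 : MaximalSpectrum (integralClosure O K) =>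
      (⟨𝔫.asIdeal, 𝔫.isMaximal⟩ : {I : Ideal (integralClosure O K) | I.IsMaximal}))
    (fun a b h => MaximalSpectrum.ext (congrArg Subtype.val h))

theorem isPrincipalIdealRing [IsLocalRing O] (h1 : ringKrullDim O ≤ 1)
    (hfin : Module.Finite O (integralClosure O K)) :
    IsPrincipalIdealRing (integralClosure O K) := by
  have := isDedekindDomain h1 hfin
  exact IsPrincipalIdealRing.of_finite_maximals (finite_maximals hfin)

variable [IsLocalRing O] [Infinite (ResidueField O)]

theorem exists_basis (h1 : ringKrullDim O ≤ 1) (hfin : Module.Finite O (integralClosure O K))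
    {V : Type*} [AddCommGroup V] [Module K V] [Module O V] [IsScalarTower O K V]
    (M : Submodule O V) (hM : M.FG) (hspan : Submodule.span K (M : Set V) = ⊤) (n : ℕ)
    (hn : Module.finrank K V = n) :
    ∃ b : Module.Basis (Fin n) K V, (∀ i, b i ∈ M) ∧ ∀ m ∈ M, ∀ i, b.repr m i ∈ integralClosure O K := by
  let S := integralClosure O K
  have : IsPrincipalIdealRing S := isPrincipalIdealRing h1 hfin
  have : Finite (MaximalSpectrum S) := finite_maximalSpectrum hfin
  have : IsFractionRing S K := isFractionRing O K
  have : IsScalarTower O S V := inferInstance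
  have : IsScalarTower S K V := inferInstance
  have : Module.Finite K V := ⟨by
    obtain ⟨s, hs⟩ := hM
    refine ⟨s, ?_⟩
    rw [← Submodule.span_span_of_tower O K, hs, hspan]⟩
  let L : Submodule S V := Submodule.span S (M : Set V)
  have hLfg : Module.Finite S L := by
    rw [Module.Finite.iff_fg]
    obtain ⟨s, hs⟩ := hM
    refine ⟨s, ?_⟩
    rw [← Submodule.span_span_of_tower O S, hs]
  have : Module.IsTorsionFree S V := Module.IsTorsionFree.trans_faithfulSMul S K V
  have : Module.Flat S K := IsLocalization.flat K (nonZeroDivisors S)
  have : Module.IsTorsionFree S L := inferInstance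
  have hLfree : Module.Free S L := inferInstance
  have hrank : Module.finrank S L = n := by
    rw [← hn, ← finrank_top K V, ← hspan, ← Submodule.span_span_of_tower S K (M : Set V)]
    exact (Submodule.finrank_span_eq_finrank (A := K) L).symm
  let M' : Submodule O L := M.comap (L.subtype.restrictScalars O)
  have hM' : Submodule.span S (M' : Set L) = ⊤ := by
    rw [eq_top_iff]
    apply Submodule.map_le_map_iff_of_injective L.injective_subtype _ _ |>.1
    rw [Submodule.map_top, Submodule.range_subtype, Submodule.map_span]
    apply Submodule.span_le.2
    intro m hm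
    exact Submodule.subset_span ⟨⟨m, Submodule.subset_span hm⟩, hm, rfl⟩
  let c : Module.Basis (Fin n) S L := Module.finBasisOfFinrankEq S L hrank
  obtain ⟨p, hpM, hp⟩ := Gen.exists_generators M' hM' n
    (fun 𝔫 => Gen.length_quotient_le n c c.span_eq 𝔫)
  have hpL : Submodule.span S (Set.range (fun i => (p i : V))) = L := by
    have := congrArg (Submodule.map L.subtype) hp
    rw [Submodule.map_span, Submodule.map_top, Submodule.range_subtype, ← Set.range_comp] at this
    exact this
  have hpV : ⊤ ≤ Submodule.span K (Set.range (fun i => (p i : V))) := by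
    rw [← hspan, Submodule.span_le]
    intro m hm
    have h2 : m ∈ L := Submodule.subset_span hm
    rw [← hpL] at h2
    rw [← Submodule.span_span_of_tower S K]
    exact Submodule.subset_span h2
  have hli : LinearIndependent K (fun i => (p i : V)) :=
    linearIndependent_of_top_le_span_of_card_eq_finrank hpV (by simp [hn])
  let b : Module.Basis (Fin n) K V := Module.Basis.mk hli hpV
  have hb : ∀ i, b i = (p i : V) := fun i => by simp [b]
  refine ⟨b, fun i => ?_, fun m hm i => ?_⟩
  · rw [hb]; exact hpM i
  · have h2 : m ∈ L := Submodule.subset_span hm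
    rw [← hpL] at h2
    obtain ⟨a, ha⟩ := (Submodule.mem_span_range_iff_exists_fun S).1 h2
    have h3 : m = ∑ i, (a i : K) • b i := by
      rw [← ha]
      refine Finset.sum_congr rfl fun i _ => ?_
      rw [hb]
      rfl
    rw [h3, b.repr_sum_self]
    exact (a i).2

end

end K839.Norm
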