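import Groth.Agent.TFCurv.K839.PS
import Mathlib.RingTheory.LocalRing.Length
import Mathlib.RingTheory.KrullDimension.LocalRing
import Mathlib.FieldTheory.IsAlgClosed.Basic
import Mathlib.RingTheory.Localization.FractionRing
import Mathlib.RingTheory.IntegralClosure.IsIntegralClosure.Basic
import Mathlib.RingTheory.IntegralClosure.IntegrallyClosed
import Mathlib.RingTheory.DiscreteValuationRing.Basic

/-!
# Subrings `A` of `k[[t]]` containing `t^c k[[t]]`
-/

set_option autoImplicit false
set_option linter.unusedSectionVars false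
universe u

open PowerSeries K839.Rl K839.PS IsLocalRing

namespace K839.PSRing

section gen

variable {k R : Type*} [Field k] [CommRing R] [IsLocalRing R] [Algebra k R]

/-- The length over a local `k`-algebra with residue field `k` is the dimension over `k`. -/
theorem length_eq_gen (h : Function.Surjective ((residue R).comp (algebraMap k R)))
    (M : Type*) [AddCommGroup M] [Module k M] [Module R M]
    [IsScalarTower k R M] : Module.length R M = Module.length k M := by
  have hloc : IsLocalHom (algebraMap k R) := inferInstance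
  rw [IsLocalRing.length_restrictScalars k R M]
  have h1 : Function.Surjective (algebraMap (ResidueField k) (ResidueField R)) := by
    intro x
    obtain ⟨a, rfl⟩ := h x
    exact ⟨residue k a, rfl⟩
  rw [Module.length_eq_of_surjective (S := ResidueField k) (R := ResidueField R) (M := ResidueField R) h1,
    Module.length_eq_finrank, Module.finrank_self, Nat.cast_one, mul_one]

/-- Relative lengths over `R` and over `k`. -/
theorem rl_restrict_gen (h : Function.Surjective ((residue R).comp (algebraMap k R)))
    {V : Type*} [AddCommGroup V] [Module k V] [Module R V]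
    [IsScalarTower k R V] (N M : Submodule R V) :
    rl N M = rl (N.restrictScalars k) (M.restrictScalars k) :=
  length_eq_gen h (↥M ⧸ Submodule.comap M.subtype N)

end gen

variable {k : Type u} [Field k] {A : Subalgebra k (PowerSeries k)}

theorem isLocalRing (hA : Module.Finite ↥A (PowerSeries k)) : IsLocalRing A := by
  have : FaithfulSMul A (PowerSeries k) := (faithfulSMul_iff_algebraMap_injective _ _).2 Subtype.val_injective
  exact RingHom.domain_isLocalRing (algebraMap A (PowerSeries k))

theorem isUnit_iff (hA : Module.Finite ↥A (PowerSeries k)) (a : A) :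
    IsUnit a ↔ constantCoeff (a : PowerSeries k) ≠ 0 := by
  have : FaithfulSMul A (PowerSeries k) := (faithfulSMul_iff_algebraMap_injective _ _).2 Subtype.val_injective
  have h1 : IsUnit (algebraMap A (PowerSeries k) a) ↔ IsUnit a := isUnit_map_iff _ _
  rw [← h1, isUnit_iff_constantCoeff, isUnit_iff_ne_zero]
  rfl

theorem mem_maximalIdeal (hA : Module.Finite ↥A (PowerSeries k)) [IsLocalRing A] (a : A) :
    a ∈ maximalIdeal A ↔ (1 : ℕ∞) ≤ order (a : PowerSeries k) := by
  rw [IsLocalRing.mem_maximalIdeal, mem_nonunits_iff, isUnit_iff hA, not_not]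
  exact (one_le_order_iff_constCoeff_eq_zero (φ := (a : PowerSeries k))).symm

/-- The `A`-submodule of power series of order at least `m`. -/
def FA (A : Subalgebra k (PowerSeries k)) (m : ℕ) : Submodule A (PowerSeries k) where
  carrier := {f | (m : ℕ∞) ≤ order f}
  add_mem' := fun {_ _} ha hb => (F k m).add_mem ha hb
  zero_mem' := (F k m).zero_mem
  smul_mem' := fun c x hx => by
    change (m : ℕ∞) ≤ order ((c : PowerSeries k) * x)
    rw [order_mul]
    exact le_trans hx le_add_self

theorem FA_fg (hA : Module.Finite ↥A (PowerSeries k)) (m : ℕ) : (FA A m).FG := by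
  let f : PowerSeries k →ₗ[A] PowerSeries k := LinearMap.mulLeft A (X ^ m)
  have h1 : FA A m = LinearMap.range f := by
    ext g
    constructor
    · intro hg
      obtain ⟨q, hq⟩ := (mem_F_iff_exists_mul (order_X_pow (R := k) m)).1 hg
      exact ⟨q, by rw [hq, mul_comm]; rfl⟩
    · rintro ⟨q, rfl⟩
      exact (mem_F_iff_exists_mul (order_X_pow (R := k) m)).2 ⟨q, mul_comm _ _⟩
  rw [h1, LinearMap.range_eq_map]
  exact Submodule.FG.map _ Module.Finite.fg_top

theorem finite_quot_F (m : ℕ) : Module.Finite k (PowerSeries k ⧸ F k m) := by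
  have h1 := rl_F (W := (⊤ : Submodule k (PowerSeries k))) (m := m) le_top
  rw [rl_top, val_top, Set.univ_inter] at h1
  have h2 : Module.length k (PowerSeries k ⧸ F k m) ≠ ⊤ := by
    rw [h1, Set.encard_ne_top_iff]
    exact Set.finite_Iio m
  rw [Module.length_ne_top_iff, isFiniteLength_iff_isNoetherian_isArtinian] at h2
  have := h2.1
  infer_instance

theorem isNoetherian (hA : Module.Finite ↥A (PowerSeries k)) {c : ℕ}
    (hc : F k c ≤ Subalgebra.toSubmodule A) : IsNoetherian A (PowerSeries k) := by
  refine ⟨fun N => ?_⟩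
  by_cases hN : N = ⊥
  · rw [hN]; exact Submodule.fg_bot
  obtain ⟨f, hf, hf0⟩ := Submodule.exists_mem_ne_zero_of_ne_bot hN
  obtain ⟨m, hm⟩ : ∃ m : ℕ, order f = m := ⟨_, (coe_toNat_order hf0).symm⟩
  have hle : FA A (m + c) ≤ N := by
    intro g hg
    have hg' : ((m + c : ℕ) : ℕ∞) ≤ order g := hg
    obtain ⟨q, rfl⟩ := (mem_F_iff_exists_mul hm).1 (F_anti (Nat.le_add_right m c) hg)
    have h1 : (c : ℕ∞) ≤ order q := by
      rw [order_mul, hm] at hg'
      push_cast at hg'
      rw [add_comm] at hg'
      exact (ENat.add_le_add_iff_right (ENat.natCast_ne_top m)).1 hg'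
    exact N.smul_mem (⟨q, hc h1⟩ : A) hf
  refine Submodule.fg_of_fg_map_of_fg_inf_ker (FA A (m + c)).mkQ ?_ ?_
  · have h2 : Module.Finite k (PowerSeries k ⧸ FA A (m + c)) := finite_quot_F (m + c)
    have h3 : ((N.map (FA A (m + c)).mkQ).restrictScalars k).FG := IsNoetherian.noetherian _
    exact Submodule.FG.of_restrictScalars k h3
  · rw [Submodule.ker_mkQ, inf_eq_right.2 hle]
    exact FA_fg hA _

theorem isNoetherianRing (hA : Module.Finite ↥A (PowerSeries k)) {c : ℕ}
    (hc : F k c ≤ Subalgebra.toSubmodule A) : IsNoetherianRing A := by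
  have := isNoetherian hA hc
  have h : Function.Injective (Algebra.linearMap A (PowerSeries k)) := Subtype.val_injective
  exact isNoetherian_of_injective _ h

theorem X_pow_mem {c : ℕ} (hc : F k c ≤ Subalgebra.toSubmodule A) {n : ℕ} (hn : c ≤ n) :
    (X ^ n : PowerSeries k) ∈ A := by
  apply hc
  rw [mem_F, order_X_pow]
  exact_mod_cast hn

theorem ringKrullDim_eq_one (hA : Module.Finite ↥A (PowerSeries k)) {c : ℕ}
    (hc : F k c ≤ Subalgebra.toSubmodule A) : ringKrullDim A = 1 := by
  have hloc := isLocalRing hA
  rw [ringKrullDim_eq_one_iff_of_isLocalRing_isDomain]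
  constructor
  · intro hf
    let x : A := ⟨X ^ (c + 1), X_pow_mem hc (Nat.le_succ c)⟩
    have hx : x ≠ 0 := fun h => pow_ne_zero (c + 1) (X_ne_zero (R := k)) (congrArg Subtype.val h)
    have hu : IsUnit x := by
      obtain ⟨y, hy⟩ := hf.mul_inv_cancel hx
      exact IsUnit.of_mul_eq_one _ hy
    rw [isUnit_iff hA] at hu
    apply hu
    change constantCoeff (X ^ (c + 1)) = 0
    rw [map_pow, constantCoeff_X, zero_pow (Nat.succ_ne_zero c)]
  · intro x hx y hy
    have hx' : (x : PowerSeries k) ≠ 0 := fun h => hx (Subtype.ext h)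
    obtain ⟨m, hm⟩ : ∃ m : ℕ, order (x : PowerSeries k) = m := ⟨_, (coe_toNat_order hx').symm⟩
    refine ⟨m + c, ?_⟩
    rw [mem_maximalIdeal hA] at hy
    have h1 : ((m + c : ℕ) : ℕ∞) ≤ order ((y : PowerSeries k) ^ (m + c)) := by
      rw [order_pow, nsmul_eq_mul]
      calc ((m + c : ℕ) : ℕ∞) = ((m + c : ℕ) : ℕ∞) * 1 := (mul_one _).symm
        _ ≤ _ := mul_le_mul_right hy _
    obtain ⟨q, hq⟩ := (mem_F_iff_exists_mul hm).1 (F_anti (Nat.le_add_right m c) h1)
    rw [hq] at h1
    have h2 : (c : ℕ∞) ≤ order q := by
      rw [order_mul, hm] at h1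
      push_cast at h1
      rw [add_comm] at h1
      exact (ENat.add_le_add_iff_right (ENat.natCast_ne_top m)).1 h1
    rw [Ideal.mem_span_singleton']
    exact ⟨⟨q, hc h2⟩, Subtype.ext hq.symm⟩

theorem residue_surjective' (hA : Module.Finite ↥A (PowerSeries k)) [IsLocalRing A] :
    Function.Surjective ((residue A).comp (algebraMap k A)) := by
  intro x
  obtain ⟨a, rfl⟩ := IsLocalRing.residue_surjective x
  refine ⟨constantCoeff (a : PowerSeries k), ?_⟩
  rw [RingHom.comp_apply, ← sub_eq_zero, ← map_sub, IsLocalRing.residue_eq_zero_iff, mem_maximalIdeal hA,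
    one_le_order_iff_constCoeff_eq_zero]
  change constantCoeff (algebraMap k (PowerSeries k) (constantCoeff (a : PowerSeries k)) - (a : PowerSeries k)) = 0
  rw [map_sub]
  change constantCoeff (C (constantCoeff (a : PowerSeries k))) - _ = 0
  rw [constantCoeff_C, sub_self]

theorem isAlgClosed_residueField (hA : Module.Finite ↥A (PowerSeries k)) [IsLocalRing A] [IsAlgClosed k] :
    IsAlgClosed (ResidueField A) :=
  IsAlgClosed.of_ringEquiv k (ResidueField A) (RingEquiv.ofBijective ((residue A).comp (algebraMap k A))
    ⟨RingHom.injective _, residue_surjective' hA⟩)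

/-- The length over `A` is the dimension over `k`. -/
theorem length_eq (hA : Module.Finite ↥A (PowerSeries k)) (M : Type*) [AddCommGroup M] [Module k M] [Module A M]
    [IsScalarTower k A M] : Module.length A M = Module.length k M := by
  have := isLocalRing hA
  exact length_eq_gen (residue_surjective' hA) M

/-- The fraction field. -/
abbrev KK (k : Type u) [Field k] : Type u := FractionRing (PowerSeries k)

theorem isFractionRing {c : ℕ} (hc : F k c ≤ Subalgebra.toSubmodule A) : IsFractionRing A (KK k) := by
  have hinj : Function.Injective (algebraMap A (KK k)) :=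
    (IsFractionRing.injective (PowerSeries k) (KK k)).comp Subtype.val_injective
  refine { map_units := ?_, surj := ?_, exists_of_eq := ?_ }
  · intro y
    rw [isUnit_iff_ne_zero]
    intro h
    exact nonZeroDivisors.ne_zero y.2 (hinj (by rw [h, map_zero]))
  · intro z
    obtain ⟨f, g, hg, rfl⟩ := IsFractionRing.div_surjective (A := PowerSeries k) z
    have hg0 : g ≠ 0 := nonZeroDivisors.ne_zero hg
    have hmem : ∀ f : PowerSeries k, X ^ c * f ∈ A := fun f => by
      apply hc
      rw [mem_F, order_mul, order_X_pow]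
      exact le_self_add
    have hne : (⟨X ^ c * g, hmem g⟩ : A) ≠ 0 := fun h =>
      mul_ne_zero (pow_ne_zero c (X_ne_zero (R := k))) hg0 (congrArg Subtype.val h)
    refine ⟨(⟨X ^ c * f, hmem f⟩, ⟨⟨X ^ c * g, hmem g⟩, mem_nonZeroDivisors_of_ne_zero hne⟩), ?_⟩
    have hg' : algebraMap (PowerSeries k) (KK k) g ≠ 0 := by
      rwa [Ne, FaithfulSMul.algebraMap_eq_zero_iff]
    change algebraMap (PowerSeries k) (KK k) f / algebraMap (PowerSeries k) (KK k) g *
      algebraMap (PowerSeries k) (KK k) (X ^ c * g) = algebraMap (PowerSeries k) (KK k) (X ^ c * f)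
    rw [map_mul, map_mul]
    field_simp
  · intro x y h
    exact ⟨1, by rw [hinj h]⟩

theorem mem_integralClosure (hA : Module.Finite ↥A (PowerSeries k)) (x : KK k) :
    x ∈ integralClosure A (KK k) ↔ ∃ f, algebraMap (PowerSeries k) (KK k) f = x := by
  constructor
  · intro hx
    have h1 : IsIntegral A x := hx
    have h2 : IsIntegral (PowerSeries k) x := h1.tower_top
    exact IsIntegrallyClosed.isIntegral_iff.1 h2
  · rintro ⟨f, rfl⟩
    have h1 : IsIntegral A f := Algebra.IsIntegral.isIntegral f
    exact h1.map (IsScalarTower.toAlgHom A (PowerSeries k) (KK k))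

/-- The inclusion of `k[[t]]` in its fraction field, as an `A`-linear map. -/
noncomputable def incl (A : Subalgebra k (PowerSeries k)) : PowerSeries k →ₗ[A] KK k :=
  (IsScalarTower.toAlgHom A (PowerSeries k) (KK k)).toLinearMap

theorem incl_injective : Function.Injective (incl A) := IsFractionRing.injective (PowerSeries k) (KK k)

theorem incl_apply (f : PowerSeries k) : incl A f = algebraMap (PowerSeries k) (KK k) f := rfl

theorem range_incl (hA : Module.Finite ↥A (PowerSeries k)) :
    LinearMap.range (incl A) = Subalgebra.toSubmodule (integralClosure A (KK k)) := by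
  ext x
  rw [Subalgebra.mem_toSubmodule, mem_integralClosure hA]
  rfl

theorem map_one_incl : (1 : Submodule A (PowerSeries k)).map (incl A) = 1 := by
  ext x
  constructor
  · rintro ⟨y, hy, rfl⟩
    obtain ⟨a, rfl⟩ := Submodule.mem_one.1 hy
    exact Submodule.mem_one.2 ⟨a, rfl⟩
  · intro hx
    obtain ⟨a, rfl⟩ := Submodule.mem_one.1 hx
    exact ⟨a, Submodule.mem_one.2 ⟨a, rfl⟩, rfl⟩

theorem finite_integralClosure (hA : Module.Finite ↥A (PowerSeries k)) :
    Module.Finite A (integralClosure A (KK k)) := by
  have h1 : (LinearMap.range (incl A)).FG := by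
    rw [LinearMap.range_eq_map]
    exact Submodule.FG.map _ Module.Finite.fg_top
  rw [range_incl hA] at h1
  exact Module.Finite.iff_fg.2 h1

theorem rl_restrict (hA : Module.Finite ↥A (PowerSeries k)) (N M : Submodule A (PowerSeries k)) :
    rl N M = rl (N.restrictScalars k) (M.restrictScalars k) := by
  have := isLocalRing hA
  exact rl_restrict_gen (residue_surjective' hA) N M

end K839.PSRing
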