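import Groth.Agent.CycB.MSky
import Groth.Agent.Ega3B.DevQC

/-!
# Subsheaves of a coherent sheaf with prescribed stalks at finitely many closed points
-/

set_option autoImplicit false
set_option linter.unusedSectionVars false
universe u
open CategoryTheory CategoryTheory.Limits AlgebraicGeometry TopologicalSpace

namespace K839.SubStalk

open Groth.Agent.CycB.MSky Groth.Agent.CycB.StalkExact

variable {X : Scheme.{u}} (M : X.Modules) {I : Type u} (pt : I → X)
  (N : ∀ i, Submodule (X.presheaf.stalk (pt i)) (M.presheaf.stalk (pt i)))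

/-- The morphism to the multi-skyscraper of the quotients. -/
noncomputable def toQ : M ⟶ msky pt (fun i => M.presheaf.stalk (pt i) ⧸ N i) :=
  toMSky (fun i => (N i).mkQ)

/-- The subsheaf with stalks `N i` at `pt i`. -/
noncomputable def sub : X.Modules := kernel (toQ M pt N)

/-- The inclusion. -/
noncomputable def ι : sub M pt N ⟶ M := kernel.ι (toQ M pt N)

instance : Mono (ι M pt N) := inferInstanceAs (Mono (kernel.ι (toQ M pt N)))

theorem ι_toQ : ι M pt N ≫ toQ M pt N = 0 := kernel.condition _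

theorem exact_stalk (y : X) : Function.Exact (stalkLin (ι M pt N) y) (stalkLin (toQ M pt N) y) :=
  stalkLin_exact (ShortComplex.mk (ι M pt N) (toQ M pt N) (ι_toQ M pt N))
    (ShortComplex.exact_of_f_is_kernel _ (kernelIsKernel (toQ M pt N))) y

theorem stalk_injective (y : X) : Function.Injective (stalkLin (ι M pt N) y) :=
  stalkLin_injective _ y

/-- Lifting a morphism to the subsheaf. -/
theorem exists_lift {P : X.Modules} (f : P ⟶ M) (hf : ∀ i (t : P.presheaf.stalk (pt i)), stalkLin f (pt i) t ∈ N i) :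
    ∃ g : P ⟶ sub M pt N, g ≫ ι M pt N = f := by
  refine ⟨kernel.lift (toQ M pt N) f ?_, kernel.lift_ι _ _ _⟩
  apply Scheme.Modules.hom_ext
  intro U
  ext s
  refine (funext fun i => funext fun h => ?_ :
    (_ : Sec pt (fun i => M.presheaf.stalk (pt i) ⧸ N i) U) = _)
  change (N i).mkQ (M.presheaf.germ U (pt i) h.down (f.app U s)) = 0
  rw [← stalkLin_germ, Submodule.mkQ_apply, Submodule.Quotient.mk_eq_zero]
  exact hf i _

variable [Finite I] (hpt : Function.Injective pt) (hcl : ∀ i, IsClosed ({pt i} : Set X))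

include hpt hcl in
theorem exists_open (i : I) : ∃ U : X.Opens, pt i ∈ U ∧ ∀ j, pt j ∈ U → j = i := by
  have h1 : IsClosed (⋃ j : {j : I // j ≠ i}, ({pt j.1} : Set X)) :=
    isClosed_iUnion_of_finite fun j => hcl j.1
  refine ⟨⟨_, h1.isOpen_compl⟩, ?_, ?_⟩
  · intro h
    obtain ⟨⟨j, hj⟩, hji⟩ := Set.mem_iUnion.1 h
    exact hj (hpt (Set.mem_singleton_iff.1 hji).symm)
  · intro j hj
    by_contra hne
    exact hj (Set.mem_iUnion.2 ⟨⟨j, hne⟩, rfl⟩)

include hcl in
theorem exists_open' (y : X) (hy : ∀ i, pt i ≠ y) : ∃ U : X.Opens, y ∈ U ∧ ∀ j, pt j ∉ U := by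
  have h1 : IsClosed (⋃ j : I, ({pt j} : Set X)) := isClosed_iUnion_of_finite fun j => hcl j
  refine ⟨⟨_, h1.isOpen_compl⟩, ?_, ?_⟩
  · intro h
    obtain ⟨j, hji⟩ := Set.mem_iUnion.1 h
    exact hy j (Set.mem_singleton_iff.1 hji).symm
  · intro j hj
    exact hj (Set.mem_iUnion.2 ⟨j, rfl⟩)

include hpt hcl in
theorem range_stalk (i : I) : LinearMap.range (stalkLin (ι M pt N) (pt i)) = N i := by
  obtain ⟨U, hi, hU⟩ := exists_open pt hpt hcl i
  have h1 := evSt_injective (pt := pt) (Q := fun i => M.presheaf.stalk (pt i) ⧸ N i) i U hi hU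
  have h2 := evSt_stalkLin_toMSky (pt := pt) (fun i => (N i).mkQ) i
  ext m
  rw [LinearMap.mem_range]
  constructor
  · rintro ⟨t, rfl⟩
    have h3 := (exact_stalk M pt N (pt i)).apply_apply_eq_zero t
    have h4 := congrArg (fun g => g (stalkLin (ι M pt N) (pt i) t)) h2
    simp only [LinearMap.comp_apply] at h4
    rw [← Submodule.Quotient.mk_eq_zero, ← Submodule.mkQ_apply, ← h4]
    change evSt pt _ i (stalkLin (toQ M pt N) (pt i) _) = 0
    rw [h3, map_zero]
  · intro hm
    apply (exact_stalk M pt N (pt i) m).1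
    apply h1
    have h4 := congrArg (fun g => g m) h2
    simp only [LinearMap.comp_apply] at h4
    change evSt pt _ i (stalkLin (toMSky (fun i => (N i).mkQ)) (pt i) m) = _
    rw [h4, map_zero, Submodule.mkQ_apply, Submodule.Quotient.mk_eq_zero]
    exact hm

include hcl in
theorem stalk_surjective (y : X) (hy : ∀ i, pt i ≠ y) : Function.Surjective (stalkLin (ι M pt N) y) := by
  obtain ⟨U, hyU, hU⟩ := exists_open' pt hcl y hy
  have h1 := Groth.Agent.CycB.MSky.stalk_subsingleton (pt := pt) (Q := fun i => M.presheaf.stalk (pt i) ⧸ N i) y U hyU hU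
  intro m
  exact (exact_stalk M pt N y m).1 (Subsingleton.elim _ _)

theorem isCoh [IsLocallyNoetherian X] (hM : Coh.IsCoh M)
    (htor : ∀ i, ∀ m : M.presheaf.stalk (pt i), ∀ a ∈ IsLocalRing.maximalIdeal (X.presheaf.stalk (pt i)),
      ∃ n : ℕ, a ^ n • m ∈ N i) : Coh.IsCoh (sub M pt N) := by
  refine Groth.Agent.Ega3B.DevQC.isCoh_kernel _ hM ?_
  refine isQCoh_msky (fun x => ⟨⊤, trivial, Set.toFinite _⟩) ?_
  intro i q a ha
  obtain ⟨m, rfl⟩ := Submodule.Quotient.mk_surjective _ q
  obtain ⟨n, hn⟩ := htor i m a ha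
  refine ⟨n, ?_⟩
  rw [← Submodule.Quotient.mk_smul, Submodule.Quotient.mk_eq_zero]
  exact hn

end K839.SubStalk
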