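import Groth.Agent.CycA.DerShift
import Mathlib.CategoryTheory.Monoidal.Tor
import Mathlib.Algebra.Category.ModuleCat.Monoidal.Closed
import Mathlib.Algebra.Category.ModuleCat.Projective
import Mathlib.Algebra.Category.ModuleCat.Abelian
import Mathlib.Algebra.Category.ModuleCat.Kernels
import Mathlib.Algebra.Category.ModuleCat.EpiMono
import Mathlib.Algebra.Homology.ShortComplex.ModuleCat
import Mathlib.RingTheory.Flat.Basic

/-!
# `Tor₁` as a kernel
-/

set_option autoImplicit false
universe u

open CategoryTheory CategoryTheory.Limits MonoidalCategory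

namespace K839.TorOne

variable {R : Type u} [CommRing R]

/-- The short complex of an injection and its quotient. -/
def sc {A P : Type u} [AddCommGroup A] [Module R A] [AddCommGroup P] [Module R P] (i : A →ₗ[R] P) :
    ShortComplex (ModuleCat.{u} R) :=
  ShortComplex.mk (ModuleCat.ofHom i) (ModuleCat.ofHom (LinearMap.range i).mkQ) (by
    ext x
    change (LinearMap.range i).mkQ (i x) = 0
    rw [Submodule.mkQ_apply, Submodule.Quotient.mk_eq_zero]
    exact ⟨x, rfl⟩)

theorem sc_shortExact {A P : Type u} [AddCommGroup A] [Module R A] [AddCommGroup P] [Module R P]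
    (i : A →ₗ[R] P) (hi : Function.Injective i) : (sc i).ShortExact where
  exact := by
    rw [ShortComplex.moduleCat_exact_iff]
    intro x hx
    exact (Submodule.Quotient.mk_eq_zero (LinearMap.range i)).1 hx
  mono_f := (ModuleCat.mono_iff_injective _).2 hi
  epi_g := (ModuleCat.epi_iff_surjective _).2 (Submodule.mkQ_surjective _)

noncomputable def torOneIso (S : Type u) [AddCommGroup S] [Module R S]
    {A P : Type u} [AddCommGroup A] [Module R A] [AddCommGroup P] [Module R P] [Module.Projective R P]
    (i : A →ₗ[R] P) (hi : Function.Injective i) :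
    ((Tor (ModuleCat.{u} R) 1).obj (ModuleCat.of R S)).obj (ModuleCat.of R (P ⧸ LinearMap.range i)) ≅
      kernel (ModuleCat.ofHom (i.lTensor S)) :=
  haveI : Projective (sc i).X₂ := inferInstanceAs (Projective (ModuleCat.of R P))
  haveI : PreservesFiniteColimits ((tensoringLeft (ModuleCat.{u} R)).obj (ModuleCat.of R S)) :=
    inferInstanceAs (PreservesFiniteColimits (tensorLeft (ModuleCat.of R S)))
  Groth.Agent.CycA.DerShift.shiftOneIso ((tensoringLeft (ModuleCat.{u} R)).obj (ModuleCat.of R S))
    (sc_shortExact i hi)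

noncomputable def torOneEquiv (S : Type u) [AddCommGroup S] [Module R S]
    {A P : Type u} [AddCommGroup A] [Module R A] [AddCommGroup P] [Module R P] [Module.Projective R P]
    (i : A →ₗ[R] P) (hi : Function.Injective i) :
    ↥(LinearMap.ker (i.lTensor S)) ≃ₗ[R]
    ((Tor (ModuleCat.{u} R) 1).obj (ModuleCat.of R S)).obj (ModuleCat.of R (P ⧸ LinearMap.range i)) :=
  ((torOneIso S i hi) ≪≫ ModuleCat.kernelIsoKer (ModuleCat.ofHom (i.lTensor S))).toLinearEquiv.symm

noncomputable def torCongr (n : ℕ) (S : Type u) [AddCommGroup S] [Module R S]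
    {M N : Type u} [AddCommGroup M] [Module R M] [AddCommGroup N] [Module R N] (e : M ≃ₗ[R] N) :
    ((Tor (ModuleCat.{u} R) n).obj (ModuleCat.of R S)).obj (ModuleCat.of R M) ≃ₗ[R]
    ((Tor (ModuleCat.{u} R) n).obj (ModuleCat.of R S)).obj (ModuleCat.of R N) :=
  (((Tor (ModuleCat.{u} R) n).obj (ModuleCat.of R S)).mapIso e.toModuleIso).toLinearEquiv

theorem nonempty_ker_equiv (S : Type u) [AddCommGroup S] [Module R S]
    {F M P : Type u} [AddCommGroup F] [Module R F] [Module.Projective R F] [AddCommGroup M] [Module R M]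
    [AddCommGroup P] [Module R P]
    (f : F →ₗ[R] M) (hf : Function.Injective f) (hSf : Function.Injective (f.lTensor S))
    (π : P →ₗ[R] M) (hπ : Function.Surjective π) :
    Nonempty (LinearMap.ker ((LinearMap.ker π).subtype.lTensor S) ≃ₗ[R]
      LinearMap.ker ((LinearMap.ker ((LinearMap.range f).mkQ ∘ₗ π)).subtype.lTensor S)) := by
  let q : P →ₗ[R] (M ⧸ LinearMap.range f) := (LinearMap.range f).mkQ ∘ₗ π
  have hq : Function.Surjective q := (Submodule.mkQ_surjective _).comp hπ
  let K := LinearMap.ker π
  let K' := LinearMap.ker q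
  have hKK' : K ≤ K' := fun x hx => by
    rw [LinearMap.mem_ker, LinearMap.comp_apply, LinearMap.mem_ker.1 hx, map_zero]
  -- the map K' → F
  have hpre : ∀ x : K', π (x : P) ∈ LinearMap.range f := fun x => by
    have h1 : (LinearMap.range f).mkQ (π (x : P)) = 0 := x.2
    rwa [Submodule.mkQ_apply, Submodule.Quotient.mk_eq_zero] at h1
  let ef := LinearEquiv.ofInjective f hf
  let p : K' →ₗ[R] F := ef.symm.toLinearMap ∘ₗ
    (LinearMap.codRestrict (LinearMap.range f) (π ∘ₗ K'.subtype) hpre)
  have hfp : f ∘ₗ p = π ∘ₗ K'.subtype := by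
    ext x
    have h1 : ((ef (p x) : LinearMap.range f) : M) = π (x : P) := by
      change ((ef (ef.symm _) : LinearMap.range f) : M) = _
      rw [LinearEquiv.apply_symm_apply]
      rfl
    exact h1
  have hp : Function.Surjective p := by
    intro y
    obtain ⟨x, hx⟩ := hπ (f y)
    have hxK' : x ∈ K' := by
      rw [LinearMap.mem_ker, LinearMap.comp_apply, hx, Submodule.mkQ_apply, Submodule.Quotient.mk_eq_zero]
      exact ⟨y, rfl⟩
    refine ⟨⟨x, hxK'⟩, hf ?_⟩
    have := congrArg (fun g => g (⟨x, hxK'⟩ : K')) hfp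
    exact this.trans hx
  let j : K →ₗ[R] K' := Submodule.inclusion hKK'
  have hexact : Function.Exact j p := by
    intro x
    constructor
    · intro hx
      have h1 : π (x : P) = 0 := by
        have := congrArg (fun g => g x) hfp
        change f (p x) = π (x : P) at this
        rw [← this, hx, map_zero]
      exact ⟨⟨x, h1⟩, rfl⟩
    · rintro ⟨y, rfl⟩
      apply hf
      have := congrArg (fun g => g (j y)) hfp
      change f (p (j y)) = π (y : P) at this
      rw [this, map_zero]
      exact y.2
  -- splitting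
  obtain ⟨s, hs⟩ := Module.projective_lifting_property p LinearMap.id hp
  have hjinj : Function.Injective (j.lTensor S) := by
    -- retraction of j
    have hr : ∀ x : K', (x - s (p x) : K') ∈ LinearMap.range j := fun x => by
      have h1 : p (x - s (p x)) = 0 := by
        have := congrArg (fun g => g (p x)) hs
        change p (s (p x)) = p x at this
        rw [map_sub, this, sub_self]
      exact (hexact _).1 h1
    have hj0 : Function.Injective j := Submodule.inclusion_injective hKK'
    let ej := LinearEquiv.ofInjective j hj0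
    let r : K' →ₗ[R] K := ej.symm.toLinearMap ∘ₗ
      (LinearMap.codRestrict (LinearMap.range j) (LinearMap.id - s ∘ₗ p) hr)
    have hrj : r ∘ₗ j = LinearMap.id := by
      ext1 x
      apply hj0
      have h1 : j (r (j x)) = j x - s (p (j x)) := by
        change ((ej (ej.symm _) : LinearMap.range j) : K') = _
        rw [LinearEquiv.apply_symm_apply]
        rfl
      have h2 : p (j x) = 0 := (hexact _).2 ⟨x, rfl⟩
      rw [h2, map_zero, sub_zero] at h1
      exact h1
    apply Function.LeftInverse.injective (g := r.lTensor S)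
    intro x
    rw [← LinearMap.comp_apply, ← LinearMap.lTensor_comp, hrj, LinearMap.lTensor_id, LinearMap.id_apply]
  have hSexact := lTensor_exact S hexact hp
  have hcomm : K'.subtype ∘ₗ j = K.subtype := rfl
  have hcommS : (K'.subtype.lTensor S) ∘ₗ (j.lTensor S) = K.subtype.lTensor S := by
    rw [← LinearMap.lTensor_comp, hcomm]
  have hfpS : (f.lTensor S) ∘ₗ (p.lTensor S) = (π.lTensor S) ∘ₗ (K'.subtype.lTensor S) := by
    rw [← LinearMap.lTensor_comp, ← LinearMap.lTensor_comp, hfp]
  let J : LinearMap.ker (K.subtype.lTensor S) →ₗ[R] LinearMap.ker (K'.subtype.lTensor S) :=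
    LinearMap.codRestrict _ ((j.lTensor S) ∘ₗ (LinearMap.ker (K.subtype.lTensor S)).subtype) (fun x => by
      rw [LinearMap.mem_ker, LinearMap.comp_apply, ← LinearMap.comp_apply, hcommS]
      exact x.2)
  have hJ : Function.Bijective J := by
    constructor
    · intro x y hxy
      apply Subtype.ext
      apply hjinj
      exact congrArg Subtype.val hxy
    · rintro ⟨y, hy⟩
      have h1 : (p.lTensor S) y = 0 := by
        apply hSf
        rw [← LinearMap.comp_apply, hfpS, LinearMap.comp_apply, LinearMap.mem_ker.1 hy, map_zero, map_zero]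
      obtain ⟨x, hx⟩ := (hSexact y).1 h1
      refine ⟨⟨x, ?_⟩, Subtype.ext hx⟩
      rw [LinearMap.mem_ker, ← hcommS, LinearMap.comp_apply, hx]
      exact hy
  exact ⟨LinearEquiv.ofBijective J hJ⟩

/-- `Tor₁` of the target of a surjection from a projective. -/
noncomputable def torKer (S : Type u) [AddCommGroup S] [Module R S]
    {P M : Type u} [AddCommGroup P] [Module R P] [Module.Projective R P] [AddCommGroup M] [Module R M]
    (π : P →ₗ[R] M) (hπ : Function.Surjective π) :
    LinearMap.ker ((LinearMap.ker π).subtype.lTensor S) ≃ₗ[R]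
      ((Tor (ModuleCat.{u} R) 1).obj (ModuleCat.of R S)).obj (ModuleCat.of R M) :=
  (torOneEquiv S (LinearMap.ker π).subtype (LinearMap.ker π).subtype_injective) ≪≫ₗ
    torCongr 1 S ((Submodule.quotEquivOfEq _ _ (Submodule.range_subtype _)) ≪≫ₗ
      π.quotKerEquivOfSurjective hπ)

/-- If `0 → F → M → T → 0` is exact, `F` flat and `S ⊗ F → S ⊗ M` injective, then
`Tor₁(S, M) ≅ Tor₁(S, T)`. -/
theorem nonempty_torOne_equiv (S : Type u) [AddCommGroup S] [Module R S]
    {F M : Type u} [AddCommGroup F] [Module R F] [Module.Projective R F] [AddCommGroup M] [Module R M]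
    (f : F →ₗ[R] M) (hf : Function.Injective f) (hSf : Function.Injective (f.lTensor S)) :
    Nonempty (((Tor (ModuleCat.{u} R) 1).obj (ModuleCat.of R S)).obj (ModuleCat.of R M) ≃ₗ[R]
      ((Tor (ModuleCat.{u} R) 1).obj (ModuleCat.of R S)).obj (ModuleCat.of R (M ⧸ LinearMap.range f))) := by
  have hπ : Function.Surjective (Finsupp.linearCombination R (fun m : M => m)) :=
    fun m => ⟨Finsupp.single m 1, by rw [Finsupp.linearCombination_single, one_smul]⟩
  obtain ⟨e⟩ := nonempty_ker_equiv S f hf hSf _ hπ
  exact ⟨(torKer S _ hπ).symm ≪≫ₗ e ≪≫ₗ torKer S _ ((Submodule.mkQ_surjective _).comp hπ)⟩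

end K839.TorOne
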